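import Mathlib
import Cfsg.Agent.Helper48.CoprimeGen

set_option autoImplicit false
set_option linter.style.haveILetI false
set_option linter.unusedSectionVars false

/-!
# Quadratic elements centralize the `p'`-groups they normalize (`p ≥ 5`) (helper54)

Ring form: `E` a ring with `p = 0`, `x ∈ Eˣ` with `(x - 1)^2 = 0`, `R ≤ Eˣ` a finite `p'`-subgroup
normalized by `x`.  Then `x` centralizes `R`.  The proof is an averaging argument (`avg`), used on
`E` itself (abelian case) and on the conjugation action on the commutant of `Z(R)` (where `Ad x` is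
cubic), so no representation theory is needed.
-/

namespace Cfsg.Agent.Helper54.Quad

section avg

variable {E : Type*} [Ring E]

theorem conj_pow_mem (R : Subgroup Eˣ) (x : Eˣ) (hnorm : ∀ u ∈ R, x * u * x⁻¹ ∈ R) (j : ℕ) :
    ∀ u ∈ R, x ^ j * u * (x ^ j)⁻¹ ∈ R := by
  induction j with
  | zero => intro u hu; simpa using hu
  | succ j ih =>
    intro u hu
    have h := hnorm _ (ih u hu)
    have e : x ^ (j + 1) * u * (x ^ (j + 1))⁻¹ = x * (x ^ j * u * (x ^ j)⁻¹) * x⁻¹ := by
      rw [pow_succ']; group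
    rw [e]; exact h

/-- The averaging lemma. -/
theorem avg (R : Subgroup Eˣ) [Finite R] (x : Eˣ) (hnorm : ∀ u ∈ R, x * u * x⁻¹ ∈ R)
    (k : ℕ) (c : ℕ → ℤ) (hpoly : ∑ j ∈ Finset.range (k + 1), (c j : E) * (x : E) ^ j = 0)
    (hfix : ∀ j, 1 ≤ j → j ≤ k → ∀ u ∈ R, x ^ j * u = u * x ^ j → u = 1) :
    ∀ w ∈ R, (w : E) * ((c 0 : E) * (Nat.card R : E)) = (c 0 : E) * (Nat.card R : E) := by
  classical
  haveI : Fintype R := Fintype.ofFinite R
  set N : E := ∑ u : R, ((u : Eˣ) : E) with hN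
  have hwN : ∀ w ∈ R, (w : E) * N = N := by
    intro w hw
    rw [hN, Finset.mul_sum]
    exact Fintype.sum_equiv (Equiv.mulLeft (⟨w, hw⟩ : R)) _ _ (fun u => by simp)
  -- the twisted sums
  have hsum : ∀ j, 1 ≤ j → j ≤ k →
      ∑ u : R, (((u : Eˣ)⁻¹ : Eˣ) : E) * (x : E) ^ j * ((u : Eˣ) : E) = N * (x : E) ^ j := by
    intro j hj1 hjk
    let β : R → R := fun u => ⟨(u : Eˣ)⁻¹ * (x ^ j * u * (x ^ j)⁻¹),
      R.mul_mem (R.inv_mem u.2) (conj_pow_mem R x hnorm j u u.2)⟩
    have hβinj : Function.Injective β := by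
      intro u v huv
      have h1 : (u : Eˣ)⁻¹ * (x ^ j * u * (x ^ j)⁻¹) = (v : Eˣ)⁻¹ * (x ^ j * v * (x ^ j)⁻¹) :=
        congrArg Subtype.val huv
      have h2 : x ^ j * ((v : Eˣ) * (u : Eˣ)⁻¹) = ((v : Eˣ) * (u : Eˣ)⁻¹) * x ^ j := by
        have h3 : (u : Eˣ)⁻¹ * x ^ j * u = (v : Eˣ)⁻¹ * x ^ j * v := by
          have := congrArg (fun t => t * x ^ j) h1
          simpa [mul_assoc] using this
        calc x ^ j * ((v : Eˣ) * (u : Eˣ)⁻¹)
            = (v : Eˣ) * ((v : Eˣ)⁻¹ * x ^ j * v) * (u : Eˣ)⁻¹ := by group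
          _ = (v : Eˣ) * ((u : Eˣ)⁻¹ * x ^ j * u) * (u : Eˣ)⁻¹ := by rw [h3]
          _ = ((v : Eˣ) * (u : Eˣ)⁻¹) * x ^ j := by group
      have h4 := hfix j hj1 hjk _ (R.mul_mem v.2 (R.inv_mem u.2)) h2
      have h5 : (v : Eˣ) = u := by
        have := mul_inv_eq_one.mp h4
        exact this
      exact Subtype.ext h5.symm
    have hβbij : Function.Bijective β := Finite.injective_iff_bijective.mp hβinj
    have h1 : ∀ u : R, (((u : Eˣ)⁻¹ : Eˣ) : E) * (x : E) ^ j * ((u : Eˣ) : E) =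
        (((β u : R) : Eˣ) : E) * (x : E) ^ j := by
      intro u
      have e : ((u : Eˣ)⁻¹ * x ^ j * u : Eˣ) = ((β u : R) : Eˣ) * x ^ j := by
        show _ = ((u : Eˣ)⁻¹ * (x ^ j * u * (x ^ j)⁻¹)) * x ^ j
        group
      have := congrArg (fun t : Eˣ => (t : E)) e
      simpa [Units.val_mul, Units.val_pow_eq_pow_val] using this
    rw [Finset.sum_congr rfl (fun u _ => h1 u), ← Finset.sum_mul]
    congr 1
    exact hβbij.sum_comp (fun w : R => ((w : Eˣ) : E))
  have hsum0 : ∑ u : R, (((u : Eˣ)⁻¹ : Eˣ) : E) * (x : E) ^ 0 * ((u : Eˣ) : E) = (Nat.card R : E) := by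
    simp [Nat.card_eq_fintype_card]
  -- conjugate the polynomial relation and sum
  have hzero : ∑ u : R, (((u : Eˣ)⁻¹ : Eˣ) : E) *
      (∑ j ∈ Finset.range (k + 1), (c j : E) * (x : E) ^ j) * ((u : Eˣ) : E) = 0 := by
    rw [hpoly]; simp
  have hexp : ∑ u : R, (((u : Eˣ)⁻¹ : Eˣ) : E) *
      (∑ j ∈ Finset.range (k + 1), (c j : E) * (x : E) ^ j) * ((u : Eˣ) : E) =
      ∑ j ∈ Finset.range (k + 1), (c j : E) *
        ∑ u : R, (((u : Eˣ)⁻¹ : Eˣ) : E) * (x : E) ^ j * ((u : Eˣ) : E) := by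
    simp_rw [Finset.mul_sum, Finset.sum_mul]
    rw [Finset.sum_comm]
    refine Finset.sum_congr rfl (fun j _ => Finset.sum_congr rfl (fun u _ => ?_))
    have hc : Commute ((c j : ℤ) : E) ((((u : Eˣ)⁻¹ : Eˣ) : E)) := Int.cast_commute _ _
    rw [← mul_assoc, ← mul_assoc, ← mul_assoc, hc.eq]
  rw [hexp, Finset.sum_range_succ', hsum0] at hzero
  set A : E := ∑ j ∈ Finset.range k, (c (j + 1) : E) *
      ∑ u : R, (((u : Eˣ)⁻¹ : Eˣ) : E) * (x : E) ^ (j + 1) * ((u : Eˣ) : E) with hA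
  intro w hw
  have hwA : (w : E) * A = A := by
    rw [hA, Finset.mul_sum]
    refine Finset.sum_congr rfl (fun j hj => ?_)
    rw [hsum (j + 1) (by omega) (by have := Finset.mem_range.mp hj; omega)]
    have hc : Commute ((c (j + 1) : ℤ) : E) (w : E) := Int.cast_commute _ _
    rw [← mul_assoc, ← hc.eq, mul_assoc, ← mul_assoc (w : E), hwN w hw]
  have h0 : (c 0 : E) * (Nat.card R : E) = -A := by
    rw [eq_neg_iff_add_eq_zero, add_comm]; exact hzero
  rw [h0, mul_neg, hwA]

end avg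

section basics

theorem commute_of_pow_commute {G : Type*} [Group G] {x u : G} {p : ℕ} (hp : p.Prime)
    (hxp : x ^ p = 1) {j : ℕ} (hj1 : 1 ≤ j) (hjp : j < p) (h : Commute (x ^ j) u) : Commute x u := by
  have hcop : j.Coprime p :=
    (Nat.coprime_comm.mp ((Nat.Prime.coprime_iff_not_dvd hp).mpr (Nat.not_dvd_of_pos_of_lt hj1 hjp)))
  obtain ⟨m, -, hm⟩ := Nat.exists_mul_mod_eq_one_of_coprime hcop hp.one_lt
  have h1 : x ^ (j * m) = x := by
    rw [← Nat.div_add_mod (j * m) p, hm, pow_add, pow_mul, hxp, one_pow, one_mul, pow_one]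
  have h2 : Commute ((x ^ j) ^ m) u := h.pow_left m
  rwa [← pow_mul, h1] at h2

theorem eq_one_of_conj_eq_mul {G : Type*} [Group G] {x w u : G} {p : ℕ}
    (hxp : x ^ p = 1) (hwx : Commute w x) (h : u⁻¹ * x * u = w * x) {n : ℕ} (hwn : w ^ n = 1)
    (hcop : n.Coprime p) : w = 1 := by
  have h1 : (u⁻¹ * x * u) ^ p = 1 := by
    have : (u⁻¹ * x * u) ^ p = u⁻¹ * x ^ p * u := by
      have := conj_pow (a := u⁻¹) (b := x) (i := p)
      simpa using this
    rw [this, hxp]; group
  rw [h, hwx.mul_pow, hxp, mul_one] at h1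
  have h2 : w ^ (n.gcd p) = 1 := pow_gcd_eq_one.mpr ⟨hwn, h1⟩
  rwa [hcop, pow_one] at h2

theorem eq_zero_of_nsmul_eq_zero {A : Type*} [AddCommGroup A] {p n : ℕ} (hcop : n.Coprime p)
    {a : A} (hp : p • a = 0) (hn : n • a = 0) : a = 0 := by
  have h : (n.gcd p : ℤ) = n * Nat.gcdA n p + p * Nat.gcdB n p := Nat.gcd_eq_gcd_ab n p
  rw [hcop] at h
  have h1 : ((1 : ℕ) : ℤ) • a = 0 := by
    rw [h, add_smul, mul_comm (n : ℤ), mul_comm (p : ℤ), mul_smul, mul_smul, natCast_zsmul,
      natCast_zsmul, hn, hp]; simp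
  simpa using h1

end basics

section quad

variable {E : Type*} [Ring E]

theorem val_pow_eq (x : Eˣ) (hx : ((x : E) - 1) ^ 2 = 0) (n : ℕ) :
    ((x ^ n : Eˣ) : E) = 1 + (n : E) * ((x : E) - 1) := by
  have ha : ((x : E) - 1) * ((x : E) - 1) = 0 := by rw [← sq]; exact hx
  induction n with
  | zero => simp
  | succ n ih =>
    rw [pow_succ, Units.val_mul, ih]
    have hx1 : (x : E) = 1 + ((x : E) - 1) := by abel
    set a := (x : E) - 1 with hadef
    rw [hx1]
    have : (1 + (n : E) * a) * (1 + a) = 1 + ((n : E) + 1) * a + (n : E) * (a * a) := by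
      noncomm_ring
    rw [this, ha]; push_cast; simp

theorem val_pow_inv_eq (x : Eˣ) (hx : ((x : E) - 1) ^ 2 = 0) (n : ℕ) :
    (((x ^ n)⁻¹ : Eˣ) : E) = 1 - (n : E) * ((x : E) - 1) := by
  have ha : ((x : E) - 1) * ((x : E) - 1) = 0 := by rw [← sq]; exact hx
  apply Units.inv_eq_of_mul_eq_one_right
  rw [val_pow_eq x hx n]
  set a := (x : E) - 1 with hadef
  have hc : Commute (n : E) a := Nat.cast_commute n a
  have : (1 + (n : E) * a) * (1 - (n : E) * a) = 1 - (n : E) * ((n : E) * (a * a)) := by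
    have h2 : a * ((n : E) * a) = (n : E) * (a * a) := by
      rw [← mul_assoc a, ← hc.eq, mul_assoc]
    noncomm_ring
    rw [h2]
  rw [this, ha]; simp

theorem pow_prime_eq_one {p : ℕ} (hchar : (p : E) = 0) (x : Eˣ) (hx : ((x : E) - 1) ^ 2 = 0) :
    x ^ p = 1 := by
  apply Units.ext
  rw [val_pow_eq x hx p, hchar]; simp

theorem centralizes_of_centralizes_comm {p : ℕ} (hchar : (p : E) = 0) (x : Eˣ)
    (hx : ((x : E) - 1) ^ 2 = 0) (R : Subgroup Eˣ) [Finite R]
    (hcop : (Nat.card R).Coprime p) (hnorm : ∀ u ∈ R, x * u * x⁻¹ ∈ R)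
    (h : ∀ u ∈ R, x * (u⁻¹ * (x * u * x⁻¹)) = (u⁻¹ * (x * u * x⁻¹)) * x) :
    ∀ u ∈ R, x * u = u * x := by
  intro u hu
  have hxp := pow_prime_eq_one hchar x hx
  have hw : u⁻¹ * (x * u * x⁻¹) ∈ R := R.mul_mem (R.inv_mem hu) (hnorm u hu)
  have hwn : (u⁻¹ * (x * u * x⁻¹)) ^ Nat.card R = 1 := by
    have := pow_card_eq_one' (G := R) (x := ⟨_, hw⟩)
    exact congrArg Subtype.val this
  have h1 : u⁻¹ * (x * u * x⁻¹) = 1 :=
    eq_one_of_conj_eq_mul (u := u) hxp (h u hu).symm (by group) hwn hcop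
  have h2 : x * u * x⁻¹ = u := by
    have := congrArg (fun t => u * t) h1
    simpa using this
  calc x * u = (x * u * x⁻¹) * x := by group
    _ = u * x := by rw [h2]

/-- The abelian case: an abelian `p'`-group `R = [R, x]` normalized by a quadratic `x` is trivial. -/
theorem eq_one_of_abelian {p : ℕ} [hp : Fact p.Prime] (hp3 : 3 ≤ p) (hchar : (p : E) = 0) (x : Eˣ)
    (hx : ((x : E) - 1) ^ 2 = 0) (R : Subgroup Eˣ) [Finite R]
    (hcop : (Nat.card R).Coprime p) (hnorm : ∀ u ∈ R, x * u * x⁻¹ ∈ R)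
    (hab : ∀ u ∈ R, ∀ v ∈ R, u * v = v * u)
    (hgen : R ≤ Subgroup.closure {w | ∃ u ∈ R, w = u⁻¹ * (x * u * x⁻¹)}) :
    ∀ w ∈ R, w = 1 := by
  have hxp := pow_prime_eq_one hchar x hx
  -- the commutator homomorphism
  let θ : R →* R :=
    { toFun := fun u => ⟨(u : Eˣ)⁻¹ * (x * u * x⁻¹), R.mul_mem (R.inv_mem u.2) (hnorm u u.2)⟩
      map_one' := by apply Subtype.ext; simp
      map_mul' := by
        intro u v
        apply Subtype.ext
        have h1 := hab _ (R.inv_mem v.2) _ (R.mul_mem (R.inv_mem u.2) (hnorm u u.2))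
        show ((u : Eˣ) * v)⁻¹ * (x * (u * v) * x⁻¹) =
          ((u : Eˣ)⁻¹ * (x * u * x⁻¹)) * ((v : Eˣ)⁻¹ * (x * v * x⁻¹))
        calc ((u : Eˣ) * v)⁻¹ * (x * (u * v) * x⁻¹)
            = ((v : Eˣ)⁻¹ * ((u : Eˣ)⁻¹ * (x * u * x⁻¹))) * (x * v * x⁻¹) := by group
          _ = (((u : Eˣ)⁻¹ * (x * u * x⁻¹)) * (v : Eˣ)⁻¹) * (x * v * x⁻¹) := by rw [h1]
          _ = _ := by group }
  have hθsurj : Function.Surjective θ := by
    have hle : R ≤ (θ.range).map R.subtype := by
      refine hgen.trans ?_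
      rw [Subgroup.closure_le]
      rintro w ⟨u, hu, rfl⟩
      exact ⟨θ ⟨u, hu⟩, ⟨⟨u, hu⟩, rfl⟩, rfl⟩
    intro v
    obtain ⟨v', ⟨u, rfl⟩, hv'⟩ := hle v.2
    exact ⟨u, Subtype.ext hv'⟩
  have hθinj : Function.Injective θ := Finite.injective_iff_surjective.mpr hθsurj
  have hC : ∀ u ∈ R, x * u = u * x → u = 1 := by
    intro u hu hxu
    have h1 : θ ⟨u, hu⟩ = 1 := by
      apply Subtype.ext
      show u⁻¹ * (x * u * x⁻¹) = 1
      rw [hxu]; group
    have h2 := hθinj (h1.trans (map_one θ).symm)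
    exact congrArg Subtype.val h2
  -- averaging
  let c : ℕ → ℤ := fun j => if j = 1 then -2 else 1
  have hpoly : ∑ j ∈ Finset.range (2 + 1), (c j : E) * (x : E) ^ j = 0 := by
    simp only [Finset.sum_range_succ, Finset.sum_range_zero, c]
    have : ((x : E) - 1) ^ 2 = 1 + -2 * (x : E) + (x : E) ^ 2 := by noncomm_ring
    rw [this] at hx
    simpa using hx
  have hfix : ∀ j, 1 ≤ j → j ≤ 2 → ∀ u ∈ R, x ^ j * u = u * x ^ j → u = 1 := by
    intro j hj1 hj2 u hu hcomm
    have : Commute x u := commute_of_pow_commute hp.out hxp hj1 (by omega) hcomm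
    exact hC u hu this
  have key := avg R x hnorm 2 c hpoly hfix
  intro w hw
  have h1 := key w hw
  have hc0 : ((c 0 : ℤ) : E) = 1 := by simp [c]
  rw [hc0, one_mul] at h1
  have h2 : Nat.card R • ((w : E) - 1) = 0 := by
    rw [nsmul_eq_mul, (Nat.cast_commute _ _).eq, sub_mul, h1, one_mul, sub_self]
  have h3 : p • ((w : E) - 1) = 0 := by rw [nsmul_eq_mul, hchar, zero_mul]
  have h4 := eq_zero_of_nsmul_eq_zero hcop h3 h2
  apply Units.ext
  rw [Units.val_one]
  exact sub_eq_zero.mp h4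

end quad

section nonab

variable {E : Type*} [Ring E]

/-- The additive group of elements commuting with a set. -/
def commutant (S : Set E) : AddSubgroup E where
  carrier := {T | ∀ z ∈ S, T * z = z * T}
  zero_mem' := by intro z _; simp
  add_mem' := by intro a b ha hb z hz; rw [add_mul, mul_add, ha z hz, hb z hz]
  neg_mem' := by intro a ha z hz; rw [neg_mul, mul_neg, ha z hz]

/-- The units commuting with a set. -/
def cz (S : Set E) : Subgroup Eˣ where
  carrier := {g | ∀ z ∈ S, (g : E) * z = z * (g : E)}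
  one_mem' := by intro z _; simp
  mul_mem' := by
    intro a b ha hb z hz
    rw [Units.val_mul, mul_assoc, hb z hz, ← mul_assoc, ha z hz, mul_assoc]
  inv_mem' := by
    intro a ha z hz
    have h := ha z hz
    calc ((a⁻¹ : Eˣ) : E) * z = ((a⁻¹ : Eˣ) : E) * (z * (a : E)) * ((a⁻¹ : Eˣ) : E) := by
          rw [mul_assoc, mul_assoc, Units.mul_inv, mul_one]
      _ = ((a⁻¹ : Eˣ) : E) * ((a : E) * z) * ((a⁻¹ : Eˣ) : E) := by rw [h]
      _ = z * ((a⁻¹ : Eˣ) : E) := by rw [← mul_assoc, Units.inv_mul, one_mul]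

theorem conj_mem_commutant (S : Set E) (g : cz S) (T : commutant S) :
    ((g : Eˣ) : E) * (T : E) * (((g : Eˣ)⁻¹ : Eˣ) : E) ∈ commutant S := by
  intro z hz
  have h1 := g.2 z hz
  have h2 : (((g : Eˣ)⁻¹ : Eˣ) : E) * z = z * (((g : Eˣ)⁻¹ : Eˣ) : E) := (cz S).inv_mem g.2 z hz
  have h3 := T.2 z hz
  calc ((g : Eˣ) : E) * (T : E) * (((g : Eˣ)⁻¹ : Eˣ) : E) * z
      = ((g : Eˣ) : E) * (T : E) * ((((g : Eˣ)⁻¹ : Eˣ) : E) * z) := by rw [mul_assoc]
    _ = ((g : Eˣ) : E) * ((T : E) * z) * (((g : Eˣ)⁻¹ : Eˣ) : E) := by rw [h2]; noncomm_ring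
    _ = (((g : Eˣ) : E) * z) * (T : E) * (((g : Eˣ)⁻¹ : Eˣ) : E) := by rw [h3]; noncomm_ring
    _ = z * (((g : Eˣ) : E) * (T : E) * (((g : Eˣ)⁻¹ : Eˣ) : E)) := by rw [h1]; noncomm_ring

/-- Conjugation on the commutant. -/
def adFun (S : Set E) (g : cz S) : commutant S →+ commutant S where
  toFun T := ⟨((g : Eˣ) : E) * (T : E) * (((g : Eˣ)⁻¹ : Eˣ) : E), conj_mem_commutant S g T⟩
  map_zero' := by apply Subtype.ext; simp
  map_add' := by intro a b; apply Subtype.ext; simp [mul_add, add_mul]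

@[simp] theorem adFun_apply_coe (S : Set E) (g : cz S) (T : commutant S) :
    ((adFun S g T : commutant S) : E) = ((g : Eˣ) : E) * (T : E) * (((g : Eˣ)⁻¹ : Eˣ) : E) := rfl

/-- Conjugation as a monoid homomorphism into the endomorphism ring of the commutant. -/
def adHom (S : Set E) : cz S →* AddMonoid.End (commutant S) where
  toFun g := adFun S g
  map_one' := by
    apply AddMonoidHom.ext; intro T; apply Subtype.ext
    show ((adFun S 1 T : commutant S) : E) = (T : E)
    simp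
  map_mul' := by
    intro g h
    apply AddMonoidHom.ext; intro T; apply Subtype.ext
    show ((adFun S (g * h) T : commutant S) : E) = ((adFun S g (adFun S h T) : commutant S) : E)
    simp [mul_assoc]

theorem end_eval4 {M : Type*} [AddCommGroup M] (z0 z1 z2 z3 : ℤ) (f0 f1 f2 f3 : AddMonoid.End M)
    (T : M) :
    (((z0 : ℤ) : AddMonoid.End M) * f0 + ((z1 : ℤ) : AddMonoid.End M) * f1 +
      ((z2 : ℤ) : AddMonoid.End M) * f2 + ((z3 : ℤ) : AddMonoid.End M) * f3) T =
      z0 • f0 T + z1 • f1 T + z2 • f2 T + z3 • f3 T := by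
  have h : ∀ (z : ℤ) (f : AddMonoid.End M), (((z : ℤ) : AddMonoid.End M) * f) T = z • f T := by
    intro z f
    rw [AddMonoid.End.coe_mul, Function.comp_apply, AddMonoid.End.intCast_apply]
  have hadd : ∀ (f g : AddMonoid.End M), (f + g) T = f T + g T := fun f g => rfl
  rw [hadd, hadd, hadd, h, h, h, h]

theorem adHom_pow_apply (S : Set E) (g : cz S) (j : ℕ) (T : commutant S) :
    (((adHom S g) ^ j) T : E) =
      (((g : Eˣ) ^ j : Eˣ) : E) * (T : E) * ((((g : Eˣ) ^ j)⁻¹ : Eˣ) : E) := by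
  rw [← map_pow]
  show ((adFun S (g ^ j) T : commutant S) : E) = _
  rw [adFun_apply_coe, Subgroup.coe_pow]

/-- The non-abelian case: if `C_R(x) = Z(R)` for a `p'`-group `R` normalized by the quadratic
element `x` (`p ≥ 5`), then `R` is abelian. -/
theorem abelian_of_center {p : ℕ} [hp : Fact p.Prime] (hp5 : 5 ≤ p) (hchar : (p : E) = 0) (x : Eˣ)
    (hx : ((x : E) - 1) ^ 2 = 0) (R : Subgroup Eˣ) [Finite R]
    (hcop : (Nat.card R).Coprime p) (hnorm : ∀ u ∈ R, x * u * x⁻¹ ∈ R)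
    (hZ1 : ∀ z ∈ R, (∀ v ∈ R, z * v = v * z) → x * z = z * x)
    (hZ2 : ∀ u ∈ R, x * u = u * x → ∀ v ∈ R, u * v = v * u) :
    ∀ u ∈ R, ∀ v ∈ R, u * v = v * u := by
  classical
  have hxp := pow_prime_eq_one hchar x hx
  set S : Set E := {t | ∃ z ∈ R, (∀ v ∈ R, z * v = v * z) ∧ t = ((z : Eˣ) : E)} with hS
  have hRcz : R ≤ cz S := by
    rintro r hr _ ⟨z, hz, hzc, rfl⟩
    have := hzc r hr
    have h2 := congrArg (fun t : Eˣ => (t : E)) this
    simpa using h2.symm
  have hxcz : x ∈ cz S := by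
    rintro _ ⟨z, hz, hzc, rfl⟩
    have := hZ1 z hz hzc
    have h2 := congrArg (fun t : Eˣ => (t : E)) this
    simpa using h2
  have hRcomm : ∀ v ∈ R, ((v : Eˣ) : E) ∈ commutant S := by
    rintro v hv _ ⟨z, hz, hzc, rfl⟩
    have := hzc v hv
    have h2 := congrArg (fun t : Eˣ => (t : E)) this
    simpa using h2.symm
  let Ad : cz S →* (AddMonoid.End (commutant S))ˣ := (adHom S).toHomUnits
  have hAdval : ∀ g : cz S, ((Ad g : (AddMonoid.End (commutant S))ˣ) : AddMonoid.End (commutant S)) =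
      adHom S g := fun g => MonoidHom.coe_toHomUnits _ g
  set RR : Subgroup (AddMonoid.End (commutant S))ˣ := (R.subgroupOf (cz S)).map Ad with hRR
  haveI hfinsub : Finite (R.subgroupOf (cz S)) :=
    Finite.of_equiv R (Subgroup.subgroupOfEquivOfLe hRcz).symm.toEquiv
  haveI : Finite RR := by
    rw [hRR]
    exact Finite.of_surjective (fun g : R.subgroupOf (cz S) => (⟨Ad g, Subgroup.mem_map_of_mem _ g.2⟩ :
      (R.subgroupOf (cz S)).map Ad)) (by
        rintro ⟨_, ⟨g, hg, rfl⟩⟩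
        exact ⟨⟨g, hg⟩, rfl⟩)
  have hcardRR : (Nat.card RR).Coprime p := by
    have h1 : Nat.card RR ∣ Nat.card (R.subgroupOf (cz S)) := Subgroup.card_map_dvd _ _
    have h2 : Nat.card (R.subgroupOf (cz S)) = Nat.card R :=
      Nat.card_congr (Subgroup.subgroupOfEquivOfLe hRcz).toEquiv
    rw [h2] at h1
    exact Nat.Coprime.coprime_dvd_left h1 hcop
  set X := Ad ⟨x, hxcz⟩ with hX
  have hmemRR : ∀ w ∈ RR, ∃ r, ∃ hr : r ∈ R, w = Ad ⟨r, hRcz hr⟩ := by
    rintro w ⟨g, hg, rfl⟩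
    exact ⟨g, Subgroup.mem_subgroupOf.mp hg, rfl⟩
  have hAdmem : ∀ r, ∀ hr : r ∈ R, Ad ⟨r, hRcz hr⟩ ∈ RR := by
    intro r hr
    exact Subgroup.mem_map_of_mem _ (Subgroup.mem_subgroupOf.mpr hr)
  have hnorm' : ∀ w ∈ RR, X * w * X⁻¹ ∈ RR := by
    intro w hw
    obtain ⟨r, hr, rfl⟩ := hmemRR w hw
    have : X * Ad ⟨r, hRcz hr⟩ * X⁻¹ = Ad ⟨x * r * x⁻¹, hRcz (hnorm r hr)⟩ := by
      rw [hX, ← map_inv, ← map_mul, ← map_mul]; rfl
    rw [this]
    exact hAdmem _ (hnorm r hr)
  -- the cubic relation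
  let c : ℕ → ℤ := fun j => if j = 0 then 1 else if j = 1 then -3 else if j = 2 then 3 else -1
  have hpoly : ∑ j ∈ Finset.range (3 + 1), ((c j : ℤ) : AddMonoid.End (commutant S)) *
      ((X : (AddMonoid.End (commutant S))ˣ) : AddMonoid.End (commutant S)) ^ j = 0 := by
    have hc0 : c 0 = 1 := by simp [c]
    have hc1 : c 1 = -3 := by simp [c]
    have hc2 : c 2 = 3 := by simp [c]
    have hc3 : c 3 = -1 := by simp [c]
    have e : ∀ f : ℕ → AddMonoid.End (commutant S),
        ∑ j ∈ Finset.range (3 + 1), f j = f 0 + f 1 + f 2 + f 3 := by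
      intro f; simp [Finset.sum_range_succ]
    rw [e, hc0, hc1, hc2, hc3, hX, hAdval]
    have hT : ∀ T : commutant S,
        ((((1 : ℤ)) : AddMonoid.End (commutant S)) * (adHom S ⟨x, hxcz⟩) ^ 0 +
          (((-3 : ℤ)) : AddMonoid.End (commutant S)) * (adHom S ⟨x, hxcz⟩) ^ 1 +
          (((3 : ℤ)) : AddMonoid.End (commutant S)) * (adHom S ⟨x, hxcz⟩) ^ 2 +
          (((-1 : ℤ)) : AddMonoid.End (commutant S)) * (adHom S ⟨x, hxcz⟩) ^ 3) T = 0 := by
      intro T
      rw [end_eval4]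
      apply Subtype.ext
      simp only [AddSubgroup.coe_add, AddSubgroup.coe_zsmul, adHom_pow_apply, AddSubgroup.coe_zero]
      simp only [val_pow_eq x hx, val_pow_inv_eq x hx]
      set a := (x : E) - 1 with ha
      set t := (T : E) with ht
      norm_num
      noncomm_ring
    exact DFunLike.ext _ _ hT
  have hfix : ∀ j, 1 ≤ j → j ≤ 3 → ∀ w ∈ RR, X ^ j * w = w * X ^ j → w = 1 := by
    intro j hj1 hj3 w hw hcomm
    obtain ⟨r, hr, rfl⟩ := hmemRR w hw
    -- t = x^j r x^-j r^-1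
    set y := x ^ j with hy
    have hyp : y ^ p = 1 := by rw [hy, ← pow_mul, mul_comm, pow_mul, hxp, one_pow]
    have hyR : y * r * y⁻¹ ∈ R := conj_pow_mem R x hnorm j r hr
    set t := y * r * y⁻¹ * r⁻¹ with ht
    have htR : t ∈ R := R.mul_mem hyR (R.inv_mem hr)
    have hycz : y ∈ cz S := (cz S).pow_mem hxcz j
    have hAdt : Ad ⟨t, hRcz htR⟩ = 1 := by
      have e : (⟨t, hRcz htR⟩ : cz S) = ⟨x, hxcz⟩ ^ j * ⟨r, hRcz hr⟩ * (⟨x, hxcz⟩ ^ j)⁻¹ *
          (⟨r, hRcz hr⟩)⁻¹ := by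
        apply Subtype.ext; simp [ht, hy]
      rw [e]
      simp only [map_mul, map_inv, map_pow]
      rw [← hX, hcomm]; group
    -- t is central in R
    have htc : ∀ v ∈ R, t * v = v * t := by
      intro v hv
      have h1 := congrArg (fun f : (AddMonoid.End (commutant S))ˣ =>
        (((f : AddMonoid.End (commutant S)) ⟨((v : Eˣ) : E), hRcomm v hv⟩ : commutant S) : E)) hAdt
      simp only [hAdval, Units.val_one] at h1
      have h2 : (t : E) * (v : E) * ((t⁻¹ : Eˣ) : E) = (v : E) := h1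
      apply Units.ext
      rw [Units.val_mul, Units.val_mul]
      calc (t : E) * (v : E) = (t : E) * (v : E) * ((t⁻¹ : Eˣ) : E) * (t : E) := by
            rw [mul_assoc ((t : E) * (v : E)), Units.inv_mul, mul_one]
        _ = (v : E) * (t : E) := by rw [h2]
    have htx : Commute t y := by
      have := hZ1 t htR htc
      exact ((Commute.pow_left (show Commute x t from this) j)).symm
    have hconj : r⁻¹ * y * r = t * y := by
      have h1 : r⁻¹ * t * r = t := by
        have := htc r hr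
        calc r⁻¹ * t * r = r⁻¹ * (t * r) := by group
          _ = r⁻¹ * (r * t) := by rw [this]
          _ = t := by group
      have hyr' : y * r = t * r * y := by rw [ht]; group
      calc r⁻¹ * y * r = r⁻¹ * (y * r) := by group
        _ = r⁻¹ * (t * r * y) := by rw [hyr']
        _ = (r⁻¹ * t * r) * y := by group
        _ = t * y := by rw [h1]
    have htn : t ^ Nat.card R = 1 := by
      have := pow_card_eq_one' (G := R) (x := ⟨t, htR⟩)
      exact congrArg Subtype.val this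
    have ht1 : t = 1 := eq_one_of_conj_eq_mul (u := r) hyp htx hconj htn hcop
    have hyr : Commute y r := by
      have : y * r * y⁻¹ * r⁻¹ = 1 := ht1
      have h2 : y * r = r * y := by
        calc y * r = (y * r * y⁻¹ * r⁻¹) * (r * y) := by group
          _ = r * y := by rw [this, one_mul]
      exact h2
    have hxr : Commute x r := commute_of_pow_commute hp.out hxp hj1 (by omega) hyr
    have hrc := hZ2 r hr hxr
    -- Ad r = 1
    apply Units.ext
    rw [hAdval, Units.val_one]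
    apply AddMonoidHom.ext
    intro T
    apply Subtype.ext
    show ((adFun S ⟨r, hRcz hr⟩ T : commutant S) : E) = (T : E)
    rw [adFun_apply_coe]
    have hrS : ((r : Eˣ) : E) ∈ S := ⟨r, hr, hrc, rfl⟩
    have := T.2 _ hrS
    show (r : E) * (T : E) * ((r⁻¹ : Eˣ) : E) = (T : E)
    rw [← this, mul_assoc, Units.mul_inv, mul_one]
  have key := avg RR X hnorm' 3 c hpoly hfix
  intro u hu v hv
  have h1 := key _ (hAdmem u hu)
  have hc0 : ((c 0 : ℤ) : AddMonoid.End (commutant S)) = 1 := by simp [c]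
  rw [hc0, one_mul] at h1
  have h2 := congrArg (fun f : AddMonoid.End (commutant S) =>
    ((f ⟨((v : Eˣ) : E), hRcomm v hv⟩ : commutant S) : E)) h1
  simp only [hAdval, AddMonoid.End.coe_mul, Function.comp_apply, AddMonoid.End.natCast_apply] at h2
  have h3 : (adHom S ⟨u, hRcz hu⟩) (Nat.card RR • (⟨((v : Eˣ) : E), hRcomm v hv⟩ : commutant S)) =
      Nat.card RR • (adHom S ⟨u, hRcz hu⟩) ⟨((v : Eˣ) : E), hRcomm v hv⟩ := map_nsmul _ _ _
  rw [h3] at h2
  have h4 : Nat.card RR • ((u : E) * (v : E) * ((u⁻¹ : Eˣ) : E) - (v : E)) = 0 := by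
    rw [smul_sub, sub_eq_zero]
    have h7 : (((adHom S ⟨u, hRcz hu⟩) ⟨((v : Eˣ) : E), hRcomm v hv⟩ : commutant S) : E) =
        (u : E) * (v : E) * ((u⁻¹ : Eˣ) : E) := rfl
    rw [← h7]
    simpa using h2
  have h5 : p • ((u : E) * (v : E) * ((u⁻¹ : Eˣ) : E) - (v : E)) = 0 := by
    rw [nsmul_eq_mul, hchar, zero_mul]
  have h6 := eq_zero_of_nsmul_eq_zero hcardRR h5 h4
  apply Units.ext
  rw [Units.val_mul, Units.val_mul]
  calc (u : E) * (v : E) = (u : E) * (v : E) * ((u⁻¹ : Eˣ) : E) * (u : E) := by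
        rw [mul_assoc ((u : E) * (v : E)), Units.inv_mul, mul_one]
    _ = (v : E) * (u : E) := by rw [sub_eq_zero.mp h6]

end nonab

section main

variable {E : Type*} [Ring E]

open scoped commutatorElement

/-- **Theorem Q**: for `p ≥ 5`, in a ring with `p = 0`, a unit `x` with `(x - 1)^2 = 0` centralizes
every finite `p'`-subgroup of units that it normalizes. -/
theorem quad_centralizes {p : ℕ} [hp : Fact p.Prime] (hp5 : 5 ≤ p)
    (hchar : (p : E) = 0) (x : Eˣ) (hx : ((x : E) - 1) ^ 2 = 0) :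
    ∀ (n : ℕ) (R : Subgroup Eˣ) [Finite R], Nat.card R = n → (Nat.card R).Coprime p →
      (∀ u ∈ R, x * u * x⁻¹ ∈ R) → ∀ u ∈ R, x * u = u * x := by
  intro n
  induction n using Nat.strong_induction_on with
  | _ n ih =>
  intro R _ hn hcop hnorm
  by_contra hne
  push Not at hne
  have hxp := pow_prime_eq_one hchar x hx
  -- invariance under x⁻¹
  have hnorm_inv : ∀ u ∈ R, x⁻¹ * u * x ∈ R := by
    intro u hu
    have h1 := conj_pow_mem R x hnorm (p - 1) u hu
    have h2 : x ^ (p - 1) = x⁻¹ := by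
      have : x ^ (p - 1) * x = 1 := by
        rw [← pow_succ, Nat.sub_add_cancel hp.out.one_le, hxp]
      exact eq_inv_of_mul_eq_one_left this
    rw [h2, inv_inv] at h1
    exact h1
  -- proper invariant subgroups are centralized
  have hprop : ∀ R' : Subgroup Eˣ, R' ≤ R → R' ≠ R → (∀ u ∈ R', x * u * x⁻¹ ∈ R') →
      ∀ u ∈ R', x * u = u * x := by
    intro R' hle hneq hn'
    haveI : Finite R' :=
      Finite.of_injective (Subgroup.inclusion hle) (Subgroup.inclusion_injective hle)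
    have hlt : Nat.card R' < n := by
      by_contra hge
      push Not at hge
      rw [← hn] at hge
      exact hneq (Subgroup.eq_of_le_of_card_ge hle hge)
    exact ih _ hlt R' rfl (Nat.Coprime.coprime_dvd_left (Subgroup.card_dvd_of_le hle) hcop) hn'
  -- R = [R, x]
  set R₁ : Subgroup Eˣ := Subgroup.closure {w | ∃ u ∈ R, w = u⁻¹ * (x * u * x⁻¹)} with hR₁
  have hR₁le : R₁ ≤ R := by
    rw [hR₁, Subgroup.closure_le]
    rintro w ⟨u, hu, rfl⟩
    exact R.mul_mem (R.inv_mem hu) (hnorm u hu)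
  have hR₁norm : ∀ w ∈ R₁, x * w * x⁻¹ ∈ R₁ := by
    intro w hw
    induction hw using Subgroup.closure_induction with
    | mem w hw =>
      obtain ⟨u, hu, rfl⟩ := hw
      apply Subgroup.subset_closure
      refine ⟨x * u * x⁻¹, hnorm u hu, ?_⟩
      group
    | one => simp
    | mul a b _ _ ha hb =>
      have : x * (a * b) * x⁻¹ = (x * a * x⁻¹) * (x * b * x⁻¹) := by group
      rw [this]; exact R₁.mul_mem ha hb
    | inv a _ ha =>
      have : x * a⁻¹ * x⁻¹ = (x * a * x⁻¹)⁻¹ := by group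
      rw [this]; exact R₁.inv_mem ha
  have hR₁eq : R₁ = R := by
    by_contra hneq
    have h1 := hprop R₁ hR₁le hneq hR₁norm
    have h2 := centralizes_of_centralizes_comm hchar x hx R hcop hnorm (fun u hu =>
      h1 _ (Subgroup.subset_closure ⟨u, hu, rfl⟩))
    obtain ⟨u, hu, hux⟩ := hne
    exact hux (h2 u hu)
  -- R is a q-group
  have hA : IsPGroup p (Subgroup.zpowers x) := by
    rintro ⟨g, hg⟩
    obtain ⟨k, rfl⟩ := Subgroup.mem_zpowers_iff.mp hg
    refine ⟨1, ?_⟩
    apply Subtype.ext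
    show (x ^ k) ^ p ^ 1 = 1
    rw [pow_one, ← zpow_natCast, ← zpow_mul, mul_comm, zpow_mul, zpow_natCast, hxp, one_zpow]
  have hAK : Subgroup.zpowers x ≤ Subgroup.normalizer (R : Set Eˣ) := by
    rw [Subgroup.zpowers_le, Subgroup.mem_normalizer_iff]
    intro h
    refine ⟨hnorm h, fun hh => ?_⟩
    have := hnorm_inv _ hh
    have e : x⁻¹ * (x * h * x⁻¹) * x = h := by group
    rwa [e] at this
  have hpK : ¬ p ∣ Nat.card R := by
    intro hdvd
    have := Nat.Coprime.eq_one_of_dvd hcop.symm hdvd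
    exact hp.out.one_lt.ne' this
  have hsyl : ∃ q : ℕ, ∃ _ : Fact q.Prime, ∃ S : Sylow q R,
      (S : Subgroup R).map R.subtype = R := by
    by_contra hno
    push Not at hno
    have hle : R ≤ R ⊓ Subgroup.centralizer {x} := by
      apply Cfsg.Agent.Helper48.le_of_forall_sylow_le inf_le_left
      intro q hq
      haveI := hq
      obtain ⟨S, hS⟩ := Cfsg.Agent.Helper48.exists_invariant_sylow (p := p) R (Subgroup.zpowers x)
        hAK hA hpK q
      refine ⟨S, ?_⟩
      have hSle : (S : Subgroup R).map R.subtype ≤ R := by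
        rintro _ ⟨k, -, rfl⟩; exact k.2
      have hSnorm : ∀ u ∈ (S : Subgroup R).map R.subtype, x * u * x⁻¹ ∈
          (S : Subgroup R).map R.subtype := by
        rintro _ ⟨k, hk, rfl⟩
        have hk' := hS x (Subgroup.mem_zpowers x) k hk (hnorm _ k.2)
        exact ⟨⟨x * k * x⁻¹, hnorm _ k.2⟩, hk', rfl⟩
      have h1 := hprop _ hSle (hno q hq S) hSnorm
      intro w hw
      refine Subgroup.mem_inf.mpr ⟨hSle hw, ?_⟩
      rw [Subgroup.mem_centralizer_iff]
      intro y hy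
      rw [Set.mem_singleton_iff] at hy
      subst hy
      exact h1 w hw
    obtain ⟨u, hu, hux⟩ := hne
    have := (Subgroup.mem_inf.mp (hle hu)).2
    rw [Subgroup.mem_centralizer_iff] at this
    exact hux (this x rfl)
  obtain ⟨q, hq, S, hS⟩ := hsyl
  haveI := hq
  have hStop : (S : Subgroup R) = ⊤ := by
    rw [eq_top_iff]
    intro k _
    have : (k : Eˣ) ∈ (S : Subgroup R).map R.subtype := by rw [hS]; exact k.2
    obtain ⟨k', hk', hkk⟩ := this
    have : k' = k := Subtype.ext hkk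
    rwa [this] at hk'
  have hRq : IsPGroup q R := by
    have h1 : IsPGroup q (S : Subgroup R) := S.2
    rw [hStop] at h1
    exact h1.of_equiv Subgroup.topEquiv
  haveI hnil : Group.IsNilpotent R := hRq.isNilpotent
  by_cases hab : ∀ u ∈ R, ∀ v ∈ R, u * v = v * u
  · -- abelian case
    have h1 := eq_one_of_abelian (by omega) hchar x hx R hcop hnorm hab (hR₁eq.ge)
    obtain ⟨u, hu, hux⟩ := hne
    rw [h1 u hu] at hux
    exact hux (by simp)
  · -- non-abelian case
    apply hab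
    -- the centre of R is centralized by x
    have hZ1 : ∀ z ∈ R, (∀ v ∈ R, z * v = v * z) → x * z = z * x := by
      set Zc : Subgroup Eˣ := R ⊓ Subgroup.centralizer (R : Set Eˣ) with hZc
      have hZcle : Zc ≤ R := inf_le_left
      have hZcne : Zc ≠ R := by
        intro h
        apply hab
        intro u hu v hv
        have hv' : v ∈ Zc := by rw [h]; exact hv
        have := (Subgroup.mem_inf.mp hv').2
        rw [Subgroup.mem_centralizer_iff] at this
        exact this u hu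
      have hZcnorm : ∀ u ∈ Zc, x * u * x⁻¹ ∈ Zc := by
        intro z hz
        obtain ⟨hzR, hzc⟩ := Subgroup.mem_inf.mp hz
        rw [Subgroup.mem_centralizer_iff] at hzc
        refine Subgroup.mem_inf.mpr ⟨hnorm z hzR, ?_⟩
        rw [Subgroup.mem_centralizer_iff]
        intro v hv
        have h1 := hzc _ (hnorm_inv v hv)
        calc v * (x * z * x⁻¹) = x * ((x⁻¹ * v * x) * z) * x⁻¹ := by group
          _ = x * (z * (x⁻¹ * v * x)) * x⁻¹ := by rw [h1]
          _ = x * z * x⁻¹ * v := by group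
      have h2 := hprop Zc hZcle hZcne hZcnorm
      intro z hz hzc
      apply h2
      refine Subgroup.mem_inf.mpr ⟨hz, ?_⟩
      rw [Subgroup.mem_centralizer_iff]
      intro v hv
      exact (hzc v hv).symm
    -- the derived subgroup is centralized by x
    have hR' : ∀ w ∈ ⁅R, R⁆, x * w = w * x := by
      have hle : ⁅R, R⁆ ≤ R := by
        rw [Subgroup.commutator_le]
        intro a ha b hb
        exact R.mul_mem (R.mul_mem (R.mul_mem ha hb) (R.inv_mem ha)) (R.inv_mem hb)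
      have hne' : ⁅R, R⁆ ≠ R := by
        intro h
        haveI : Nontrivial R := by
          obtain ⟨u, hu, hux⟩ := hne
          refine ⟨⟨⟨u, hu⟩, 1, ?_⟩⟩
          intro h1
          have : u = 1 := congrArg Subtype.val h1
          rw [this] at hux
          exact hux (by simp)
        have hlt := Group.IsSolvable.commutator_lt_top_of_nontrivial R
        have h2 : (commutator R).map R.subtype = (⊤ : Subgroup R).map R.subtype := by
          rw [Subgroup.map_subtype_commutator, h]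
          ext y
          simp
        have h3 := Subgroup.map_injective R.subtype_injective h2
        exact hlt.ne h3
      have hnorm' : ∀ u ∈ ⁅R, R⁆, x * u * x⁻¹ ∈ ⁅R, R⁆ := by
        intro u hu
        have h1 : (MulAut.conj x).toMonoidHom u ∈ (⁅R, R⁆).map (MulAut.conj x).toMonoidHom :=
          Subgroup.mem_map_of_mem _ hu
        rw [Subgroup.map_commutator] at h1
        have h2 : R.map (MulAut.conj x).toMonoidHom ≤ R := by
          rintro _ ⟨r, hr, rfl⟩
          exact hnorm r hr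
        exact Subgroup.commutator_mono h2 h2 h1
      exact hprop _ hle hne' hnorm'
    have hZ2 : ∀ u ∈ R, x * u = u * x → ∀ v ∈ R, u * v = v * u := by
      intro c hc hcx v hv
      have hv' : v ∈ R₁ := by rw [hR₁eq]; exact hv
      have hsub : R₁ ≤ Subgroup.centralizer {c} := by
        rw [hR₁, Subgroup.closure_le]
        rintro w ⟨u, hu, rfl⟩
        rw [SetLike.mem_coe, Subgroup.mem_centralizer_iff]
        intro y hy
        rw [Set.mem_singleton_iff] at hy
        subst hy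
        -- g = u y u⁻¹ commutes with x
        have hcomm : ⁅u, y⁆ ∈ ⁅R, R⁆ := Subgroup.commutator_mem_commutator hu hc
        have h1 := hR' _ hcomm
        have hg : x * (u * y * u⁻¹) = (u * y * u⁻¹) * x := by
          have e : u * y * u⁻¹ = ⁅u, y⁆ * y := by rw [commutatorElement_def]; group
          rw [e, ← mul_assoc, h1, mul_assoc, hcx, ← mul_assoc]
        have h2 : (x * u * x⁻¹) * y * (x * u * x⁻¹)⁻¹ = u * y * u⁻¹ := by
          have h3 : x * y * x⁻¹ = y := by
            calc x * y * x⁻¹ = (x * y) * x⁻¹ := by group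
              _ = (y * x) * x⁻¹ := by rw [hcx]
              _ = y := by group
          calc (x * u * x⁻¹) * y * (x * u * x⁻¹)⁻¹
              = x * (u * (x⁻¹ * y * x) * u⁻¹) * x⁻¹ := by group
            _ = x * (u * y * u⁻¹) * x⁻¹ := by
                have : x⁻¹ * y * x = y := by
                  calc x⁻¹ * y * x = x⁻¹ * (y * x) := by group
                    _ = x⁻¹ * (x * y) := by rw [hcx]
                    _ = y := by group
                rw [this]
            _ = (u * y * u⁻¹) * x * x⁻¹ := by rw [hg]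
            _ = u * y * u⁻¹ := by group
        calc y * (u⁻¹ * (x * u * x⁻¹))
            = u⁻¹ * (u * y * u⁻¹) * (x * u * x⁻¹) := by group
          _ = u⁻¹ * ((x * u * x⁻¹) * y * (x * u * x⁻¹)⁻¹) * (x * u * x⁻¹) := by rw [h2]
          _ = u⁻¹ * (x * u * x⁻¹) * y := by group
      have := hsub hv'
      rw [Subgroup.mem_centralizer_iff] at this
      exact this c rfl
    exact abelian_of_center hp5 hchar x hx R hcop hnorm hZ1 hZ2

end main

end Cfsg.Agent.Helper54.Quad
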