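import Mathlib
import Cfsg.Prelude.Def_PLocal
import Cfsg.Agent.Helper54.QuadAvg
import Cfsg.Agent.Helper62.PSolvDual
import Cfsg.Agent.Helper11.PSolvable
import Cfsg.Agent.Lib.Cores

set_option autoImplicit false
set_option linter.style.haveILetI false
set_option linter.unusedSectionVars false

/-!
# Quadratic automorphisms of elementary abelian groups and actions on sections (helper54)
-/

namespace Cfsg.Agent.Helper54.Quad

section mulaut

variable {Q : Type*} [CommGroup Q]

/-- An automorphism of a commutative group as an additive endomorphism of `Additive Q`. -/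
def toEnd : MulAut Q →* AddMonoid.End (Additive Q) where
  toFun σ := MonoidHom.toAdditive σ.toMonoidHom
  map_one' := rfl
  map_mul' := fun _ _ => rfl

theorem toEnd_apply (σ : MulAut Q) (q : Q) :
    toEnd σ (Additive.ofMul q) = Additive.ofMul (σ q) := rfl

/-- The unit version. -/
def toUnitsEnd : MulAut Q →* (AddMonoid.End (Additive Q))ˣ := toEnd.toHomUnits

theorem toUnitsEnd_val (σ : MulAut Q) :
    ((toUnitsEnd σ : (AddMonoid.End (Additive Q))ˣ) : AddMonoid.End (Additive Q)) = toEnd σ :=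
  MonoidHom.coe_toHomUnits _ σ

theorem toUnitsEnd_injective : Function.Injective (toUnitsEnd (Q := Q)) := by
  intro σ τ h
  have h1 : toEnd σ = toEnd τ := by rw [← toUnitsEnd_val, ← toUnitsEnd_val, h]
  ext q
  have h2 := congrArg (fun f : AddMonoid.End (Additive Q) => f (Additive.ofMul q)) h1
  exact congrArg Additive.toMul h2

theorem natCast_end_eq_zero {p : ℕ} (hQ : ∀ q : Q, q ^ p = 1) :
    ((p : ℕ) : AddMonoid.End (Additive Q)) = 0 := by
  have h : ∀ m : Additive Q, ((p : ℕ) : AddMonoid.End (Additive Q)) m =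
      (0 : AddMonoid.End (Additive Q)) m := by
    intro m
    rw [AddMonoid.End.natCast_apply]
    show Additive.ofMul ((Additive.toMul m) ^ p) = 0
    rw [hQ]; rfl
  exact DFunLike.ext _ _ h

theorem toEnd_sub_one_sq (a : MulAut Q) (ha : ∀ q : Q, a (a q * q⁻¹) = a q * q⁻¹) :
    ((toEnd a : AddMonoid.End (Additive Q)) - 1) ^ 2 = 0 := by
  have h1 : ∀ w : Q, ((toEnd a : AddMonoid.End (Additive Q)) - 1) (Additive.ofMul w) =
      Additive.ofMul (a w * w⁻¹) := by
    intro w
    show toEnd a (Additive.ofMul w) - Additive.ofMul w = _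
    rw [toEnd_apply, ← ofMul_div, div_eq_mul_inv]
  have h : ∀ m : Additive Q,
      ((((toEnd a : AddMonoid.End (Additive Q)) - 1) ^ 2 : AddMonoid.End (Additive Q))) m =
      (0 : AddMonoid.End (Additive Q)) m := by
    intro m
    rw [sq, AddMonoid.End.coe_mul, Function.comp_apply]
    obtain ⟨q, rfl⟩ : ∃ q : Q, Additive.ofMul q = m := ⟨Additive.toMul m, rfl⟩
    rw [h1, h1, ha]
    simp
  exact DFunLike.ext _ _ h

/-- Theorem Q for automorphisms of a commutative group of exponent `p ≥ 5`. -/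
theorem mulAut_quad_centralizes {p : ℕ} [hp : Fact p.Prime] (hp5 : 5 ≤ p)
    (hQ : ∀ q : Q, q ^ p = 1) (a : MulAut Q) (ha : ∀ q : Q, a (a q * q⁻¹) = a q * q⁻¹)
    (R : Subgroup (MulAut Q)) [Finite R] (hcop : (Nat.card R).Coprime p)
    (hnorm : ∀ u ∈ R, a * u * a⁻¹ ∈ R) : ∀ u ∈ R, a * u = u * a := by
  set x := toUnitsEnd a with hx
  have hx2 : ((x : AddMonoid.End (Additive Q)) - 1) ^ 2 = 0 := by
    rw [hx, toUnitsEnd_val]; exact toEnd_sub_one_sq a ha
  set R' : Subgroup (AddMonoid.End (Additive Q))ˣ := R.map toUnitsEnd with hR'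
  haveI : Finite R' := by
    rw [hR']
    exact Finite.of_surjective (fun g : R => (⟨toUnitsEnd g, Subgroup.mem_map_of_mem _ g.2⟩ :
      R.map toUnitsEnd)) (by
        rintro ⟨_, ⟨g, hg, rfl⟩⟩
        exact ⟨⟨g, hg⟩, rfl⟩)
  have hcop' : (Nat.card R').Coprime p :=
    Nat.Coprime.coprime_dvd_left (Subgroup.card_map_dvd _ _) hcop
  have hnorm' : ∀ u ∈ R', x * u * x⁻¹ ∈ R' := by
    rintro _ ⟨r, hr, rfl⟩
    rw [hx, ← map_inv, ← map_mul, ← map_mul]
    exact Subgroup.mem_map_of_mem _ (hnorm r hr)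
  have key := quad_centralizes hp5 (natCast_end_eq_zero hQ) x hx2 _ R' rfl hcop' hnorm'
  intro u hu
  have h1 := key _ (Subgroup.mem_map_of_mem toUnitsEnd hu)
  rw [hx, ← map_mul, ← map_mul] at h1
  exact toUnitsEnd_injective h1

theorem mulAut_quad_pow {p : ℕ} [Fact p.Prime]
    (hQ : ∀ q : Q, q ^ p = 1) (a : MulAut Q) (ha : ∀ q : Q, a (a q * q⁻¹) = a q * q⁻¹) :
    a ^ p = 1 := by
  have hx2 : (((toUnitsEnd a : (AddMonoid.End (Additive Q))ˣ) : AddMonoid.End (Additive Q)) - 1) ^ 2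
      = 0 := by
    rw [toUnitsEnd_val]; exact toEnd_sub_one_sq a ha
  have := pow_prime_eq_one (natCast_end_eq_zero hQ) (toUnitsEnd a) hx2
  apply toUnitsEnd_injective
  rw [map_pow, this, map_one]

end mulaut

section core

open Cfsg Cfsg.Agent.Lib

/-- A quadratic element of a `p`-solvable group (`p ≥ 5`) acting on an elementary abelian group with
`O_p(G / C_G(Q)) = 1` acts trivially. -/
theorem mem_ker_of_pCore_eq_bot {G : Type*} [Group G] [Finite G] {p : ℕ} [hp : Fact p.Prime]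
    (hp5 : 5 ≤ p) (hG : Cfsg.IsPSolvable p G) {Q : Type*} [CommGroup Q] (hQ : ∀ q : Q, q ^ p = 1)
    (ψ : G →* MulAut Q) (hO : Cfsg.pCore p (G ⧸ ψ.ker) = ⊥)
    (a : G) (ha : ∀ q : Q, ψ a (ψ a q * q⁻¹) = ψ a q * q⁻¹) : a ∈ ψ.ker := by
  have hGq : Cfsg.IsPSolvable p (G ⧸ ψ.ker) := Cfsg.Agent.Helper11.isPSolvable_quotient ψ.ker hG
  have hcent := Cfsg.Agent.Helper62.centralizer_pPrimeCore_le_of_isPSolvable hGq hO
  set ψb : G ⧸ ψ.ker →* MulAut Q := QuotientGroup.kerLift ψ with hψb
  have hinj : Function.Injective ψb := QuotientGroup.kerLift_injective ψ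
  have hψb_mk : ∀ g : G, ψb (QuotientGroup.mk g) = ψ g := fun g => QuotientGroup.kerLift_mk ψ g
  set L := Cfsg.pPrimeCore p (G ⧸ ψ.ker) with hL
  haveI hLchar : L.Characteristic := pPrimeCore_characteristic p
  haveI hLn : L.Normal := Subgroup.normal_of_characteristic _
  have hLcop : (Nat.card L).Coprime p := card_pPrimeCore_coprime p
  set R : Subgroup (MulAut Q) := L.map ψb with hR
  haveI : Finite R := by
    rw [hR]
    exact Finite.of_surjective (fun g : L => (⟨ψb g, Subgroup.mem_map_of_mem _ g.2⟩ : L.map ψb)) (by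
      rintro ⟨_, ⟨g, hg, rfl⟩⟩
      exact ⟨⟨g, hg⟩, rfl⟩)
  have hcop : (Nat.card R).Coprime p :=
    Nat.Coprime.coprime_dvd_left (Subgroup.card_map_dvd _ _) hLcop
  have hnorm : ∀ u ∈ R, ψ a * u * (ψ a)⁻¹ ∈ R := by
    rintro _ ⟨l, hl, rfl⟩
    rw [← hψb_mk a, ← map_inv, ← map_mul, ← map_mul]
    exact Subgroup.mem_map_of_mem _ (hLn.conj_mem l hl _)
  have key := mulAut_quad_centralizes hp5 hQ (ψ a) ha R hcop hnorm
  have hamem : (QuotientGroup.mk a : G ⧸ ψ.ker) ∈ L := by
    apply hcent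
    rw [Subgroup.mem_centralizer_iff]
    intro l hl
    have h1 := key _ (Subgroup.mem_map_of_mem ψb hl)
    rw [← hψb_mk a, ← map_mul, ← map_mul] at h1
    exact (hinj h1).symm
  have hpow : (QuotientGroup.mk a : G ⧸ ψ.ker) ^ p = 1 := by
    apply hinj
    rw [map_pow, hψb_mk, mulAut_quad_pow hQ (ψ a) ha, map_one]
  have hcard : (QuotientGroup.mk a : G ⧸ ψ.ker) ^ Nat.card L = 1 := by
    have := pow_card_eq_one' (G := L) (x := ⟨_, hamem⟩)
    exact congrArg Subtype.val this
  have h1 : (QuotientGroup.mk a : G ⧸ ψ.ker) ^ (Nat.card L).gcd p = 1 :=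
    pow_gcd_eq_one.mpr ⟨hcard, hpow⟩
  rw [hLcop, pow_one] at h1
  exact (QuotientGroup.eq_one_iff a).mp h1

end core

section secact

open Cfsg

variable {G : Type*} [Group G]

open scoped commutatorElement

/-- The commutative group structure on the section `K / N` when `K' ≤ N`. -/
@[reducible] def secCommGroup (K N : Subgroup G) [N.Normal] (hcomm : ⁅K, K⁆ ≤ N) :
    CommGroup (↥K ⧸ N.subgroupOf K) :=
  { (inferInstance : Group (↥K ⧸ N.subgroupOf K)) with
    mul_comm := by
      intro a b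
      induction a using QuotientGroup.induction_on with
      | H a =>
      induction b using QuotientGroup.induction_on with
      | H b =>
      rw [← QuotientGroup.mk_mul, ← QuotientGroup.mk_mul, QuotientGroup.eq, Subgroup.mem_subgroupOf]
      have h1 : ⁅(b : G)⁻¹, (a : G)⁻¹⁆ ∈ N :=
        hcomm (Subgroup.commutator_mem_commutator (K.inv_mem b.2) (K.inv_mem a.2))
      have e : ((a * b)⁻¹ * (b * a) : K) = ⁅(b : G)⁻¹, (a : G)⁻¹⁆ := by
        rw [commutatorElement_def]; push_cast; group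
      rw [e]; exact h1 }

theorem conjNormal_map_subgroupOf (K N : Subgroup G) [K.Normal] [N.Normal] (g : G) :
    (N.subgroupOf K).map ((MulAut.conjNormal g : MulAut K) : K →* K) = N.subgroupOf K := by
  ext k
  constructor
  · rintro ⟨n, hn, rfl⟩
    have hn' : (n : G) ∈ N := hn
    show ((MulAut.conjNormal g n : K) : G) ∈ N
    rw [MulAut.conjNormal_apply]
    exact (inferInstance : N.Normal).conj_mem _ hn' g
  · intro hk
    have hk' : (k : G) ∈ N := hk
    refine ⟨MulAut.conjNormal g⁻¹ k, ?_, ?_⟩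
    · show ((MulAut.conjNormal g⁻¹ k : K) : G) ∈ N
      rw [MulAut.conjNormal_apply]
      exact (inferInstance : N.Normal).conj_mem _ hk' g⁻¹
    · apply Subtype.ext
      show ((MulAut.conjNormal g (MulAut.conjNormal g⁻¹ k) : K) : G) = k
      rw [MulAut.conjNormal_apply, MulAut.conjNormal_apply]; group

/-- The conjugation action of `G` on the section `K / N`. -/
def secAct (K N : Subgroup G) [K.Normal] [N.Normal] : G →* MulAut (↥K ⧸ N.subgroupOf K) where
  toFun g := QuotientGroup.congr (N.subgroupOf K) (N.subgroupOf K) (MulAut.conjNormal g)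
    (conjNormal_map_subgroupOf K N g)
  map_one' := by
    ext q
    induction q using QuotientGroup.induction_on with
    | H k => simp [QuotientGroup.congr_mk]
  map_mul' := by
    intro g h
    ext q
    induction q using QuotientGroup.induction_on with
    | H k => simp [QuotientGroup.congr_mk, MulAut.mul_apply]

theorem secAct_mk (K N : Subgroup G) [K.Normal] [N.Normal] (g : G) (k : K) :
    secAct K N g (QuotientGroup.mk k) = QuotientGroup.mk (MulAut.conjNormal g k) :=
  QuotientGroup.congr_mk _ _ _ (conjNormal_map_subgroupOf K N g) k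

theorem mem_sectionKernel_iff (K N : Subgroup G) [N.Normal] (g : G) :
    g ∈ Cfsg.sectionKernel K N ↔ ∀ k ∈ K, (k * g)⁻¹ * (g * k) ∈ N := by
  unfold Cfsg.sectionKernel
  rw [Subgroup.mem_comap, Subgroup.mem_centralizer_iff]
  constructor
  · intro h k hk
    have := h _ (Subgroup.mem_map_of_mem (QuotientGroup.mk' N) hk)
    rw [QuotientGroup.mk'_apply, QuotientGroup.mk'_apply, ← QuotientGroup.mk_mul,
      ← QuotientGroup.mk_mul, QuotientGroup.eq] at this
    exact this
  · rintro h _ ⟨k, hk, rfl⟩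
    rw [QuotientGroup.mk'_apply, QuotientGroup.mk'_apply, ← QuotientGroup.mk_mul,
      ← QuotientGroup.mk_mul, QuotientGroup.eq]
    exact h k hk

theorem secAct_ker (K N : Subgroup G) [K.Normal] [N.Normal] :
    (secAct K N).ker = Cfsg.sectionKernel K N := by
  ext g
  rw [MonoidHom.mem_ker, mem_sectionKernel_iff]
  constructor
  · intro h k hk
    have h1 := congrArg (fun σ : MulAut (↥K ⧸ N.subgroupOf K) => σ (QuotientGroup.mk ⟨k, hk⟩)) h
    simp only [MulAut.one_apply] at h1
    rw [secAct_mk, QuotientGroup.eq, Subgroup.mem_subgroupOf] at h1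
    have e : (((MulAut.conjNormal g ⟨k, hk⟩ : K)⁻¹ * ⟨k, hk⟩ : K) : G) = g * k⁻¹ * g⁻¹ * k := by
      push_cast
      rw [MulAut.conjNormal_apply]; group
    rw [e] at h1
    have h2 := (inferInstance : N.Normal).conj_mem _ (N.inv_mem h1) g⁻¹
    have e2 : g⁻¹ * (g * k⁻¹ * g⁻¹ * k)⁻¹ * g⁻¹⁻¹ = (k * g)⁻¹ * (g * k) := by group
    rwa [e2] at h2
  · intro h
    ext q
    induction q using QuotientGroup.induction_on with
    | H k =>
    rw [secAct_mk, MulAut.one_apply, QuotientGroup.eq, Subgroup.mem_subgroupOf]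
    have h1 := h k k.2
    have e : (((MulAut.conjNormal g k : K)⁻¹ * k : K) : G) = g * (k : G)⁻¹ * g⁻¹ * k := by
      push_cast
      rw [MulAut.conjNormal_apply]; group
    rw [e]
    have h2 := (inferInstance : N.Normal).conj_mem _ (N.inv_mem h1) g
    have e2 : g * ((k * g)⁻¹ * (g * k))⁻¹ * g⁻¹ = g * (k : G)⁻¹ * g⁻¹ * k := by group
    rwa [e2] at h2

theorem sec_pow_eq_one (K N : Subgroup G) [N.Normal] {p : ℕ} (hpow : ∀ k ∈ K, k ^ p ∈ N)
    (q : ↥K ⧸ N.subgroupOf K) : q ^ p = 1 := by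
  induction q using QuotientGroup.induction_on with
  | H k =>
  rw [← QuotientGroup.mk_pow, QuotientGroup.eq_one_iff, Subgroup.mem_subgroupOf]
  push_cast
  exact hpow k k.2

theorem secAct_quadratic (K N : Subgroup G) [K.Normal] [N.Normal] (a : G)
    (ha : ⁅⁅K, Subgroup.zpowers a⁆, Subgroup.zpowers a⁆ ≤ N) (q : ↥K ⧸ N.subgroupOf K) :
    secAct K N a (secAct K N a q * q⁻¹) = secAct K N a q * q⁻¹ := by
  induction q using QuotientGroup.induction_on with
  | H k =>
  rw [secAct_mk, ← QuotientGroup.mk_inv, ← QuotientGroup.mk_mul, secAct_mk, QuotientGroup.eq,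
    Subgroup.mem_subgroupOf]
  set w : K := MulAut.conjNormal a k * k⁻¹ with hw
  have hwG : (w : G) = ⁅a, (k : G)⁆ := by
    rw [hw, commutatorElement_def]; push_cast
    rw [MulAut.conjNormal_apply]
  have hw1 : (w : G) ∈ ⁅K, Subgroup.zpowers a⁆ := by
    rw [hwG, ← commutatorElement_inv]
    exact Subgroup.inv_mem _ (Subgroup.commutator_mem_commutator k.2 (Subgroup.mem_zpowers a))
  have hw2 : ⁅(w : G), a⁆ ∈ N :=
    ha (Subgroup.commutator_mem_commutator hw1 (Subgroup.mem_zpowers a))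
  have e : (((MulAut.conjNormal a w : K)⁻¹ * w : K) : G) =
      (w : G)⁻¹ * ⁅(w : G), a⁆ * (w : G)⁻¹⁻¹ := by
    push_cast
    rw [MulAut.conjNormal_apply, commutatorElement_def]; group
  rw [e]
  exact (inferInstance : N.Normal).conj_mem _ hw2 _

theorem sectionKernel_normal (K N : Subgroup G) [K.Normal] [N.Normal] :
    (Cfsg.sectionKernel K N).Normal := by
  rw [← secAct_ker]; infer_instance

theorem pow_relIndex_mem {H K : Subgroup G} [H.Normal] {g : G} (hg : g ∈ K) :
    g ^ (H.relIndex K) ∈ H := by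
  have := Subgroup.pow_index_mem (H.subgroupOf K) ⟨g, hg⟩
  exact this

/-- An element acting trivially on `U / N` and on `K / U` has `p`-th power acting trivially on
`K / N` when `K / N` has exponent `p`. -/
theorem pow_mem_sectionKernel (K U N : Subgroup G) [K.Normal] [U.Normal] [N.Normal]
    {p : ℕ} (hpow : ∀ k ∈ K, k ^ p ∈ N) {g : G}
    (h1 : g ∈ Cfsg.sectionKernel U N) (h2 : g ∈ Cfsg.sectionKernel K U) :
    g ^ p ∈ Cfsg.sectionKernel K N := by
  rw [← secAct_ker, MonoidHom.mem_ker, map_pow]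
  rw [mem_sectionKernel_iff] at h1 h2
  ext q
  induction q using QuotientGroup.induction_on with
  | H k =>
  rw [MulAut.one_apply]
  set w : K := k⁻¹ * MulAut.conjNormal g k with hw
  have hwU : (w : G) ∈ U := by
    have h3 := h2 k k.2
    have e : (w : G) = g * ((k * g)⁻¹ * (g * k)) * g⁻¹ := by
      rw [hw]; push_cast; rw [MulAut.conjNormal_apply]; group
    rw [e]
    exact (inferInstance : U.Normal).conj_mem _ h3 g
  have hkw : secAct K N g (QuotientGroup.mk k) = QuotientGroup.mk k * QuotientGroup.mk w := by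
    rw [secAct_mk, ← QuotientGroup.mk_mul, hw]
    congr 1
    group
  have hww : secAct K N g (QuotientGroup.mk w) = QuotientGroup.mk w := by
    rw [secAct_mk, QuotientGroup.eq, Subgroup.mem_subgroupOf]
    have h3 := h1 w hwU
    have e : (((MulAut.conjNormal g w : K)⁻¹ * w : K) : G) =
        g * ((w * g)⁻¹ * (g * w))⁻¹ * g⁻¹ := by
      push_cast; rw [MulAut.conjNormal_apply]; group
    rw [e]
    exact (inferInstance : N.Normal).conj_mem _ (N.inv_mem h3) g
  have hiter : ∀ n : ℕ, (secAct K N g ^ n) (QuotientGroup.mk k) =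
      QuotientGroup.mk k * (QuotientGroup.mk w) ^ n := by
    intro n
    induction n with
    | zero => simp
    | succ n ih =>
      rw [pow_succ', MulAut.mul_apply, ih, map_mul, map_pow, hkw, hww, pow_succ', mul_assoc]
  rw [hiter p, sec_pow_eq_one K N hpow, mul_one]

/-- A nontrivial fixed point of a normal subgroup acting as a `p`-group on a nontrivial section of
exponent `p`. -/
theorem exists_fixed_of_isPGroup [Finite G] (K N D₀ : Subgroup G) [K.Normal] [N.Normal]
    {p : ℕ} [hp : Fact p.Prime] (hpow : ∀ k ∈ K, k ^ p ∈ N) (hKN : ¬ K ≤ N)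
    (hD₀ : ∀ d ∈ D₀, ∃ n : ℕ, d ^ p ^ n ∈ Cfsg.sectionKernel K N) :
    ∃ k ∈ K, k ∉ N ∧ ∀ d ∈ D₀, (d * k)⁻¹ * (k * d) ∈ N := by
  classical
  set Q := ↥K ⧸ N.subgroupOf K with hQ
  set Γ : Subgroup (MulAut Q) := D₀.map (secAct K N) with hΓ
  have hΓp : IsPGroup p Γ := by
    rintro ⟨_, ⟨d, hd, rfl⟩⟩
    obtain ⟨n, hn⟩ := hD₀ d hd
    refine ⟨n, ?_⟩
    apply Subtype.ext
    rw [← secAct_ker, MonoidHom.mem_ker, map_pow] at hn
    exact hn
  have hQp : IsPGroup p Q := by
    intro q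
    exact ⟨1, by rw [pow_one]; exact sec_pow_eq_one K N hpow q⟩
  haveI : Nontrivial Q := by
    obtain ⟨k, hk, hkN⟩ := SetLike.not_le_iff_exists.mp hKN
    refine ⟨⟨QuotientGroup.mk ⟨k, hk⟩, 1, ?_⟩⟩
    intro h
    rw [QuotientGroup.eq_one_iff, Subgroup.mem_subgroupOf] at h
    exact hkN h
  have hdvd : p ∣ Nat.card Q := by
    obtain ⟨n, hn0, hn⟩ := (hQp.nontrivial_iff_card).mp inferInstance
    rw [hn]; exact dvd_pow_self p (by omega)
  have h1fix : (1 : Q) ∈ MulAction.fixedPoints Γ Q := by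
    intro γ
    show (γ : MulAut Q) 1 = 1
    exact map_one _
  obtain ⟨b, hb, hb1⟩ := hΓp.exists_fixed_point_of_prime_dvd_card_of_fixed_point Q hdvd h1fix
  induction b using QuotientGroup.induction_on with
  | H k =>
  refine ⟨k, k.2, ?_, ?_⟩
  · intro hkN
    apply hb1
    symm
    rw [QuotientGroup.eq_one_iff, Subgroup.mem_subgroupOf]
    exact hkN
  · intro d hd
    have h1 : secAct K N d (QuotientGroup.mk k) = QuotientGroup.mk k :=
      hb ⟨secAct K N d, Subgroup.mem_map_of_mem _ hd⟩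
    rw [secAct_mk, QuotientGroup.eq, Subgroup.mem_subgroupOf] at h1
    have e : (d * (k : G))⁻¹ * (k * d) =
        d⁻¹ * (((MulAut.conjNormal d k : K)⁻¹ * k : K) : G) * d⁻¹⁻¹ := by
      push_cast; rw [MulAut.conjNormal_apply]; group
    rw [e]
    exact (inferInstance : N.Normal).conj_mem _ h1 _

theorem relIndex_eq_pow_of_forall [Finite G] (C D : Subgroup G) [C.Normal] {p : ℕ}
    [hp : Fact p.Prime] (h : ∀ d ∈ D, ∃ n : ℕ, d ^ p ^ n ∈ C) : ∃ k : ℕ, C.relIndex D = p ^ k := by
  have hP : IsPGroup p (↥D ⧸ C.subgroupOf D) := by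
    intro x
    induction x using QuotientGroup.induction_on with
    | H d =>
    obtain ⟨n, hn⟩ := h d d.2
    refine ⟨n, ?_⟩
    rw [← QuotientGroup.mk_pow, QuotientGroup.eq_one_iff, Subgroup.mem_subgroupOf]
    push_cast
    exact hn
  obtain ⟨k, hk⟩ := IsPGroup.iff_card.mp hP
  refine ⟨k, ?_⟩
  rw [← hk]
  exact Subgroup.index_eq_card _

theorem pCore_quot_congr {A B : Subgroup G} [A.Normal] [B.Normal] (h : A = B) {p : ℕ}
    (hA : Cfsg.pCore p (G ⧸ A) = ⊥) : Cfsg.pCore p (G ⧸ B) = ⊥ := by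
  subst h; exact hA

/-- **Section theorem**: a `p`-solvable group (`p ≥ 5`) acts `p`-stably on each of its elementary
abelian `p`-sections. -/
theorem isPStableOnSection_of_isPSolvable [Finite G] {p : ℕ} [hp : Fact p.Prime] (hp5 : 5 ≤ p)
    (hG : Cfsg.IsPSolvable p G) :
    ∀ (n : ℕ) (K N : Subgroup G) [K.Normal] [N.Normal], N ≤ K → ⁅K, K⁆ ≤ N →
      (∀ k ∈ K, k ^ p ∈ N) → N.relIndex K = n → Cfsg.IsPStableOnSection p K N := by
  intro n
  induction n using Nat.strong_induction_on with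
  | _ n ih =>
  intro K N _ _ hNK hcomm hpow hn a ha
  set C := Cfsg.sectionKernel K N with hC
  haveI hCn : C.Normal := sectionKernel_normal K N
  by_cases hO : Cfsg.pCore p (G ⧸ C) = ⊥
  · -- trivial `p`-core: `a` acts trivially
    have hO' : Cfsg.pCore p (G ⧸ (secAct K N).ker) = ⊥ :=
      pCore_quot_congr (secAct_ker K N).symm hO
    have haC : a ∈ (secAct K N).ker :=
      @mem_ker_of_pCore_eq_bot G _ _ p _ hp5 hG (↥K ⧸ N.subgroupOf K) (secCommGroup K N hcomm)
        (sec_pow_eq_one K N hpow) (secAct K N) hO' a (secAct_quadratic K N a ha)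
    rw [secAct_ker] at haC
    exact ⟨C, hCn, le_refl _, ⟨0, by rw [Subgroup.relIndex_self, pow_zero]⟩, haC⟩
  · -- nontrivial `p`-core: split the section
    have hPn : (Cfsg.pCore p (G ⧸ C)).Normal :=
      @Subgroup.normal_of_characteristic _ _ _ (Cfsg.Agent.Lib.pCore_characteristic p)
    set D₀ : Subgroup G := (Cfsg.pCore p (G ⧸ C)).comap (QuotientGroup.mk' C) with hD₀
    haveI hD₀n : D₀.Normal := hPn.comap _
    have hD₀p : ∀ d ∈ D₀, ∃ m : ℕ, d ^ p ^ m ∈ C := by
      intro d hd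
      have hd' : (QuotientGroup.mk' C d) ∈ Cfsg.pCore p (G ⧸ C) := hd
      obtain ⟨m, hm⟩ := (Cfsg.Agent.Lib.isPGroup_pCore p (G := G ⧸ C)) ⟨_, hd'⟩
      refine ⟨m, ?_⟩
      have h1 : (QuotientGroup.mk' C d) ^ p ^ m = 1 := congrArg Subtype.val hm
      rw [← map_pow, QuotientGroup.mk'_apply, QuotientGroup.eq_one_iff] at h1
      exact h1
    haveI hSn : (Cfsg.sectionKernel D₀ N).Normal := sectionKernel_normal D₀ N
    set U : Subgroup G := K ⊓ Cfsg.sectionKernel D₀ N with hU
    haveI hUn : U.Normal := inferInstance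
    have hNU : N ≤ U := by
      refine le_inf hNK ?_
      intro x hx
      rw [mem_sectionKernel_iff]
      intro d _
      have e : (d * x)⁻¹ * (x * d) = x⁻¹ * (d⁻¹ * x * d⁻¹⁻¹) := by group
      rw [e]
      exact N.mul_mem (N.inv_mem hx) ((inferInstance : N.Normal).conj_mem _ hx _)
    have hUK : U ≤ K := inf_le_left
    have hKU : ¬ K ≤ U := by
      intro hle
      apply hO
      have hD₀C : D₀ ≤ C := by
        intro d hd
        rw [hC, mem_sectionKernel_iff]
        intro k hk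
        have h1 := (Subgroup.mem_inf.mp (hle hk)).2
        rw [mem_sectionKernel_iff] at h1
        have h2 := h1 d hd
        have e : (k * d)⁻¹ * (d * k) = ((d * k)⁻¹ * (k * d))⁻¹ := by group
        rw [e]; exact N.inv_mem h2
      rw [eq_bot_iff]
      intro y hy
      obtain ⟨g, rfl⟩ := QuotientGroup.mk_surjective y
      rw [Subgroup.mem_bot, QuotientGroup.eq_one_iff]
      exact hD₀C hy
    have hKN : ¬ K ≤ N := fun h => hKU (h.trans hNU)
    have hUN : ¬ U ≤ N := by
      obtain ⟨k, hkK, hkN, hk⟩ := exists_fixed_of_isPGroup K N D₀ hpow hKN hD₀p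
      intro hle
      apply hkN
      apply hle
      refine Subgroup.mem_inf.mpr ⟨hkK, ?_⟩
      rw [mem_sectionKernel_iff]
      exact hk
    -- index arithmetic
    have hmul : N.relIndex U * U.relIndex K = n := by
      rw [Subgroup.relIndex_mul_relIndex N U K hNU hUK, hn]
    have h1 : N.relIndex U ≠ 1 := fun h => hUN (Subgroup.relIndex_eq_one.mp h)
    have h2 : U.relIndex K ≠ 1 := fun h => hKU (Subgroup.relIndex_eq_one.mp h)
    have h3 : N.relIndex U ≠ 0 := by
      unfold Subgroup.relIndex; exact Subgroup.index_ne_zero_of_finite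
    have h4 : U.relIndex K ≠ 0 := by
      unfold Subgroup.relIndex; exact Subgroup.index_ne_zero_of_finite
    have hlt1 : N.relIndex U < n := by
      rw [← hmul]
      have : 2 ≤ U.relIndex K := by omega
      nlinarith [Nat.pos_of_ne_zero h3]
    have hlt2 : U.relIndex K < n := by
      rw [← hmul]
      have : 2 ≤ N.relIndex U := by omega
      nlinarith [Nat.pos_of_ne_zero h4]
    -- induction on the two smaller sections
    have hcommU : ⁅U, U⁆ ≤ N := (Subgroup.commutator_mono hUK hUK).trans hcomm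
    have hpowU : ∀ k ∈ U, k ^ p ∈ N := fun k hk => hpow k (hUK hk)
    have haU : ⁅⁅U, Subgroup.zpowers a⁆, Subgroup.zpowers a⁆ ≤ N :=
      (Subgroup.commutator_mono (Subgroup.commutator_mono hUK le_rfl) le_rfl).trans ha
    obtain ⟨D₁, hD₁n, hC₁D₁, ⟨k₁, hk₁⟩, haD₁⟩ :=
      ih _ hlt1 U N hNU hcommU hpowU rfl a haU
    have hcommK : ⁅K, K⁆ ≤ U := hcomm.trans hNU
    have hpowK : ∀ k ∈ K, k ^ p ∈ U := fun k hk => hNU (hpow k hk)
    have haK : ⁅⁅K, Subgroup.zpowers a⁆, Subgroup.zpowers a⁆ ≤ U := ha.trans hNU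
    obtain ⟨D₂, hD₂n, hC₂D₂, ⟨k₂, hk₂⟩, haD₂⟩ :=
      ih _ hlt2 K U hUK hcommK hpowK rfl a haK
    haveI := hD₁n
    haveI := hD₂n
    haveI hC₁n : (Cfsg.sectionKernel U N).Normal := sectionKernel_normal U N
    haveI hC₂n : (Cfsg.sectionKernel K U).Normal := sectionKernel_normal K U
    have hCC₁ : C ≤ Cfsg.sectionKernel U N := by
      intro g hg
      rw [hC, mem_sectionKernel_iff] at hg
      rw [mem_sectionKernel_iff]
      exact fun k hk => hg k (hUK hk)
    have hCC₂ : C ≤ Cfsg.sectionKernel K U := by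
      intro g hg
      rw [hC, mem_sectionKernel_iff] at hg
      rw [mem_sectionKernel_iff]
      exact fun k hk => hNU (hg k hk)
    refine ⟨D₁ ⊓ D₂, inferInstance, le_inf (hCC₁.trans hC₁D₁) (hCC₂.trans hC₂D₂), ?_,
      Subgroup.mem_inf.mpr ⟨haD₁, haD₂⟩⟩
    apply relIndex_eq_pow_of_forall
    intro d hd
    obtain ⟨hd1, hd2⟩ := Subgroup.mem_inf.mp hd
    have e1 : d ^ p ^ k₁ ∈ Cfsg.sectionKernel U N := by
      rw [← hk₁]; exact pow_relIndex_mem hd1
    have e2 : (d ^ p ^ k₁) ^ p ^ k₂ ∈ Cfsg.sectionKernel K U := by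
      rw [← hk₂]; exact pow_relIndex_mem (D₂.pow_mem hd2 _)
    have e3 : (d ^ p ^ k₁) ^ p ^ k₂ ∈ Cfsg.sectionKernel U N := Subgroup.pow_mem _ e1 _
    have e4 := pow_mem_sectionKernel K U N hpow e3 e2
    refine ⟨k₁ + k₂ + 1, ?_⟩
    have e5 : d ^ p ^ (k₁ + k₂ + 1) = ((d ^ p ^ k₁) ^ p ^ k₂) ^ p := by
      rw [← pow_mul, ← pow_mul, pow_succ, pow_add, mul_assoc]
    rw [e5]
    exact e4

end secact

end Cfsg.Agent.Helper54.Quad
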