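import Cfsg.Agent.Helper54.FrobAct
import Cfsg.Agent.Helper54.SectionAct
import Cfsg.Agent.Helper24.Coprime
import Cfsg.Agent.Helper49.CharP
import Cfsg.Agent.Helper21.Fitting

set_option autoImplicit false
set_option linter.style.haveILetI false
set_option linter.unusedVariables false
set_option linter.unusedSectionVars false

/-!
# The Frobenius action lemma (helper54)

`Y` a `p'`-group, `a` normalizing `Y` with `a ^ i` fixed-point-free on `Y` for `0 < i < n`; both act on a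
`p`-group `U` (`p` odd) with `a ^ n` trivial on `U` and `C_U(a) ≤ C_U(Y)`. Then `Y` centralizes `U`.
-/

namespace Cfsg.Agent.Helper54.FA

open Cfsg Cfsg.Agent.Helper24
open scoped commutatorElement

variable {G : Type*} [Group G]

theorem mem_of_pow_mem_coprime {D : Subgroup G} {f : G} {a b : ℕ} (hab : a.Coprime b)
    (h1 : f ^ a ∈ D) (h2 : f ^ b ∈ D) : f ∈ D := by
  obtain ⟨α, β, hαβ⟩ := (Nat.isCoprime_iff_coprime.mpr hab)
  have hf : f = (f ^ a) ^ α * (f ^ b) ^ β := by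
    rw [← zpow_natCast f a, ← zpow_natCast f b, ← zpow_mul, ← zpow_mul, ← zpow_add]
    have : (a : ℤ) * α + (b : ℤ) * β = 1 := by linarith
    rw [this, zpow_one]
  rw [hf]
  exact D.mul_mem (D.zpow_mem h1 α) (D.zpow_mem h2 β)

/-- Conjugation by `g` preserves `⁅H₁, H₂⁆` when it maps each `Hᵢ` into itself. -/
theorem conj_mem_commutator {H₁ H₂ : Subgroup G} {g : G}
    (h1 : g ∈ Subgroup.normalizer (H₁ : Set G)) (h2 : g ∈ Subgroup.normalizer (H₂ : Set G)) :
    g ∈ Subgroup.normalizer ((⁅H₁, H₂⁆ : Subgroup G) : Set G) := by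
  have key : ∀ g : G, g ∈ Subgroup.normalizer (H₁ : Set G) → g ∈ Subgroup.normalizer (H₂ : Set G) →
      ∀ x ∈ ⁅H₁, H₂⁆, g * x * g⁻¹ ∈ ⁅H₁, H₂⁆ := by
    intro g h1 h2 x hx
    have hmap : (⁅H₁, H₂⁆ : Subgroup G).map (MulAut.conj g).toMonoidHom ≤ ⁅H₁, H₂⁆ := by
      rw [Subgroup.map_commutator]
      apply Subgroup.commutator_mono
      · rintro _ ⟨y, hy, rfl⟩; exact conj_mem_of_mem_normalizer h1 hy
      · rintro _ ⟨y, hy, rfl⟩; exact conj_mem_of_mem_normalizer h2 hy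
    exact hmap ⟨x, hx, rfl⟩
  rw [Subgroup.mem_normalizer_iff]
  intro x
  constructor
  · exact key g h1 h2 x
  · intro hx
    have := key g⁻¹ (Subgroup.inv_mem _ h1) (Subgroup.inv_mem _ h2) _ hx
    simpa [mul_assoc] using this

/-- Conjugation by an element of the normalizer as an automorphism of the subgroup. -/
def conjAut (U : Subgroup G) (a : G) (ha : a ∈ Subgroup.normalizer (U : Set G)) : MulAut ↥U where
  toFun u := ⟨a * u * a⁻¹, conj_mem_of_mem_normalizer ha u.2⟩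
  invFun u := ⟨a⁻¹ * u * a, conj_inv_mem_of_mem_normalizer ha u.2⟩
  left_inv u := by apply Subtype.ext; simp [mul_assoc]
  right_inv u := by apply Subtype.ext; simp [mul_assoc]
  map_mul' u v := by apply Subtype.ext; simp [mul_assoc]

theorem conjAut_pow_coe (U : Subgroup G) (a : G) (ha : a ∈ Subgroup.normalizer (U : Set G)) (k : ℕ)
    (u : ↥U) : (((conjAut U a ha) ^ k) u : G) = a ^ k * u * (a ^ k)⁻¹ := by
  induction k with
  | zero => simp
  | succ k ih =>
    rw [pow_succ', MulAut.mul_apply]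
    show a * (((conjAut U a ha) ^ k) u : G) * a⁻¹ = _
    rw [ih, pow_succ']; group

/-- The ordered norm inside the ambient group. -/
def gnrm (a u : G) : ℕ → G
  | 0 => 1
  | (k + 1) => gnrm a u k * (a ^ k * u * (a ^ k)⁻¹)

theorem nrm_conjAut_coe (U : Subgroup G) (a : G) (ha : a ∈ Subgroup.normalizer (U : Set G)) (u : ↥U)
    (k : ℕ) : ((nrm (conjAut U a ha) u k : ↥U) : G) = gnrm a u k := by
  induction k with
  | zero => rfl
  | succ k ih =>
    rw [nrm_succ, Subgroup.coe_mul, ih, conjAut_pow_coe]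
    rfl

theorem gnrm_succ (a u : G) (k : ℕ) : gnrm a u (k + 1) = gnrm a u k * (a ^ k * u * (a ^ k)⁻¹) := rfl

open Cfsg.Agent.Helper54.Quad in
/-- The Frobenius sum argument on the abelian section `U / Z₀`. -/
theorem section_exponent [Finite G] (U Z₀ Y : Subgroup G) (a : G) (n : ℕ) (hn : 0 < n)
    (hZU : Z₀ ≤ U) (hcent : ∀ z ∈ Z₀, ∀ u ∈ U, z * u = u * z) (hcomm : ⁅U, U⁆ ≤ Z₀)
    (hYU : Y ≤ Subgroup.normalizer (U : Set G)) (hYZ : Y ≤ Subgroup.normalizer (Z₀ : Set G))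
    (haU : a ∈ Subgroup.normalizer (U : Set G)) (haZ : a ∈ Subgroup.normalizer (Z₀ : Set G))
    (haY : a ∈ Subgroup.normalizer (Y : Set G))
    (hfpf : ∀ i, 0 < i → i < n → ∀ y ∈ Y, a ^ i * y = y * a ^ i → y = 1)
    (hfixV : ∀ u ∈ U, (∀ y ∈ Y, u⁻¹ * (y * u * y⁻¹) ∈ Z₀) → u ∈ Z₀)
    (hnormZ : ∀ u ∈ U, gnrm a u n ∈ Z₀) :
    ∀ u ∈ U, u ^ Nat.card Y ∈ Z₀ := by
  classical
  set M : Subgroup G := Subgroup.normalizer (U : Set G) ⊓ Subgroup.normalizer (Z₀ : Set G) with hM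
  have hUZ : U ≤ Subgroup.normalizer (Z₀ : Set G) := by
    intro u hu
    rw [Subgroup.mem_normalizer_iff]
    intro z
    constructor
    · intro hz
      have e : u * z * u⁻¹ = z := by rw [← hcent z hz u hu]; group
      rw [e]; exact hz
    · intro hz
      have h1 := hcent _ hz u⁻¹ (U.inv_mem hu)
      have e : z = u⁻¹ * (u * z * u⁻¹) * u := by group
      have e2 : u⁻¹ * (u * z * u⁻¹) * u = u * z * u⁻¹ := by
        rw [← h1]; group
      rw [e, e2]; exact hz
  have hUM : U ≤ M := le_inf Subgroup.le_normalizer hUZ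
  have hYM : Y ≤ M := le_inf hYU hYZ
  have haM : a ∈ M := ⟨haU, haZ⟩
  set K : Subgroup ↥M := U.subgroupOf M with hK
  set Nn : Subgroup ↥M := Z₀.subgroupOf M with hNn
  haveI hKn : K.Normal := Subgroup.normal_subgroupOf_of_le_normalizer inf_le_left
  haveI hNnn : Nn.Normal := Subgroup.normal_subgroupOf_of_le_normalizer inf_le_right
  have hKK : ⁅K, K⁆ ≤ Nn := by
    rw [Subgroup.commutator_le]
    intro k₁ hk₁ k₂ hk₂
    rw [hNn, Subgroup.mem_subgroupOf]
    have h1 : (k₁ : G) ∈ U := hk₁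
    have h2 : (k₂ : G) ∈ U := hk₂
    have := hcomm (Subgroup.commutator_mem_commutator h1 h2)
    rw [commutatorElement_def] at this ⊢
    exact_mod_cast this
  letI instV : CommGroup (↥K ⧸ Nn.subgroupOf K) := secCommGroup K Nn hKK
  set φ : ↥M →* MulAut (↥K ⧸ Nn.subgroupOf K) := secAct K Nn with hφ
  set KY : Subgroup ↥M := Y.subgroupOf M with hKY
  letI : Fintype KY := Fintype.ofFinite _
  set aM : ↥M := ⟨a, haM⟩ with haMdef
  have hnorm : ∀ k ∈ KY, aM * k * aM⁻¹ ∈ KY := by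
    intro k hk
    rw [hKY, Subgroup.mem_subgroupOf] at hk ⊢
    exact conj_mem_of_mem_normalizer haY hk
  have hfix : ∀ i, 0 < i → i < n → ∀ k ∈ KY, aM ^ i * k = k * aM ^ i → k = 1 := by
    intro i hi hin k hk hcomm'
    rw [hKY, Subgroup.mem_subgroupOf] at hk
    have h1 : a ^ i * (k : G) = (k : G) * a ^ i := by
      have := congrArg (Subtype.val : ↥M → G) hcomm'
      simpa using this
    exact Subtype.ext (hfpf i hi hin _ hk h1)
  have hN : ∀ v : ↥K ⧸ Nn.subgroupOf K, ∏ i ∈ Finset.range n, φ (aM ^ i) v = 1 := by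
    intro v
    induction v using QuotientGroup.induction_on with
    | H k =>
    have hkU : ((k : ↥M) : G) ∈ U := k.2
    have hstep : ∀ j : ℕ, ∃ w : ↥K, ((w : ↥M) : G) = gnrm a ((k : ↥M) : G) j ∧
        ∏ i ∈ Finset.range j, φ (aM ^ i) (QuotientGroup.mk k) = QuotientGroup.mk w := by
      intro j
      induction j with
      | zero => exact ⟨1, rfl, by simp⟩
      | succ j ih =>
        obtain ⟨w, hw1, hw2⟩ := ih
        refine ⟨w * MulAut.conjNormal (aM ^ j) k, ?_, ?_⟩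
        · rw [gnrm_succ, ← hw1]
          push_cast
          rw [MulAut.conjNormal_apply]
          push_cast
          rfl
        · rw [Finset.prod_range_succ, hw2, hφ, secAct_mk, ← QuotientGroup.mk_mul]
    obtain ⟨w, hw1, hw2⟩ := hstep n
    rw [hw2, QuotientGroup.eq_one_iff, Subgroup.mem_subgroupOf, hNn, Subgroup.mem_subgroupOf, hw1]
    exact hnormZ _ hkU
  have hKprod : ∀ v : ↥K ⧸ Nn.subgroupOf K, ∏ k : KY, φ (k : ↥M) v = 1 := by
    intro v
    set T := ∏ k : KY, φ (k : ↥M) v with hT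
    have hfixT : ∀ y : KY, φ (y : ↥M) T = T := by
      intro y
      rw [hT, map_prod]
      have h1 : ∀ k : KY, φ (y : ↥M) (φ (k : ↥M) v) = φ (((y * k : KY)) : ↥M) v := by
        intro k
        rw [Subgroup.coe_mul, map_mul, MulAut.mul_apply]
      simp_rw [h1]
      exact Equiv.prod_comp (Equiv.mulLeft y) (fun k : KY => φ (k : ↥M) v)
    obtain ⟨t, ht⟩ := QuotientGroup.mk_surjective T
    have htU : ((t : ↥M) : G) ∈ U := t.2
    have htZ : ((t : ↥M) : G) ∈ Z₀ := by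
      apply hfixV _ htU
      intro y hy
      have hyM : y ∈ M := hYM hy
      have hyKY : (⟨y, hyM⟩ : ↥M) ∈ KY := by rw [hKY, Subgroup.mem_subgroupOf]; exact hy
      have h2 := hfixT ⟨⟨y, hyM⟩, hyKY⟩
      rw [← ht, hφ, secAct_mk, QuotientGroup.eq, Subgroup.mem_subgroupOf, hNn,
        Subgroup.mem_subgroupOf] at h2
      have e : ((((MulAut.conjNormal (⟨y, hyM⟩ : ↥M) t : ↥K)⁻¹ * t : ↥K) : ↥M) : G)
          = (y * ((t : ↥M) : G) * y⁻¹)⁻¹ * ((t : ↥M) : G) := by
        push_cast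
        rw [MulAut.conjNormal_apply]
        push_cast
        rfl
      rw [e] at h2
      have h3 := Z₀.inv_mem h2
      have e2 : ((y * ((t : ↥M) : G) * y⁻¹)⁻¹ * ((t : ↥M) : G))⁻¹
          = ((t : ↥M) : G)⁻¹ * (y * ((t : ↥M) : G) * y⁻¹) := by group
      rwa [e2] at h3
    rw [← ht, QuotientGroup.eq_one_iff, Subgroup.mem_subgroupOf, hNn, Subgroup.mem_subgroupOf]
    exact htZ
  have key := frob_sum φ KY aM n hn hnorm hfix hN hKprod
  have hcard : Fintype.card KY = Nat.card Y := by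
    rw [← Nat.card_eq_fintype_card]
    exact Nat.card_congr (Subgroup.subgroupOfEquivOfLe hYM).toEquiv
  intro u hu
  have hk : (⟨u, hUM hu⟩ : ↥M) ∈ K := by rw [hK, Subgroup.mem_subgroupOf]; exact hu
  have h1 := key (QuotientGroup.mk (⟨⟨u, hUM hu⟩, hk⟩ : ↥K))
  rw [hcard, ← QuotientGroup.mk_pow, QuotientGroup.eq_one_iff, Subgroup.mem_subgroupOf, hNn,
    Subgroup.mem_subgroupOf] at h1
  simpa using h1

/-- The hypotheses of the Frobenius action lemma on the acted-on subgroup `U`. -/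
structure FAHyp (p : ℕ) (Y : Subgroup G) (a : G) (n : ℕ) (U : Subgroup G) : Prop where
  pU : IsPGroup p U
  YU : Y ≤ Subgroup.normalizer (U : Set G)
  aU : a ∈ Subgroup.normalizer (U : Set G)
  an : ∀ u ∈ U, a ^ n * u = u * a ^ n
  fixa : ∀ u ∈ U, a * u = u * a → ∀ y ∈ Y, y * u = u * y

theorem FAHyp.of_le {p : ℕ} {Y : Subgroup G} {a : G} {n : ℕ} {U U₁ : Subgroup G}
    (h : FAHyp p Y a n U) (hle : U₁ ≤ U) (hY : Y ≤ Subgroup.normalizer (U₁ : Set G))
    (ha : a ∈ Subgroup.normalizer (U₁ : Set G)) : FAHyp p Y a n U₁ :=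
  ⟨h.pU.to_le hle, hY, ha, fun u hu => h.an u (hle hu), fun u hu => h.fixa u (hle hu)⟩

theorem mem_normalizer_inf_centralizer [Finite G] {U Y : Subgroup G} {g : G}
    (hU : g ∈ Subgroup.normalizer (U : Set G)) (hY : g ∈ Subgroup.normalizer (Y : Set G)) :
    g ∈ Subgroup.normalizer ((U ⊓ Subgroup.centralizer (Y : Set G) : Subgroup G) : Set G) := by
  apply Subgroup.mem_normalizer_fintype
  intro z hz
  obtain ⟨hzU, hzY⟩ := Subgroup.mem_inf.mp hz
  refine Subgroup.mem_inf.mpr ⟨conj_mem_of_mem_normalizer hU hzU, ?_⟩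
  rw [Subgroup.mem_centralizer_iff] at hzY ⊢
  intro y hy
  have h1 := hzY _ (conj_inv_mem_of_mem_normalizer hY hy)
  calc y * (g * z * g⁻¹) = g * ((g⁻¹ * y * g) * z) * g⁻¹ := by group
    _ = g * (z * (g⁻¹ * y * g)) * g⁻¹ := by rw [h1]
    _ = g * z * g⁻¹ * y := by group

/-- **The Frobenius action lemma.** -/
theorem frobenius_action [Finite G] {p : ℕ} [hp : Fact p.Prime] (hp2 : p ≠ 2) (Y : Subgroup G) (a : G)
    (n : ℕ) (hn : 0 < n) (hYcop : (Nat.card Y).Coprime p)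
    (haY : a ∈ Subgroup.normalizer (Y : Set G))
    (hfpf : ∀ i, 0 < i → i < n → ∀ y ∈ Y, a ^ i * y = y * a ^ i → y = 1) :
    ∀ U : Subgroup G, FAHyp p Y a n U → ∀ y ∈ Y, ∀ u ∈ U, y * u = u * y := by
  intro U
  induction hc : Nat.card U using Nat.strong_induction_on generalizing U with
  | _ N ih =>
  intro hU
  have hycop : ∀ y ∈ Y, (orderOf y).Coprime p := fun y hy =>
    Nat.Coprime.coprime_dvd_left (Subgroup.orderOf_dvd_natCard Y hy) hYcop
  have hpel : ∀ z ∈ U, ∃ k : ℕ, z ^ (p ^ k) = 1 := by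
    intro z hz
    obtain ⟨k, hk⟩ := hU.pU ⟨z, hz⟩
    exact ⟨k, by simpa using congrArg Subtype.val hk⟩
  have hYY : Y ≤ Subgroup.normalizer (Y : Set G) := Subgroup.le_normalizer
  -- Step A: `W = [U, Y]`
  set W : Subgroup G := ⁅U, Y⁆ with hW
  have hWU : W ≤ U := by
    rw [hW, Subgroup.commutator_le]
    intro u hu y hy
    have h1 := conj_mem_of_mem_normalizer (hU.YU hy) (U.inv_mem hu)
    have e : ⁅u, y⁆ = u * (y * u⁻¹ * y⁻¹) := by rw [commutatorElement_def]; group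
    rw [e]; exact U.mul_mem hu h1
  have hWH : FAHyp p Y a n W :=
    hU.of_le hWU (fun y hy => conj_mem_commutator (hU.YU hy) (hYY hy))
      (conj_mem_commutator hU.aU haY)
  have hred : (∀ y ∈ Y, ∀ w ∈ W, y * w = w * y) → ∀ y ∈ Y, ∀ u ∈ U, y * u = u * y := by
    intro hcent y hy u hu
    set z := u⁻¹ * (y * u * y⁻¹) with hz
    have hzW : z ∈ W := by
      have e : z = ⁅u⁻¹, y⁆ := by rw [commutatorElement_def, hz]; group
      rw [e]
      exact Subgroup.commutator_mem_commutator (U.inv_mem hu) hy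
    have h1 : y * u * y⁻¹ = u * z := by rw [hz]; group
    have h2 := Cfsg.Agent.Helper49.eq_one_of_conj_eq_mul (p := p) h1 (hcent y hy z hzW)
      (hpel z (hWU hzW)) (hycop y hy)
    rw [h2, mul_one] at h1
    calc y * u = y * u * y⁻¹ * y := by group
      _ = u * y := by rw [h1]
  by_cases hWeq : W = U
  swap
  · have hlt : Nat.card W < Nat.card U :=
      Cfsg.Agent.Helper21.card_lt_card_of_lt (lt_of_le_of_ne hWU hWeq)
    exact hred (ih _ (hc ▸ hlt) W rfl hWH)
  -- now `[U, Y] = U`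
  rcases eq_or_ne U ⊥ with hbot | hbot
  · intro y hy u hu
    rw [hbot, Subgroup.mem_bot] at hu
    rw [hu, mul_one, one_mul]
  -- Step B: `D = [U, U]`
  set D : Subgroup G := ⁅U, U⁆ with hD
  have hDU : D ≤ U := Cfsg.Agent.Helper21.commutator_self_le U
  have hDne : D ≠ U := by
    intro hDeq
    haveI : Nontrivial ↥U := (Subgroup.nontrivial_iff_ne_bot U).mpr hbot
    haveI : Group.IsNilpotent ↥U := hU.pU.isNilpotent
    have h1 := Group.IsSolvable.commutator_lt_top_of_nontrivial ↥U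
    have h2 : (_root_.commutator ↥U).map U.subtype = (⊤ : Subgroup ↥U).map U.subtype := by
      rw [Subgroup.map_subtype_commutator, ← hD, hDeq, ← MonoidHom.range_eq_map, Subgroup.range_subtype]
    exact h1.ne (Subgroup.map_injective (Subgroup.subtype_injective U) h2)
  have hDH : FAHyp p Y a n D :=
    hU.of_le hDU (fun y hy => conj_mem_commutator (hU.YU hy) (hU.YU hy))
      (conj_mem_commutator hU.aU hU.aU)
  have hDcent : ∀ y ∈ Y, ∀ d ∈ D, y * d = d * y :=
    ih _ (hc ▸ Cfsg.Agent.Helper21.card_lt_card_of_lt (lt_of_le_of_ne hDU hDne)) D rfl hDH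
  -- `Z₀ = C_U(Y)`
  set Z₀ : Subgroup G := U ⊓ Subgroup.centralizer (Y : Set G) with hZ₀
  have hZ₀U : Z₀ ≤ U := inf_le_left
  have hZ₀mem : ∀ z, z ∈ Z₀ ↔ z ∈ U ∧ ∀ y ∈ Y, y * z = z * y := by
    intro z
    rw [hZ₀, Subgroup.mem_inf, Subgroup.mem_centralizer_iff]
    exact Iff.rfl
  have hDZ₀ : D ≤ Z₀ := fun d hd => (hZ₀mem d).mpr ⟨hDU hd, fun y hy => hDcent y hy d hd⟩
  -- Step C: `Z₀` is central in `U`
  have hZ₀cent : ∀ z ∈ Z₀, ∀ u ∈ U, z * u = u * z := by
    have h1 : ⁅⁅Y, Z₀⁆, U⁆ = ⊥ := by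
      have : ⁅Y, Z₀⁆ = ⊥ := by
        rw [Subgroup.commutator_eq_bot_iff_le_centralizer]
        intro y hy
        rw [Subgroup.mem_centralizer_iff]
        intro z hz
        exact (((hZ₀mem z).mp hz).2 y hy).symm
      rw [this, Subgroup.commutator_bot_left]
    have h2 : ⁅⁅Z₀, U⁆, Y⁆ = ⊥ := by
      rw [Subgroup.commutator_eq_bot_iff_le_centralizer]
      refine (Subgroup.commutator_mono hZ₀U le_rfl).trans ?_
      intro d hd
      rw [Subgroup.mem_centralizer_iff]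
      intro y hy
      exact hDcent y hy d hd
    have h3 := Subgroup.commutator_commutator_eq_bot_of_rotate h1 h2
    rw [← hW, hWeq, Subgroup.commutator_eq_bot_iff_le_centralizer] at h3
    intro z hz u hu
    have := h3 hu
    rw [Subgroup.mem_centralizer_iff] at this
    exact this z hz
  -- Step D: fixed points of `Y` on `U / Z₀`
  have hfixV : ∀ u ∈ U, (∀ y ∈ Y, u⁻¹ * (y * u * y⁻¹) ∈ Z₀) → u ∈ Z₀ := by
    intro u hu h
    rw [hZ₀mem]
    refine ⟨hu, fun y hy => ?_⟩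
    set z := u⁻¹ * (y * u * y⁻¹) with hz
    have hzZ := h y hy
    have h1 : y * u * y⁻¹ = u * z := by rw [hz]; group
    have h2 := Cfsg.Agent.Helper49.eq_one_of_conj_eq_mul (p := p) h1
      (((hZ₀mem z).mp hzZ).2 y hy) (hpel z (hZ₀U hzZ)) (hycop y hy)
    rw [h2, mul_one] at h1
    calc y * u = y * u * y⁻¹ * y := by group
      _ = u * y := by rw [h1]
  have haZ₀ : a ∈ Subgroup.normalizer (Z₀ : Set G) := mem_normalizer_inf_centralizer hU.aU haY
  have hYZ₀ : Y ≤ Subgroup.normalizer (Z₀ : Set G) := fun y hy =>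
    mem_normalizer_inf_centralizer (hU.YU hy) (hYY hy)
  -- Step E: the norm lands in `Z₀`
  have hpodd : Odd p := hp.out.eq_two_or_odd'.resolve_left hp2
  have hcardodd : Odd (Nat.card ↥U) := by
    obtain ⟨k, hk⟩ := hU.pU.exists_card_eq
    rw [hk]; exact hpodd.pow
  have hnormZ : ∀ u ∈ U, gnrm a u n ∈ Z₀ := by
    intro u hu
    obtain ⟨z, hzD, hz⟩ := exists_fixed_norm (conjAut U a hU.aU) (Z₀.subgroupOf U)
      (fun d hd x => Subtype.ext (hZ₀cent d hd x x.2))
      (fun x y => by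
        rw [Subgroup.mem_subgroupOf]
        apply hDZ₀
        have e : (((x⁻¹ * y * x * y⁻¹ : ↥U)) : G) = ⁅((x : G))⁻¹, (y : G)⁆ := by
          rw [commutatorElement_def]; push_cast; group
        rw [e]
        exact Subgroup.commutator_mem_commutator (U.inv_mem x.2) y.2)
      (fun d hd => by
        rw [Subgroup.mem_subgroupOf] at hd ⊢
        exact conj_mem_of_mem_normalizer haZ₀ hd)
      ⟨u, hu⟩ n
      (by
        apply Subtype.ext
        rw [conjAut_pow_coe]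
        show a ^ n * u * (a ^ n)⁻¹ = u
        rw [hU.an u hu]; group)
      (Nat.card ↥U) hcardodd (fun d _ => pow_card_eq_one')
    rw [Subgroup.mem_subgroupOf] at hzD
    have h1 := congrArg (Subtype.val : ↥U → G) hz
    have h2 : a * (((nrm (conjAut U a hU.aU) ⟨u, hu⟩ n * z : ↥U)) : G) * a⁻¹
        = (((nrm (conjAut U a hU.aU) ⟨u, hu⟩ n * z : ↥U)) : G) := h1
    rw [Subgroup.coe_mul, nrm_conjAut_coe] at h2
    have hNU : gnrm a u n ∈ U := by
      rw [← nrm_conjAut_coe U a hU.aU ⟨u, hu⟩ n]; exact Subtype.coe_prop _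
    have h3 : a * (gnrm a u n * (z : G)) = (gnrm a u n * (z : G)) * a := by
      calc a * (gnrm a u n * (z : G)) = a * (gnrm a u n * (z : G)) * a⁻¹ * a := by group
        _ = (gnrm a u n * (z : G)) * a := by rw [h2]
    have h4 : gnrm a u n * (z : G) ∈ Z₀ :=
      (hZ₀mem _).mpr ⟨U.mul_mem hNU (hZ₀U hzD), hU.fixa _ (U.mul_mem hNU (hZ₀U hzD)) h3⟩
    exact (Subgroup.mul_mem_cancel_right Z₀ hzD).mp h4
  -- Step F: the Frobenius sum
  have hexp := section_exponent U Z₀ Y a n hn hZ₀U hZ₀cent hDZ₀ hU.YU hYZ₀ hU.aU haZ₀ haY hfpf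
    hfixV hnormZ
  intro y hy u hu
  have huZ : u ∈ Z₀ := by
    obtain ⟨k, hk⟩ := hpel u hu
    apply mem_of_pow_mem_coprime (hYcop.pow_right k) (hexp u hu)
    rw [hk]; exact Z₀.one_mem
  exact ((hZ₀mem u).mp huZ).2 y hy

end Cfsg.Agent.Helper54.FA
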