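import Mathlib.GroupTheory.Sylow
import Mathlib.GroupTheory.Index
import Mathlib.GroupTheory.QuotientGroup.Basic
import Cfsg.Prelude.Def_Local
import Cfsg.Agent.Lib.Cores
import Cfsg.Agent.Helper24.Coprime
import Cfsg.Agent.Helper25.CoprimeConj
import Cfsg.Agent.Helper49.CharP

set_option autoImplicit false
set_option linter.style.haveILetI false
set_option linter.unusedVariables false

/-!
# p-constraint (helper54)

* lifting normalizers / centralizers of `p`-subgroups through a hom with `p'`-kernel;
* `IsPConstrained p G ↔ C(O_p(Ḡ)) ≤ O_p(Ḡ)` for `Ḡ = G / O_{p'}(G)`;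
* normalizers and centralizers of `p`-subgroups of `p`-constrained groups are `p`-constrained.
-/

namespace Cfsg.Agent.Helper54

open Cfsg

section lifting

variable {G : Type*} [Group G] {H : Type*} [Group H] {p : ℕ}

/-- A finite subgroup with no element of order `p` has order prime to `p`. -/
theorem card_coprime_of_forall_orderOf_ne [Finite G] [hp : Fact p.Prime] (L : Subgroup G)
    (h : ∀ g ∈ L, orderOf g ≠ p) : (Nat.card L).Coprime p := by
  rw [Nat.coprime_comm, Nat.Prime.coprime_iff_not_dvd hp.out]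
  intro hdvd
  obtain ⟨g, hg⟩ := exists_prime_orderOf_dvd_card' p hdvd
  apply h g g.2
  rw [Subgroup.orderOf_coe]; exact hg

/-- Elements of a subgroup of order prime to `p` have order prime to `p`. -/
theorem orderOf_coprime_of_mem {L : Subgroup G} (hL : (Nat.card L).Coprime p) {g : G} (hg : g ∈ L) :
    (orderOf g).Coprime p := by
  have h1 : orderOf (⟨g, hg⟩ : L) ∣ Nat.card L := orderOf_dvd_natCard _
  rw [Subgroup.orderOf_mk] at h1
  exact Nat.Coprime.coprime_dvd_left h1 hL

/-- Lifting normalizers through a homomorphism with kernel of order prime to `p`. -/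
theorem exists_mem_normalizer_map_eq [Finite G] [Fact p.Prime] (π : G →* H)
    (hK : (Nat.card π.ker).Coprime p) (T : Subgroup G) (hT : IsPGroup p T) (x : G)
    (hx : π x ∈ Subgroup.normalizer ((T.map π : Subgroup H) : Set H)) :
    ∃ g ∈ Subgroup.normalizer (T : Set G), π g = π x := by
  have hp : p.Prime := Fact.out
  -- the conjugate `R = x T x⁻¹`
  set R : Subgroup G := T.map (MulAut.conj x).toMonoidHom with hR
  have hRp : IsPGroup p R := hT.map _
  have hRle : R ≤ π.ker ⊔ T := by
    rintro _ ⟨t, ht, rfl⟩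
    have h1 : π x * π t * (π x)⁻¹ ∈ T.map π :=
      (Subgroup.mem_normalizer_iff.mp hx (π t)).mp (Subgroup.mem_map_of_mem π ht)
    obtain ⟨t', ht', hπ⟩ := h1
    have hw : (MulAut.conj x).toMonoidHom t = x * t * x⁻¹ := rfl
    rw [hw]
    have hker : x * t * x⁻¹ * t'⁻¹ ∈ π.ker := by
      rw [MonoidHom.mem_ker, map_mul, map_inv, hπ, map_mul, map_mul, map_inv, mul_inv_cancel]
    have : x * t * x⁻¹ = (x * t * x⁻¹ * t'⁻¹) * t' := by group
    rw [this]
    exact Subgroup.mul_mem_sup hker ht'
  have hnorm : T ≤ Subgroup.normalizer ((π.ker : Subgroup G) : Set G) := by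
    rw [Subgroup.normalizer_eq_top]; exact le_top
  have hinf : π.ker ⊓ T = ⊥ := by
    apply (Subgroup.disjoint_of_coprime_natCard _).eq_bot
    obtain ⟨n, hn⟩ := IsPGroup.iff_card.mp hT
    rw [hn]
    exact Nat.Coprime.pow_right n hK
  have hnd : ¬ p ∣ Nat.card π.ker := by
    rwa [← Nat.Prime.coprime_iff_not_dvd hp, Nat.coprime_comm]
  obtain ⟨k, hk, hconj⟩ :=
    Cfsg.Agent.Helper25.exists_conj_mem_of_isPGroup π.ker T R hnorm hinf hRp hRle hnd
  refine ⟨k⁻¹ * x, ?_, ?_⟩
  · apply Subgroup.mem_normalizer_fintype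
    intro t ht
    have h1 := hconj (x * t * x⁻¹) ⟨t, ht, rfl⟩
    have : k⁻¹ * x * t * (k⁻¹ * x)⁻¹ = k⁻¹ * (x * t * x⁻¹) * k := by group
    rw [this]; exact h1
  · rw [map_mul, map_inv, MonoidHom.mem_ker.mp hk, inv_one, one_mul]

/-- Lifting centralizers through a homomorphism with kernel of order prime to `p`. -/
theorem exists_mem_centralizer_map_eq [Finite G] [Fact p.Prime] (π : G →* H)
    (hK : (Nat.card π.ker).Coprime p) (T : Subgroup G) (hT : IsPGroup p T) (x : G)
    (hx : π x ∈ Subgroup.centralizer ((T.map π : Subgroup H) : Set H)) :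
    ∃ g ∈ Subgroup.centralizer (T : Set G), π g = π x := by
  have hxn : π x ∈ Subgroup.normalizer ((T.map π : Subgroup H) : Set H) :=
    Subgroup.centralizer_le_normalizer _ hx
  obtain ⟨g, hg, hgx⟩ := exists_mem_normalizer_map_eq π hK T hT x hxn
  refine ⟨g, ?_, hgx⟩
  rw [Subgroup.mem_centralizer_iff]
  intro t ht
  -- the commutator lies in `T ⊓ ker π = ⊥`
  have h1 : g * t * g⁻¹ ∈ T := (Subgroup.mem_normalizer_iff.mp hg t).mp ht
  have h2 : g * t * g⁻¹ * t⁻¹ ∈ T := T.mul_mem h1 (T.inv_mem ht)
  have h3 : g * t * g⁻¹ * t⁻¹ ∈ π.ker := by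
    rw [MonoidHom.mem_ker, map_mul, map_mul, map_mul, map_inv, map_inv, hgx]
    have hc := (Subgroup.mem_centralizer_iff.mp hx) (π t) (Subgroup.mem_map_of_mem π ht)
    rw [← hc, mul_inv_cancel_right, mul_inv_cancel]
  have hinf : π.ker ⊓ T = ⊥ := by
    apply (Subgroup.disjoint_of_coprime_natCard _).eq_bot
    obtain ⟨n, hn⟩ := IsPGroup.iff_card.mp hT
    rw [hn]
    exact Nat.Coprime.pow_right n hK
  have h4 : g * t * g⁻¹ * t⁻¹ ∈ π.ker ⊓ T := ⟨h3, h2⟩
  rw [hinf, Subgroup.mem_bot] at h4
  have h5 : g * t * g⁻¹ = t := by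
    rw [mul_inv_eq_one] at h4; exact h4
  calc t * g = (g * t * g⁻¹) * g := by rw [h5]
    _ = g * t := by group

end lifting

section cores

variable {G : Type*} [Group G] {p : ℕ}

/-- The preimage of a `p'`-subgroup under a homomorphism with `p'`-kernel is a `p'`-subgroup. -/
theorem card_comap_coprime [Finite G] [hp : Fact p.Prime] {H : Type*} [Group H] (π : G →* H)
    (hK : (Nat.card π.ker).Coprime p) (M : Subgroup H) (hM : (Nat.card M).Coprime p) :
    (Nat.card (M.comap π)).Coprime p := by
  apply card_coprime_of_forall_orderOf_ne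
  intro g hg hgp
  have h1 : (orderOf (π g)).Coprime p := orderOf_coprime_of_mem hM (Subgroup.mem_comap.mp hg)
  have h2 : orderOf (π g) ∣ p := hgp ▸ orderOf_map_dvd π g
  have h3 : orderOf (π g) = 1 := Nat.eq_one_of_dvd_coprimes h1 dvd_rfl h2
  have h4 : g ∈ π.ker := by
    rw [MonoidHom.mem_ker]; exact orderOf_eq_one_iff.mp h3
  have h5 : (orderOf g).Coprime p := orderOf_coprime_of_mem hK h4
  rw [hgp] at h5
  exact hp.out.ne_one (Nat.coprime_self p |>.mp h5)

/-- `O_{p'}(G / O_{p'}(G)) = 1`. -/
theorem pPrimeCore_quotient_eq_bot [Finite G] [hp : Fact p.Prime] :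
    pPrimeCore p (G ⧸ pPrimeCore p G) = ⊥ := by
  set K := pPrimeCore p G with hK
  have hKc : (Nat.card K).Coprime p := Cfsg.Agent.Lib.card_pPrimeCore_coprime p
  have hker : (QuotientGroup.mk' K).ker = K := QuotientGroup.ker_mk' K
  have hM : (Nat.card (pPrimeCore p (G ⧸ K))).Coprime p := Cfsg.Agent.Lib.card_pPrimeCore_coprime p
  have hN : (Nat.card ((pPrimeCore p (G ⧸ K)).comap (QuotientGroup.mk' K))).Coprime p :=
    card_comap_coprime _ (by rw [hker]; exact hKc) _ hM
  have hNn : ((pPrimeCore p (G ⧸ K)).comap (QuotientGroup.mk' K)).Normal := inferInstance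
  have hle : (pPrimeCore p (G ⧸ K)).comap (QuotientGroup.mk' K) ≤ K :=
    Cfsg.Agent.Lib.le_pPrimeCore hNn hN
  rw [eq_bot_iff]
  intro x hx
  obtain ⟨g, rfl⟩ := QuotientGroup.mk'_surjective K x
  have hg : g ∈ K := hle (Subgroup.mem_comap.mpr hx)
  rw [Subgroup.mem_bot, QuotientGroup.mk'_apply, QuotientGroup.eq_one_iff]
  exact hg

/-- If `M` is a normal `p'`-subgroup with `O_{p'}(G/M) = 1`, then `O_{p'}(G) = M`. -/
theorem pPrimeCore_eq_of_quotient [Finite G] [hp : Fact p.Prime] (M : Subgroup G) [hMn : M.Normal]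
    (hM : (Nat.card M).Coprime p) (hq : pPrimeCore p (G ⧸ M) = ⊥) : pPrimeCore p G = M := by
  apply le_antisymm
  · intro g hg
    have h1 : (QuotientGroup.mk' M g) ∈ (pPrimeCore p G).map (QuotientGroup.mk' M) :=
      Subgroup.mem_map_of_mem _ hg
    have hn : ((pPrimeCore p G).map (QuotientGroup.mk' M)).Normal :=
      Subgroup.Normal.map inferInstance _ (QuotientGroup.mk'_surjective M)
    have hc : (Nat.card ((pPrimeCore p G).map (QuotientGroup.mk' M))).Coprime p := by
      have hdvd : Nat.card ((pPrimeCore p G).map (QuotientGroup.mk' M)) ∣ Nat.card (pPrimeCore p G) :=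
        Subgroup.card_map_dvd _ _
      exact Nat.Coprime.coprime_dvd_left hdvd (Cfsg.Agent.Lib.card_pPrimeCore_coprime p)
    have h2 := Cfsg.Agent.Lib.le_pPrimeCore hn hc h1
    rw [hq, Subgroup.mem_bot, QuotientGroup.mk'_apply, QuotientGroup.eq_one_iff] at h2
    exact h2
  · exact Cfsg.Agent.Lib.le_pPrimeCore hMn hM

end cores

section constrained

variable {G : Type*} [Group G] {p : ℕ}

/-- Characteristic `p`: `O_{p'}(H) = 1` and `C_H(O_p(H)) ≤ O_p(H)`. -/
def CharP (p : ℕ) (H : Type*) [Group H] : Prop :=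
  pPrimeCore p H = ⊥ ∧ Subgroup.centralizer (pCore p H : Set H) ≤ pCore p H

/-- A Sylow `p`-subgroup of `O_{p',p}(G)` maps onto `O_p(G / O_{p'}(G))`. -/
theorem map_sylow_pPrimePCore [Finite G] [hp : Fact p.Prime] (P : Sylow p ↥(pPrimePCore p G)) :
    ((P : Subgroup ↥(pPrimePCore p G)).map (pPrimePCore p G).subtype).map
        (QuotientGroup.mk' (pPrimeCore p G)) = pCore p (G ⧸ pPrimeCore p G) := by
  set K := pPrimeCore p G with hK
  apply le_antisymm
  · rintro _ ⟨_, ⟨y, hy, rfl⟩, rfl⟩
    exact y.2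
  · intro x hx
    -- the restricted quotient map `O_{p',p}(G) → O_p(G/K)` is onto, and maps `P` to a Sylow subgroup
    let f : ↥(pPrimePCore p G) →* ↥(pCore p (G ⧸ K)) :=
      (QuotientGroup.mk' K).subgroupComap (pCore p (G ⧸ K))
    have hf : Function.Surjective f :=
      MonoidHom.subgroupComap_surjective_of_surjective _ _ (QuotientGroup.mk'_surjective K)
    have hQ : IsPGroup p ↥(pCore p (G ⧸ K)) := Cfsg.Agent.Lib.isPGroup_pCore p
    have htop : ((P.mapSurjective hf : Sylow p ↥(pCore p (G ⧸ K))) :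
        Subgroup ↥(pCore p (G ⧸ K))) = ⊤ := by
      have hT : IsPGroup p (⊤ : Subgroup ↥(pCore p (G ⧸ K))) := hQ.to_subgroup ⊤
      exact ((P.mapSurjective hf).3 hT le_top).symm
    have hx' : (⟨x, hx⟩ : ↥(pCore p (G ⧸ K))) ∈
        ((P.mapSurjective hf : Sylow p ↥(pCore p (G ⧸ K))) : Subgroup ↥(pCore p (G ⧸ K))) := by
      rw [htop]; exact Subgroup.mem_top _
    rw [Sylow.coe_mapSurjective] at hx'
    obtain ⟨y, hy, hyx⟩ := hx'
    refine ⟨(y : G), ⟨y, hy, rfl⟩, ?_⟩
    have := congrArg Subtype.val hyx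
    exact this

/-- `G` is `p`-constrained iff `G / O_{p'}(G)` has characteristic `p`. -/
theorem isPConstrained_iff [Finite G] [hp : Fact p.Prime] :
    IsPConstrained p G ↔
      Subgroup.centralizer (pCore p (G ⧸ pPrimeCore p G) : Set (G ⧸ pPrimeCore p G)) ≤
        pCore p (G ⧸ pPrimeCore p G) := by
  set K := pPrimeCore p G with hK
  have hKc : (Nat.card K).Coprime p := Cfsg.Agent.Lib.card_pPrimeCore_coprime p
  have hker : (QuotientGroup.mk' K).ker = K := QuotientGroup.ker_mk' K
  constructor
  · intro h x hx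
    obtain ⟨P⟩ : Nonempty (Sylow p ↥(pPrimePCore p G)) := Sylow.nonempty
    set P' : Subgroup G := (P : Subgroup ↥(pPrimePCore p G)).map (pPrimePCore p G).subtype with hP'
    have hP'p : IsPGroup p P' := P.2.map _
    have hmap : P'.map (QuotientGroup.mk' K) = pCore p (G ⧸ K) := map_sylow_pPrimePCore P
    obtain ⟨g₀, rfl⟩ := QuotientGroup.mk'_surjective K x
    have hx' : (QuotientGroup.mk' K) g₀ ∈
        Subgroup.centralizer ((P'.map (QuotientGroup.mk' K) : Subgroup (G ⧸ K)) : Set (G ⧸ K)) := by
      rw [hmap]; exact hx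
    obtain ⟨g, hg, hgx⟩ := exists_mem_centralizer_map_eq (QuotientGroup.mk' K)
      (by rw [hker]; exact hKc) P' hP'p g₀ hx'
    have := h P hg
    rw [← hgx]
    exact this
  · intro h P g hg
    show (QuotientGroup.mk' K) g ∈ pCore p (G ⧸ K)
    apply h
    rw [← map_sylow_pPrimePCore P, Subgroup.mem_centralizer_iff]
    rintro _ ⟨t, ht, rfl⟩
    rw [← map_mul, ← map_mul, (Subgroup.mem_centralizer_iff.mp hg) t ht]

/-- `G` is `p`-constrained iff `G / O_{p'}(G)` has characteristic `p`. -/
theorem isPConstrained_iff_charP [Finite G] [hp : Fact p.Prime] :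
    IsPConstrained p G ↔ CharP p (G ⧸ pPrimeCore p G) := by
  rw [isPConstrained_iff, CharP]
  exact ⟨fun h => ⟨pPrimeCore_quotient_eq_bot, h⟩, fun h => h.2⟩

end constrained

section locals

variable {G : Type*} [Group G] {p : ℕ}

/-- In a finite group, `O_{p'}` commutes elementwise with every normal `p`-subgroup. -/
theorem commute_pPrimeCore_of_normal_isPGroup [Finite G] [hp : Fact p.Prime] (Y : Subgroup G)
    (hYn : Y.Normal) (hY : IsPGroup p Y) {x y : G} (hx : x ∈ pPrimeCore p G) (hy : y ∈ Y) :
    x * y = y * x := by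
  have hdis : Disjoint (pPrimeCore p G) Y := by
    apply Subgroup.disjoint_of_coprime_natCard
    obtain ⟨n, hn⟩ := IsPGroup.iff_card.mp hY
    rw [hn]
    exact Nat.Coprime.pow_right n (Cfsg.Agent.Lib.card_pPrimeCore_coprime p)
  exact (Subgroup.commute_of_normal_of_disjoint _ _ inferInstance hYn hdis x y hx hy).eq

/-- The key consequence of Thompson's `P × Q` lemma: in a group with `C(O_p) ≤ O_p`, a `p'`-element
centralizing a `p`-subgroup `T` and `C_{O_p}(T)` is trivial. -/
theorem eq_one_of_centralizes [Finite G] [hp : Fact p.Prime]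
    (hG : Subgroup.centralizer (pCore p G : Set G) ≤ pCore p G) (T : Subgroup G) (hT : IsPGroup p T)
    {c : G} (hcop : (orderOf c).Coprime p) (hcT : ∀ t ∈ T, c * t = t * c)
    (hcQ : ∀ u ∈ pCore p G, (∀ t ∈ T, t * u = u * t) → c * u = u * c) : c = 1 := by
  have hQn : (pCore p G).Normal := inferInstance
  have hnorm : ∀ g : G, g ∈ Subgroup.normalizer ((pCore p G : Subgroup G) : Set G) := by
    intro g; rw [Subgroup.normalizer_eq_top]; exact Subgroup.mem_top g
  have hall := Cfsg.Agent.Helper24.thompson_PxQ (Cfsg.Agent.Lib.isPGroup_pCore p) hT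
    (fun t _ => hnorm t) (hnorm c) hcop hcT hcQ
  have hc : c ∈ pCore p G := by
    apply hG
    rw [Subgroup.mem_centralizer_iff]
    intro u hu
    exact (hall u hu).symm
  exact Cfsg.Agent.Helper49.eq_one_of_mem_pGroup_of_coprime (Cfsg.Agent.Lib.isPGroup_pCore p) hc hcop

/-- Subgroups between `C_G(T)` and `N_G(T)` (containing `T` or centralizing `T`) of a group of
characteristic `p` have characteristic `p`. -/
theorem charP_of_le_normalizer [Finite G] [hp : Fact p.Prime] (hG : CharP p G)
    (T L : Subgroup G) (hT : IsPGroup p T) (hLN : L ≤ Subgroup.normalizer (T : Set G))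
    (hCL : Subgroup.centralizer (T : Set G) ≤ L)
    (hcase : T ≤ L ∨ L ≤ Subgroup.centralizer (T : Set G)) : CharP p ↥L := by
  -- `Y = C_{O_p(G)}(T)` is a normal `p`-subgroup of `L`
  set Y : Subgroup G := pCore p G ⊓ Subgroup.centralizer (T : Set G) with hY
  have hYL : Y ≤ L := inf_le_right.trans hCL
  have hYp : IsPGroup p Y := (Cfsg.Agent.Lib.isPGroup_pCore p).to_inf_left
  have hYnorm : ∀ l ∈ L, ∀ y ∈ Y, l * y * l⁻¹ ∈ Y := by
    intro l hl y hy
    obtain ⟨hy1, hy2⟩ := Subgroup.mem_inf.mp hy
    refine Subgroup.mem_inf.mpr ⟨(inferInstance : (pCore p G).Normal).conj_mem y hy1 l, ?_⟩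
    rw [Subgroup.mem_centralizer_iff]
    intro t ht
    -- `l⁻¹ t l ∈ T` commutes with `y`
    have hl' : l⁻¹ ∈ Subgroup.normalizer (T : Set G) := Subgroup.inv_mem _ (hLN hl)
    have ht' : l⁻¹ * t * l⁻¹⁻¹ ∈ T := (Subgroup.mem_normalizer_iff.mp hl' t).mp ht
    have hc := (Subgroup.mem_centralizer_iff.mp hy2) _ ht'
    calc t * (l * y * l⁻¹) = l * ((l⁻¹ * t * l⁻¹⁻¹) * y) * l⁻¹ := by group
      _ = l * (y * (l⁻¹ * t * l⁻¹⁻¹)) * l⁻¹ := by rw [hc]
      _ = l * y * l⁻¹ * t := by group
  have hYsub_n : (Y.subgroupOf L).Normal := by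
    constructor
    intro n hn l
    rw [Subgroup.mem_subgroupOf] at hn ⊢
    simpa using hYnorm l l.2 n hn
  have hYsub_p : IsPGroup p (Y.subgroupOf L) := hYp.comap_subtype
  -- elements of `L` centralizing `O_p(L)` centralize `Y`
  have hYcore : Y ≤ Cfsg.Agent.Helper49.coreIn p L :=
    Cfsg.Agent.Helper49.le_coreIn hYL hYnorm hYp
  -- in the case `T ≤ L`, also `T ≤ O_p(L)`
  have hTcore : T ≤ L → T ≤ Cfsg.Agent.Helper49.coreIn p L := by
    intro hTL
    apply Cfsg.Agent.Helper49.le_coreIn hTL _ hT
    intro l hl t ht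
    exact (Subgroup.mem_normalizer_iff.mp (hLN hl) t).mp ht
  constructor
  · -- `O_{p'}(L) = 1`
    rw [eq_bot_iff]
    intro x hx
    rw [Subgroup.mem_bot]
    apply Subtype.ext
    show (x : G) = 1
    have hcop : (orderOf (x : G)).Coprime p := by
      rw [Subgroup.orderOf_coe]
      exact orderOf_coprime_of_mem (Cfsg.Agent.Lib.card_pPrimeCore_coprime p) hx
    apply eq_one_of_centralizes hG.2 T hT hcop
    · intro t ht
      rcases hcase with hTL | hLC
      · -- `T` is a normal `p`-subgroup of `L`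
        have hTn : (T.subgroupOf L).Normal := by
          constructor
          intro n hn l
          rw [Subgroup.mem_subgroupOf] at hn ⊢
          simpa using (Subgroup.mem_normalizer_iff.mp (hLN l.2) n).mp hn
        have hTp : IsPGroup p (T.subgroupOf L) := hT.comap_subtype
        have h1 := commute_pPrimeCore_of_normal_isPGroup (T.subgroupOf L) hTn hTp hx
          (y := ⟨t, hTL ht⟩) (by rw [Subgroup.mem_subgroupOf]; exact ht)
        exact congrArg Subtype.val h1
      · exact ((Subgroup.mem_centralizer_iff.mp (hLC x.2)) t ht).symm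
    · intro u hu hut
      have huY : u ∈ Y := by
        refine Subgroup.mem_inf.mpr ⟨hu, ?_⟩
        rw [Subgroup.mem_centralizer_iff]
        exact hut
      have h1 := commute_pPrimeCore_of_normal_isPGroup (Y.subgroupOf L) hYsub_n hYsub_p hx
        (y := ⟨u, hYL huY⟩) (by rw [Subgroup.mem_subgroupOf]; exact huY)
      exact congrArg Subtype.val h1
  · -- `C_L(O_p(L)) ≤ O_p(L)`
    apply Cfsg.Agent.Helper49.charP_of_forall
    intro c hcL hcR hcop
    apply eq_one_of_centralizes hG.2 T hT hcop
    · intro t ht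
      rcases hcase with hTL | hLC
      · exact hcR t (hTcore hTL ht)
      · exact ((Subgroup.mem_centralizer_iff.mp (hLC hcL)) t ht).symm
    · intro u hu hut
      apply hcR
      apply hYcore
      refine Subgroup.mem_inf.mpr ⟨hu, ?_⟩
      rw [Subgroup.mem_centralizer_iff]
      exact hut

end locals

section transport

variable {H : Type*} [Group H] {H' : Type*} [Group H'] {p : ℕ}

theorem map_pCore_le (e : H ≃* H') : (pCore p H).map e.toMonoidHom ≤ pCore p H' := by
  apply Cfsg.Agent.Lib.le_pCore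
  · exact Subgroup.Normal.map inferInstance _ e.surjective
  · exact (Cfsg.Agent.Lib.isPGroup_pCore p).map _

theorem mem_pCore_equiv (e : H ≃* H') {x : H} : e x ∈ pCore p H' ↔ x ∈ pCore p H := by
  constructor
  · intro h
    have := map_pCore_le (p := p) e.symm (Subgroup.mem_map_of_mem e.symm.toMonoidHom h)
    simpa using this
  · intro h
    exact map_pCore_le e (Subgroup.mem_map_of_mem e.toMonoidHom h)

theorem map_pPrimeCore_le [Finite H] (e : H ≃* H') :
    (pPrimeCore p H).map e.toMonoidHom ≤ pPrimeCore p H' := by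
  apply Cfsg.Agent.Lib.le_pPrimeCore
  · exact Subgroup.Normal.map inferInstance _ e.surjective
  · rw [Subgroup.card_map_of_injective (f := e.toMonoidHom) e.injective]
    exact Cfsg.Agent.Lib.card_pPrimeCore_coprime p

theorem mem_pPrimeCore_equiv [Finite H] (e : H ≃* H') {x : H} :
    e x ∈ pPrimeCore p H' ↔ x ∈ pPrimeCore p H := by
  haveI : Finite H' := Finite.of_equiv H e.toEquiv
  constructor
  · intro h
    have := map_pPrimeCore_le (p := p) e.symm (Subgroup.mem_map_of_mem e.symm.toMonoidHom h)
    simpa using this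
  · intro h
    exact map_pPrimeCore_le e (Subgroup.mem_map_of_mem e.toMonoidHom h)

/-- Characteristic `p` is invariant under isomorphism. -/
theorem CharP.of_equiv [Finite H] (e : H ≃* H') (h : CharP p H) : CharP p H' := by
  constructor
  · rw [eq_bot_iff]
    intro y hy
    have h1 : e.symm y ∈ pPrimeCore p H := by
      rw [← mem_pPrimeCore_equiv e, e.apply_symm_apply]; exact hy
    rw [h.1, Subgroup.mem_bot] at h1
    rw [Subgroup.mem_bot]
    have := congrArg e h1
    rwa [e.apply_symm_apply, map_one] at this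
  · intro y hy
    have h1 : e.symm y ∈ pCore p H := by
      apply h.2
      rw [Subgroup.mem_centralizer_iff]
      intro u hu
      have hu' : e u ∈ pCore p H' := (mem_pCore_equiv e).mpr hu
      have hc := (Subgroup.mem_centralizer_iff.mp hy) (e u) hu'
      apply e.injective
      rw [map_mul, map_mul, e.apply_symm_apply]
      exact hc
    have := (mem_pCore_equiv e).mpr h1
    rwa [e.apply_symm_apply] at this

end transport

section main

variable {G : Type*} [Group G] {p : ℕ}

/-- If `G` maps onto a group of characteristic `p` with kernel of order prime to `p`, then `G` is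
`p`-constrained. -/
theorem isPConstrained_of_surjective [Finite G] [hp : Fact p.Prime] {H : Type*} [Group H]
    (φ : G →* H) (hφ : Function.Surjective φ) (hker : (Nat.card φ.ker).Coprime p)
    (hH : CharP p H) : IsPConstrained p G := by
  -- the quotient by the kernel has characteristic `p`
  have e : G ⧸ φ.ker ≃* H := QuotientGroup.quotientKerEquivOfSurjective φ hφ
  haveI : Finite H := Finite.of_surjective φ hφ
  have hq : CharP p (G ⧸ φ.ker) := CharP.of_equiv e.symm hH
  -- hence the kernel is `O_{p'}(G)`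
  have hM : pPrimeCore p G = φ.ker := pPrimeCore_eq_of_quotient φ.ker hker hq.1
  rw [isPConstrained_iff_charP]
  -- transport along the equality of subgroups
  obtain ⟨M, hMeq⟩ : ∃ M : Subgroup G, M = φ.ker := ⟨_, rfl⟩
  have hMn : M.Normal := hMeq ▸ inferInstance
  have hq' : CharP p (G ⧸ M) := by subst hMeq; exact hq
  have hM' : pPrimeCore p G = M := hM.trans hMeq.symm
  subst hM'
  exact hq'

/-- Subgroups between `C_G(T)` and `N_G(T)` of a `p`-constrained group are `p`-constrained. -/
theorem isPConstrained_of_le_normalizer [Finite G] [hp : Fact p.Prime] (hG : IsPConstrained p G)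
    (T L : Subgroup G) (hT : IsPGroup p T) (hLN : L ≤ Subgroup.normalizer (T : Set G))
    (hCL : Subgroup.centralizer (T : Set G) ≤ L)
    (hcase : T ≤ L ∨ L ≤ Subgroup.centralizer (T : Set G)) : IsPConstrained p ↥L := by
  set K := pPrimeCore p G with hK
  have hKc : (Nat.card K).Coprime p := Cfsg.Agent.Lib.card_pPrimeCore_coprime p
  have hker : (QuotientGroup.mk' K).ker = K := QuotientGroup.ker_mk' K
  have hGbar : CharP p (G ⧸ K) := isPConstrained_iff_charP.mp hG
  -- images in the quotient
  have hTbar : IsPGroup p (T.map (QuotientGroup.mk' K)) := hT.map _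
  have h1 : L.map (QuotientGroup.mk' K) ≤
      Subgroup.normalizer ((T.map (QuotientGroup.mk' K) : Subgroup (G ⧸ K)) : Set (G ⧸ K)) :=
    (Subgroup.map_mono hLN).trans (Subgroup.le_normalizer_map _)
  have h2 : Subgroup.centralizer ((T.map (QuotientGroup.mk' K) : Subgroup (G ⧸ K)) : Set (G ⧸ K)) ≤
      L.map (QuotientGroup.mk' K) := by
    intro x hx
    obtain ⟨g₀, rfl⟩ := QuotientGroup.mk'_surjective K x
    obtain ⟨g, hg, hgx⟩ := exists_mem_centralizer_map_eq (QuotientGroup.mk' K)
      (by rw [hker]; exact hKc) T hT g₀ hx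
    rw [← hgx]
    exact Subgroup.mem_map_of_mem _ (hCL hg)
  have h3 : T.map (QuotientGroup.mk' K) ≤ L.map (QuotientGroup.mk' K) ∨
      L.map (QuotientGroup.mk' K) ≤
        Subgroup.centralizer ((T.map (QuotientGroup.mk' K) : Subgroup (G ⧸ K)) : Set (G ⧸ K)) := by
    rcases hcase with h | h
    · exact Or.inl (Subgroup.map_mono h)
    · right
      rintro _ ⟨l, hl, rfl⟩
      rw [Subgroup.mem_centralizer_iff]
      rintro _ ⟨t, ht, rfl⟩
      rw [← map_mul, ← map_mul, (Subgroup.mem_centralizer_iff.mp (h hl)) t ht]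
  have hLbar : CharP p ↥(L.map (QuotientGroup.mk' K)) :=
    charP_of_le_normalizer hGbar _ _ hTbar h1 h2 h3
  -- the restriction of the quotient map to `L`
  apply isPConstrained_of_surjective ((QuotientGroup.mk' K).subgroupMap L)
    (MonoidHom.subgroupMap_surjective _ _) _ hLbar
  -- its kernel is `K ⊓ L`, of order prime to `p`
  have hkerL : ((QuotientGroup.mk' K).subgroupMap L).ker = K.subgroupOf L := by
    ext x
    rw [MonoidHom.mem_ker, Subgroup.mem_subgroupOf]
    have hx : (x : G) ∈ K ↔ (QuotientGroup.mk' K) (x : G) = 1 := by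
      rw [← MonoidHom.mem_ker, hker]
    rw [hx]
    constructor
    · intro h; exact congrArg Subtype.val h
    · intro h; exact Subtype.ext h
  rw [hkerL]
  have hdvd : Nat.card (K.subgroupOf L) ∣ Nat.card K := by
    rw [← Subgroup.card_map_of_injective (f := L.subtype) L.subtype_injective,
      Subgroup.subgroupOf_map_subtype]
    exact Subgroup.card_dvd_of_le inf_le_left
  exact Nat.Coprime.coprime_dvd_left hdvd hKc

/-- In a `p`-constrained group, the normalizer of every `p`-subgroup is `p`-constrained. -/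
theorem isPConstrained_normalizer [Finite G] [hp : Fact p.Prime] (hG : IsPConstrained p G)
    (T : Subgroup G) (hT : IsPGroup p T) : IsPConstrained p ↥(Subgroup.normalizer (T : Set G)) :=
  isPConstrained_of_le_normalizer hG T _ hT le_rfl (Subgroup.centralizer_le_normalizer _)
    (Or.inl Subgroup.le_normalizer)

/-- In a `p`-constrained group, the centralizer of every `p`-subgroup is `p`-constrained. -/
theorem isPConstrained_centralizer [Finite G] [hp : Fact p.Prime] (hG : IsPConstrained p G)
    (T : Subgroup G) (hT : IsPGroup p T) : IsPConstrained p ↥(Subgroup.centralizer (T : Set G)) :=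
  isPConstrained_of_le_normalizer hG T _ hT (Subgroup.centralizer_le_normalizer _) le_rfl
    (Or.inr le_rfl)

end main

section more

variable {G : Type*} [Group G] {p : ℕ}

/-- A group of characteristic `p` is `p`-constrained. -/
theorem CharP.isPConstrained [Finite G] [hp : Fact p.Prime] (h : CharP p G) : IsPConstrained p G := by
  apply isPConstrained_of_surjective (MonoidHom.id G) Function.surjective_id _ h
  rw [MonoidHom.ker_id, Subgroup.card_bot]
  exact Nat.coprime_one_left p

/-- A `p`-constrained group with `O_{p'}(G) = 1` has characteristic `p`. -/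
theorem charP_of_isPConstrained [Finite G] [hp : Fact p.Prime] (h : IsPConstrained p G)
    (h1 : pPrimeCore p G = ⊥) : CharP p G := by
  have h2 : CharP p (G ⧸ pPrimeCore p G) := isPConstrained_iff_charP.mp h
  exact CharP.of_equiv ((QuotientGroup.quotientMulEquivOfEq h1).trans QuotientGroup.quotientBot) h2

/-- `p`-constraint passes to and from the quotient by `O_{p'}(G)`. -/
theorem isPConstrained_iff_quotient [Finite G] [hp : Fact p.Prime] :
    IsPConstrained p G ↔ IsPConstrained p (G ⧸ pPrimeCore p G) := by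
  constructor
  · intro h
    exact (isPConstrained_iff_charP.mp h).isPConstrained
  · intro h
    exact isPConstrained_iff_charP.mpr (charP_of_isPConstrained h pPrimeCore_quotient_eq_bot)

end more

end Cfsg.Agent.Helper54
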