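import Cfsg.Agent.Helper54.PConstrained2
import Cfsg.Agent.Helper55.SolvCore

set_option autoImplicit false
set_option linter.style.haveILetI false

/-!
More on `p`-constrained groups (helper54): `p'`-cores of `p`-local subgroups, solvable groups are
`p`-constrained.
-/

namespace Cfsg.Agent.Helper54

open Cfsg

section

variable {G : Type*} [Group G] {p : ℕ}

/-- If `φ : G →* H` is onto with kernel of order prime to `p` and `O_{p'}(H) = 1`, then
`O_{p'}(G) = ker φ`. -/
theorem pPrimeCore_eq_ker_of_surjective' [Finite G] [hp : Fact p.Prime]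
    {H : Type*} [Group H] (φ : G →* H) (hφ : Function.Surjective φ)
    (hker : (Nat.card φ.ker).Coprime p) (hH : pPrimeCore p H = ⊥) : pPrimeCore p G = φ.ker := by
  have e : G ⧸ φ.ker ≃* H := QuotientGroup.quotientKerEquivOfSurjective φ hφ
  have : Finite H := Finite.of_surjective φ hφ
  have hq : pPrimeCore p (G ⧸ φ.ker) = ⊥ := by
    rw [eq_bot_iff]
    intro x hx
    have h1 : e x ∈ pPrimeCore p H := (mem_pPrimeCore_equiv e).mpr hx
    rw [hH, Subgroup.mem_bot] at h1
    rw [Subgroup.mem_bot]
    exact (MulEquiv.map_eq_one_iff e).mp h1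
  exact pPrimeCore_eq_of_quotient φ.ker hker hq

/-- In a `p`-constrained group `G`, for a `p`-subgroup `T` and `C_G(T) ≤ L ≤ N_G(T)` (with `T ≤ L` or
`L ≤ C_G(T)`): `O_{p'}(L) = O_{p'}(G) ∩ L`. -/
theorem map_pPrimeCore_of_le_normalizer [Finite G] [hp : Fact p.Prime] (hG : IsPConstrained p G)
    (T L : Subgroup G) (hT : IsPGroup p T) (hLN : L ≤ Subgroup.normalizer (T : Set G))
    (hCL : Subgroup.centralizer (T : Set G) ≤ L)
    (hcase : T ≤ L ∨ L ≤ Subgroup.centralizer (T : Set G)) :
    (pPrimeCore p ↥L).map L.subtype = pPrimeCore p G ⊓ L := by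
  have hKc : (Nat.card (pPrimeCore p G)).Coprime p := Cfsg.Agent.Lib.card_pPrimeCore_coprime p
  have hker : (QuotientGroup.mk' (pPrimeCore p G)).ker = pPrimeCore p G := QuotientGroup.ker_mk' _
  have hGbar : CharP p (G ⧸ pPrimeCore p G) := isPConstrained_iff_charP.mp hG
  have hTbar : IsPGroup p (T.map (QuotientGroup.mk' (pPrimeCore p G))) := hT.map _
  have h1 : L.map (QuotientGroup.mk' (pPrimeCore p G)) ≤
      Subgroup.normalizer ((T.map (QuotientGroup.mk' (pPrimeCore p G)) :
        Subgroup (G ⧸ pPrimeCore p G)) : Set (G ⧸ pPrimeCore p G)) :=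
    (Subgroup.map_mono hLN).trans (Subgroup.le_normalizer_map _)
  have h2 : Subgroup.centralizer ((T.map (QuotientGroup.mk' (pPrimeCore p G)) :
        Subgroup (G ⧸ pPrimeCore p G)) : Set (G ⧸ pPrimeCore p G)) ≤
      L.map (QuotientGroup.mk' (pPrimeCore p G)) := by
    intro x hx
    obtain ⟨g₀, rfl⟩ := QuotientGroup.mk'_surjective (pPrimeCore p G) x
    obtain ⟨g, hg, hgx⟩ := exists_mem_centralizer_map_eq (QuotientGroup.mk' (pPrimeCore p G))
      (by rw [hker]; exact hKc) T hT g₀ hx
    rw [← hgx]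
    exact Subgroup.mem_map_of_mem _ (hCL hg)
  have h3 : T.map (QuotientGroup.mk' (pPrimeCore p G)) ≤
        L.map (QuotientGroup.mk' (pPrimeCore p G)) ∨
      L.map (QuotientGroup.mk' (pPrimeCore p G)) ≤
        Subgroup.centralizer ((T.map (QuotientGroup.mk' (pPrimeCore p G)) :
          Subgroup (G ⧸ pPrimeCore p G)) : Set (G ⧸ pPrimeCore p G)) := by
    rcases hcase with h | h
    · exact Or.inl (Subgroup.map_mono h)
    · right
      rintro _ ⟨l, hl, rfl⟩
      rw [Subgroup.mem_centralizer_iff]
      rintro _ ⟨t, ht, rfl⟩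
      rw [← map_mul, ← map_mul, (Subgroup.mem_centralizer_iff.mp (h hl)) t ht]
  have hLbar : CharP p ↥(L.map (QuotientGroup.mk' (pPrimeCore p G))) :=
    charP_of_le_normalizer hGbar _ _ hTbar h1 h2 h3
  have hkerL : ((QuotientGroup.mk' (pPrimeCore p G)).subgroupMap L).ker =
      (pPrimeCore p G).subgroupOf L := by
    ext x
    rw [MonoidHom.mem_ker, Subgroup.mem_subgroupOf]
    have hx : (x : G) ∈ pPrimeCore p G ↔ (QuotientGroup.mk' (pPrimeCore p G)) (x : G) = 1 := by
      rw [← MonoidHom.mem_ker, hker]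
    rw [hx]
    constructor
    · intro h; exact congrArg Subtype.val h
    · intro h; exact Subtype.ext h
  have hdvd : Nat.card ((pPrimeCore p G).subgroupOf L) ∣ Nat.card (pPrimeCore p G) := by
    rw [← Subgroup.card_map_of_injective (f := L.subtype) (Subgroup.subtype_injective _),
      Subgroup.subgroupOf_map_subtype]
    exact Subgroup.card_dvd_of_le inf_le_left
  have hmain : pPrimeCore p ↥L = (pPrimeCore p G).subgroupOf L := by
    rw [← hkerL]
    apply pPrimeCore_eq_ker_of_surjective' _ (MonoidHom.subgroupMap_surjective _ _) _ hLbar.1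
    rw [hkerL]
    exact Nat.Coprime.coprime_dvd_left hdvd hKc
  rw [hmain, Subgroup.subgroupOf_map_subtype]

/-- In a `p`-constrained group, `O_{p'}(C_G(x)) = O_{p'}(G) ∩ C_G(x)` for every `p`-element `x`. -/
theorem map_pPrimeCore_centralizer [Finite G] [hp : Fact p.Prime] (hG : IsPConstrained p G)
    (x : G) (hx : IsPGroup p (Subgroup.zpowers x)) :
    (pPrimeCore p ↥(Subgroup.centralizer ({x} : Set G))).map
      (Subgroup.centralizer ({x} : Set G)).subtype =
      pPrimeCore p G ⊓ Subgroup.centralizer ({x} : Set G) := by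
  have heq : Subgroup.centralizer ({x} : Set G) =
      Subgroup.centralizer ((Subgroup.zpowers x : Subgroup G) : Set G) := by
    ext g
    rw [mem_centralizer_zpowers_iff, Subgroup.mem_centralizer_singleton_iff]
  apply map_pPrimeCore_of_le_normalizer hG (Subgroup.zpowers x) _ hx
  · rw [heq]; exact Subgroup.centralizer_le_normalizer _
  · rw [heq]
  · right; exact heq.le

/-- A finite solvable group is `p`-constrained. -/
theorem isPConstrained_of_isSolvable [Finite G] [hp : Fact p.Prime] [hs : Group.IsSolvable G] :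
    IsPConstrained p G := by
  rw [isPConstrained_iff_charP]
  refine ⟨pPrimeCore_quotient_eq_bot, ?_⟩
  exact Cfsg.Agent.Helper55.centralizer_pCore_le p pPrimeCore_quotient_eq_bot

end

end Cfsg.Agent.Helper54
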