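import Cfsg.Agent.Helper54.PConstrained
import Cfsg.Agent.Helper11.PSeries

set_option autoImplicit false
set_option linter.style.haveILetI false

/-!
The first terms of the upper `p`-series, and `p`-length one (helper54).
-/

namespace Cfsg.Agent.Helper54

open Cfsg

variable {G : Type*} [Group G] {p : ℕ}

theorem comap_pPrimeCore_of_eq_bot [Finite G] (M : Subgroup G) [M.Normal] (hM : M = ⊥) :
    (pPrimeCore p (G ⧸ M)).comap (QuotientGroup.mk' M) = pPrimeCore p G := by
  subst hM
  ext g
  rw [Subgroup.mem_comap]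
  have e : G ≃* G ⧸ (⊥ : Subgroup G) := QuotientGroup.quotientBot.symm
  have he : ∀ x : G, QuotientGroup.quotientBot.symm x = QuotientGroup.mk' (⊥ : Subgroup G) x :=
    fun x => rfl
  rw [← he]
  exact mem_pPrimeCore_equiv (QuotientGroup.quotientBot (G := G)).symm

/-- `U₁ = O_{p'}(G)`. -/
theorem upperPSeries_one [Finite G] : (upperPSeries p G 1).1 = pPrimeCore p G := by
  rw [Cfsg.Agent.Helper11.upperPSeries_succ_even p 0 (by decide)]
  exact comap_pPrimeCore_of_eq_bot _ (Cfsg.Agent.Helper11.upperPSeries_zero p)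

theorem comap_pCore_of_eq (M : Subgroup G) [M.Normal] (hM : M = pPrimeCore p G) :
    (pCore p (G ⧸ M)).comap (QuotientGroup.mk' M) = pPrimePCore p G := by
  subst hM
  rfl

/-- `U₂ = O_{p',p}(G)`. -/
theorem upperPSeries_two [Finite G] : (upperPSeries p G 2).1 = pPrimePCore p G := by
  rw [Cfsg.Agent.Helper11.upperPSeries_succ_odd p 1 (by decide)]
  exact comap_pCore_of_eq _ upperPSeries_one

/-- If `G / U` is a `p'`-group then every `p`-subgroup lies in `U`. -/
theorem le_of_comap_pPrimeCore_eq_top [Finite G] [Fact p.Prime] (U : Subgroup G) [U.Normal]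
    (h : (pPrimeCore p (G ⧸ U)).comap (QuotientGroup.mk' U) = ⊤)
    (P : Subgroup G) (hP : IsPGroup p P) : P ≤ U := by
  have htop : pPrimeCore p (G ⧸ U) = ⊤ := by
    rw [eq_top_iff]
    intro x _
    obtain ⟨g, rfl⟩ := QuotientGroup.mk'_surjective U x
    have : g ∈ (pPrimeCore p (G ⧸ U)).comap (QuotientGroup.mk' U) := by
      rw [h]; exact Subgroup.mem_top g
    exact Subgroup.mem_comap.mp this
  have hcop : (Nat.card (G ⧸ U)).Coprime p := by
    have h1 : (Nat.card (pPrimeCore p (G ⧸ U))).Coprime p :=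
      Cfsg.Agent.Lib.card_pPrimeCore_coprime p
    rw [htop, Subgroup.card_top] at h1
    exact h1
  intro g hg
  obtain ⟨k, hk⟩ := hP ⟨g, hg⟩
  have hk' : g ^ p ^ k = 1 := by
    have := congrArg Subtype.val hk
    simpa using this
  have h1 : orderOf (QuotientGroup.mk' U g) ∣ p ^ k := by
    apply orderOf_dvd_of_pow_eq_one
    rw [← map_pow, hk', map_one]
  have h2 : orderOf (QuotientGroup.mk' U g) ∣ Nat.card (G ⧸ U) := orderOf_dvd_natCard _
  have h3 : orderOf (QuotientGroup.mk' U g) = 1 :=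
    Nat.eq_one_of_dvd_coprimes (Nat.Coprime.pow_right k hcop) h2 h1
  rw [orderOf_eq_one_iff, QuotientGroup.mk'_apply, QuotientGroup.eq_one_iff] at h3
  exact h3

/-- In a group of `p`-length at most one, every `p`-subgroup lies in `O_{p',p}(G)`. -/
theorem le_pPrimePCore_of_pLengthLE_one [Finite G] [hp : Fact p.Prime] (h : PLengthLE p 1 G)
    (P : Subgroup G) (hP : IsPGroup p P) : P ≤ pPrimePCore p G := by
  unfold PLengthLE at h
  rw [show 2 * 1 + 1 = 2 + 1 from rfl,
    Cfsg.Agent.Helper11.upperPSeries_succ_even p 2 (by decide)] at h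
  rw [← upperPSeries_two]
  exact le_of_comap_pPrimeCore_eq_top _ h P hP

/-- In a group of `p`-length at most one, the image of every `p`-subgroup in `G / O_{p'}(G)` lies
in `O_p(G / O_{p'}(G))`. -/
theorem map_le_pCore_of_pLengthLE_one [Finite G] [hp : Fact p.Prime] (h : PLengthLE p 1 G)
    (P : Subgroup G) (hP : IsPGroup p P) :
    P.map (QuotientGroup.mk' (pPrimeCore p G)) ≤ pCore p (G ⧸ pPrimeCore p G) := by
  rintro _ ⟨g, hg, rfl⟩
  exact Subgroup.mem_comap.mp (le_pPrimePCore_of_pLengthLE_one h P hP hg)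

/-- For a Sylow `p`-subgroup `S` inside `O_{p',p}(G)`: `O_{p',p}(G) = S · O_{p'}(G)`. -/
theorem pPrimePCore_eq_sup [Finite G] [hp : Fact p.Prime] (S : Sylow p G)
    (hS : (S : Subgroup G) ≤ pPrimePCore p G) :
    pPrimePCore p G = (S : Subgroup G) ⊔ pPrimeCore p G := by
  have h1 := map_sylow_pPrimePCore (S.subtype hS)
  rw [Sylow.coe_subtype, Subgroup.subgroupOf_map_subtype, inf_of_le_left hS] at h1
  unfold pPrimePCore
  rw [← h1, Subgroup.comap_map_eq, QuotientGroup.ker_mk']

/-- Frattini argument for groups of `p`-length one: `G = N_G(S) · O_{p'}(G)`. -/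
theorem normalizer_sup_pPrimeCore_eq_top [Finite G] [hp : Fact p.Prime] (h : PLengthLE p 1 G)
    (S : Sylow p G) :
    Subgroup.normalizer ((S : Subgroup G) : Set G) ⊔ pPrimeCore p G = ⊤ := by
  have hS : (S : Subgroup G) ≤ pPrimePCore p G :=
    le_pPrimePCore_of_pLengthLE_one h S S.isPGroup'
  haveI : (pPrimePCore p G).Normal := by unfold pPrimePCore; infer_instance
  have h1 := Sylow.normalizer_sup_eq_top' S hS
  rw [pPrimePCore_eq_sup S hS, ← sup_assoc] at h1
  have h2 : Subgroup.normalizer ((S : Subgroup G) : Set G) ⊔ (S : Subgroup G) =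
      Subgroup.normalizer ((S : Subgroup G) : Set G) := sup_of_le_left Subgroup.le_normalizer
  rw [← h2]
  exact h1

/-- In a group of `p`-length one every element is `k * n` with `k ∈ O_{p'}(G)`, `n ∈ N_G(S)`. -/
theorem exists_mul_of_pLengthLE_one [Finite G] [hp : Fact p.Prime] (h : PLengthLE p 1 G)
    (S : Sylow p G) (x : G) :
    ∃ k ∈ pPrimeCore p G, ∃ n ∈ Subgroup.normalizer ((S : Subgroup G) : Set G), k * n = x := by
  have h1 : x ∈ pPrimeCore p G ⊔ Subgroup.normalizer ((S : Subgroup G) : Set G) := by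
    rw [sup_comm, normalizer_sup_pPrimeCore_eq_top h S]; exact Subgroup.mem_top x
  exact Subgroup.mem_sup_of_normal_left.mp h1

/-- In a group of `p`-length one every element is `n * k` with `n ∈ N_G(S)`, `k ∈ O_{p'}(G)`. -/
theorem exists_mul_of_pLengthLE_one' [Finite G] [hp : Fact p.Prime] (h : PLengthLE p 1 G)
    (S : Sylow p G) (x : G) :
    ∃ n ∈ Subgroup.normalizer ((S : Subgroup G) : Set G), ∃ k ∈ pPrimeCore p G, n * k = x := by
  have h1 : x ∈ Subgroup.normalizer ((S : Subgroup G) : Set G) ⊔ pPrimeCore p G := by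
    rw [normalizer_sup_pPrimeCore_eq_top h S]; exact Subgroup.mem_top x
  exact Subgroup.mem_sup_of_normal_right.mp h1

end Cfsg.Agent.Helper54
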