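import Cfsg.Agent.Helper54.ThompsonB
import Cfsg.Agent.Helper54.PLength
import Cfsg.Agent.Helper29.CoprimeCount
import Cfsg.Agent.Helper24.OddOmega

set_option autoImplicit false
set_option linter.style.haveILetI false
set_option linter.unusedVariables false
set_option linter.unusedSectionVars false

/-!
# Thompson's lemma for invariant `p'`-subgroups (not only `q`-subgroups), and the `Ω₁` variant (helper54)
-/

namespace Cfsg.Agent.Helper54.TC

open Cfsg Cfsg.Agent.Helper54 Cfsg.Agent.Helper54.TA Cfsg.Agent.Helper54.FA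

/-- A finite subgroup all of whose "Sylow parts" lie in `T` lies in `T`. -/
theorem le_of_sylow_parts_le {G : Type*} [Group G] [Finite G] (Y T : Subgroup G)
    (h : ∀ q : ℕ, q.Prime → ∃ Q : Subgroup G, Q ≤ Y ∧ Q ≤ T ∧
      Nat.card Q = q ^ (Nat.card Y).factorization q) : Y ≤ T := by
  set S := Y ⊓ T with hS
  have hSY : S ≤ Y := inf_le_left
  have hY0 : Nat.card Y ≠ 0 := Nat.card_pos.ne'
  have hS0 : Nat.card S ≠ 0 := Nat.card_pos.ne'
  have hdvd : Nat.card Y ∣ Nat.card S := by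
    rw [← Nat.factorization_prime_le_iff_dvd hY0 hS0]
    intro q hq
    obtain ⟨Q, hQY, hQT, hQcard⟩ := h q hq
    have hQS : Q ≤ S := le_inf hQY hQT
    have h1 : Nat.card Q ∣ Nat.card S := Subgroup.card_dvd_of_le hQS
    rw [hQcard] at h1
    exact (hq.pow_dvd_iff_le_factorization hS0).mp h1
  have hle : Nat.card Y ≤ Nat.card S := Nat.le_of_dvd (Nat.pos_of_ne_zero hS0) hdvd
  have hSeq : S = Y := Subgroup.eq_of_le_of_card_ge hSY hle
  rw [← hSeq]
  exact inf_le_right

variable {L : Type*} [Group L] [Finite L] {p : ℕ} [hp : Fact p.Prime]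

/-- Thompson's lemma for invariant `p'`-subgroups of a `p`-constrained group. -/
theorem le_pPrimeCore_of_invariant_coprime (hL : IsPConstrained p L) (A : Subgroup L)
    (hAp : IsPGroup p A) (hAc : ∀ x ∈ A, ∀ y ∈ A, x * y = y * x)
    (hfull : ∀ z ∈ Subgroup.centralizer (A : Set L), (∃ k : ℕ, z ^ p ^ k = 1) → z ∈ A)
    (h2 : p = 2 → ∀ R : Subgroup L, IsPGroup p R → ∀ x ∈ R, ∀ y ∈ R, ∀ z ∈ R,
      (x⁻¹ * y * x * y⁻¹) * z = z * (x⁻¹ * y * x * y⁻¹))
    (Y : Subgroup L) (hYcop : (Nat.card Y).Coprime p)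
    (hAY : A ≤ Subgroup.normalizer (Y : Set L)) : Y ≤ pPrimeCore p L := by
  apply le_of_sylow_parts_le
  intro q hq
  haveI : Fact q.Prime := ⟨hq⟩
  by_cases hqp : q = p
  · refine ⟨⊥, bot_le, bot_le, ?_⟩
    rw [Subgroup.card_bot, hqp]
    have : (Nat.card Y).factorization p = 0 := by
      apply Nat.factorization_eq_zero_of_not_dvd
      exact (hp.out.coprime_iff_not_dvd.mp hYcop.symm)
    rw [this, pow_zero]
  · obtain ⟨k, hk⟩ := hAp.exists_card_eq
    have hcop : (Nat.card A).Coprime (Nat.card Y) := by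
      rw [hk]; exact Nat.Coprime.pow_left k hYcop.symm
    obtain ⟨Q, -, hQY, hQq, hAQ, hQcard⟩ := Cfsg.Agent.Helper29.exists_invariant_sylow_ge
      (q := q) hAp hAY hcop (bot_le : (⊥ : Subgroup L) ≤ Y) IsPGroup.of_bot (by
        intro a _
        rw [Subgroup.mem_normalizer_iff]
        intro h
        simp [Subgroup.mem_bot])
    exact ⟨Q, hQY, Cfsg.Agent.Helper54.TB.le_pPrimeCore_of_invariant hqp hL A hAp hAc hfull h2 Q hQq hAQ,
      hQcard⟩

/-- The `Ω₁` variant for odd `p` and `p`-length one: `A` need only contain the elements of order dividing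
`p` of its centralizer. -/
theorem le_pPrimeCore_of_invariant_omega (hp2 : p ≠ 2) (hL : IsPConstrained p L)
    (hlen : PLengthLE p 1 L) (A : Subgroup L) (hAp : IsPGroup p A)
    (hfull : ∀ z ∈ Subgroup.centralizer (A : Set L), z ^ p = 1 → z ∈ A)
    (Y : Subgroup L) (hYcop : (Nat.card Y).Coprime p)
    (hAY : A ≤ Subgroup.normalizer (Y : Set L)) : Y ≤ pPrimeCore p L := by
  set K := pPrimeCore p L with hK
  set π : L →* L ⧸ K := QuotientGroup.mk' K with hπdef
  have hπ : Function.Surjective π := QuotientGroup.mk'_surjective K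
  have hker : π.ker = K := QuotientGroup.ker_mk' K
  have hKcop' : (Nat.card K).Coprime p := Cfsg.Agent.Lib.card_pPrimeCore_coprime p
  have hKcop : (Nat.card π.ker).Coprime p := by rw [hker]; exact hKcop'
  have hchar : CharP p (L ⧸ K) := isPConstrained_iff_charP.mp hL
  set Qb := pCore p (L ⧸ K) with hQb
  haveI hQn : Qb.Normal := inferInstance
  have hQp : IsPGroup p Qb := Cfsg.Agent.Lib.isPGroup_pCore p
  have hAQ : A.map π ≤ Qb := map_le_pCore_of_pLengthLE_one hlen A hAp
  have hAbp : IsPGroup p (A.map π) := hAp.map π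
  -- the lifted `Ω₁` hypothesis
  have hfull' : ∀ zb ∈ Subgroup.centralizer ((A.map π : Subgroup (L ⧸ K)) : Set (L ⧸ K)),
      zb ^ p = 1 → zb ∈ A.map π := by
    intro zb hzb hzp
    obtain ⟨z, rfl⟩ := hπ zb
    obtain ⟨g, hgC, hg⟩ := exists_mem_centralizer_map_eq π hKcop A hAp z hzb
    have hgk : g ^ (p ^ 1) ∈ π.ker := by
      rw [MonoidHom.mem_ker, pow_one, map_pow, hg, hzp]
    obtain ⟨b, hb, ⟨j, hbj⟩, hbg⟩ :=
      Cfsg.Agent.Lib.ZJ.exists_pElement_of_pow_mem (isOfFinOrder_of_finite g) hgk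
    have hbC : b ∈ Subgroup.centralizer (A : Set L) := (Subgroup.zpowers_le.mpr hgC) hb
    have hπb : π b = π z := by
      rw [MonoidHom.mem_ker, map_mul, map_inv] at hbg
      rw [← hg]
      exact (inv_mul_eq_one.mp hbg)
    have hbp : b ^ p = 1 := by
      have h1 : b ^ p ∈ K := by
        rw [← hker, MonoidHom.mem_ker, map_pow, hπb, hzp]
      have h2 : (orderOf (b ^ p)).Coprime p :=
        Nat.Coprime.coprime_dvd_left (Subgroup.orderOf_dvd_natCard K h1) hKcop'
      have h3 : (b ^ p) ^ p ^ j = 1 := by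
        rw [← pow_mul, mul_comm, pow_mul, hbj, one_pow]
      have h4 : orderOf (b ^ p) ∣ p ^ j := orderOf_dvd_of_pow_eq_one h3
      exact orderOf_eq_one_iff.mp (Nat.eq_one_of_dvd_coprimes (h2.pow_right j) dvd_rfl h4)
    rw [← hπb]
    exact Subgroup.mem_map_of_mem π (hfull b hbC hbp)
  rw [← hker]
  intro y hy
  rw [MonoidHom.mem_ker]
  set yb := π y with hyb
  have hybY : yb ∈ Y.map π := Subgroup.mem_map_of_mem π hy
  have hYbcard : (Nat.card (Y.map π)).Coprime p :=
    Nat.Coprime.coprime_dvd_left (Subgroup.card_map_dvd Y π) hYcop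
  have hcopY : ∀ c ∈ Y.map π, (orderOf c).Coprime p := fun c hc =>
    Nat.Coprime.coprime_dvd_left (Subgroup.orderOf_dvd_natCard _ hc) hYbcard
  have hAYb : A.map π ≤ Subgroup.normalizer ((Y.map π : Subgroup (L ⧸ K)) : Set (L ⧸ K)) :=
    (Subgroup.map_mono hAY).trans (Subgroup.le_normalizer_map π)
  -- `yb` commutes with `A.map π`
  have hyA : ∀ a ∈ A.map π, yb * a = a * yb := by
    intro a ha
    set c := a * yb * a⁻¹ * yb⁻¹ with hc
    have hcY : c ∈ Y.map π :=
      Subgroup.mul_mem _ (Cfsg.Agent.Helper24.conj_mem_of_mem_normalizer (hAYb ha) hybY)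
        (Subgroup.inv_mem _ hybY)
    have hcQ : c ∈ Qb := by
      have e : c = a * (yb * a⁻¹ * yb⁻¹) := by rw [hc]; group
      rw [e]
      exact Qb.mul_mem (hAQ ha) (hQn.conj_mem _ (Qb.inv_mem (hAQ ha)) yb)
    have h1 := Cfsg.Agent.Helper49.eq_one_of_mem_pGroup_of_coprime hQp hcQ (hcopY c hcY)
    calc yb * a = (a * yb * a⁻¹ * yb⁻¹)⁻¹ * (a * yb) := by group
      _ = a * yb := by rw [← hc, h1]; group
  have hnormQ : ∀ g : L ⧸ K, g ∈ Subgroup.normalizer (Qb : Set (L ⧸ K)) := by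
    intro g; rw [Subgroup.normalizer_eq_top]; exact Subgroup.mem_top g
  -- `yb` centralizes `C_Q(A)` by the `Ω₁` theorem
  set R := Qb ⊓ Subgroup.centralizer ((A.map π : Subgroup (L ⧸ K)) : Set (L ⧸ K)) with hR
  have hRmem : ∀ u, u ∈ R ↔ u ∈ Qb ∧ ∀ b ∈ A.map π, b * u = u * b := by
    intro u
    rw [hR, Subgroup.mem_inf, Subgroup.mem_centralizer_iff]
    exact Iff.rfl
  have hyR : yb ∈ Subgroup.normalizer (R : Set (L ⧸ K)) :=
    mem_normalizer_inf_centralizer (hnormQ yb) (mem_normalizer_of_centralizes hyA)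
  have hcentR : ∀ x ∈ R, yb * x = x * yb := by
    apply Cfsg.Agent.Helper24.commute_of_commute_omega_odd hp2 (hcopY yb hybY) R
      (hQp.to_le inf_le_left) hyR
    intro x hx hxp
    have hxA : x ∈ A.map π := by
      apply hfull' x _ hxp
      rw [Subgroup.mem_centralizer_iff]
      exact ((hRmem x).mp hx).2
    exact hyA x hxA
  have hcentQ : ∀ u ∈ Qb, yb * u = u * yb := by
    apply Cfsg.Agent.Helper24.thompson_PxQ hQp hAbp (fun b _ => hnormQ b) (hnormQ yb)
      (hcopY yb hybY) hyA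
    intro u hu hcomm
    exact hcentR u ((hRmem u).mpr ⟨hu, hcomm⟩)
  have hyQ : yb ∈ Qb := by
    apply hchar.2
    rw [Subgroup.mem_centralizer_iff]
    intro u hu
    exact (hcentQ u hu).symm
  exact Cfsg.Agent.Helper49.eq_one_of_mem_pGroup_of_coprime hQp hyQ (hcopY yb hybY)

end Cfsg.Agent.Helper54.TC
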