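import Cfsg.Agent.Helper54.PConstrained
import Mathlib.GroupTheory.GroupAction.ConjAct

set_option autoImplicit false
set_option linter.style.haveILetI false
set_option linter.unusedVariables false

/-!
# p-constraint, part 2 (helper54)

* normal subgroups of groups of characteristic `p` / of `p`-constrained groups;
* quotients of `p`-constrained groups by normal `p'`-subgroups;
* invariance of `p`-constraint under isomorphism;
* if `O_{p'}(X) = 1`, `x ∈ O_p(X)` and `C_X(x)` is `p`-constrained then `X` has characteristic `p`.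
-/

namespace Cfsg.Agent.Helper54

open Cfsg

section transport2

variable {H : Type*} [Group H] {H' : Type*} [Group H'] {p : ℕ}

/-- `p`-constraint is invariant under isomorphism. -/
theorem IsPConstrained.of_equiv [Finite H] [hp : Fact p.Prime] (e : H ≃* H')
    (h : IsPConstrained p H) : IsPConstrained p H' := by
  haveI : Finite H' := Finite.of_equiv H e.toEquiv
  have hc : CharP p (H ⧸ pPrimeCore p H) := isPConstrained_iff_charP.mp h
  apply isPConstrained_of_surjective
    ((QuotientGroup.mk' (pPrimeCore p H)).comp e.symm.toMonoidHom) _ _ hc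
  · exact (QuotientGroup.mk'_surjective _).comp e.symm.surjective
  · have hker : ((QuotientGroup.mk' (pPrimeCore p H)).comp e.symm.toMonoidHom).ker =
        (pPrimeCore p H).map e.toMonoidHom := by
      ext y
      rw [MonoidHom.mem_ker, MonoidHom.comp_apply, ← MonoidHom.mem_ker, QuotientGroup.ker_mk']
      constructor
      · intro hy
        exact ⟨e.symm y, hy, e.apply_symm_apply y⟩
      · rintro ⟨z, hz, rfl⟩
        show e.symm (e z) ∈ _
        rw [e.symm_apply_apply]; exact hz
    rw [hker, Subgroup.card_map_of_injective (f := e.toMonoidHom) e.injective]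
    exact Cfsg.Agent.Lib.card_pPrimeCore_coprime p

/-- The quotient of a `p`-constrained group by a normal `p'`-subgroup is `p`-constrained. -/
theorem IsPConstrained.of_surjective [Finite H] [hp : Fact p.Prime] (φ : H →* H')
    (hφ : Function.Surjective φ) (hker : (Nat.card φ.ker).Coprime p)
    (h : IsPConstrained p H) : IsPConstrained p H' := by
  haveI : Finite H' := Finite.of_surjective φ hφ
  have hc : CharP p (H ⧸ pPrimeCore p H) := isPConstrained_iff_charP.mp h
  have hle : φ.ker ≤ (QuotientGroup.mk' (pPrimeCore p H)).ker := by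
    rw [QuotientGroup.ker_mk']
    exact Cfsg.Agent.Lib.le_pPrimeCore inferInstance hker
  set θ : H' →* H ⧸ pPrimeCore p H :=
    φ.liftOfSurjective hφ ⟨QuotientGroup.mk' (pPrimeCore p H), hle⟩ with hθ
  have hθφ : ∀ x, θ (φ x) = QuotientGroup.mk' (pPrimeCore p H) x := by
    intro x
    exact MonoidHom.liftOfRightInverse_comp_apply _ _ _ _ x
  apply isPConstrained_of_surjective θ _ _ hc
  · intro q
    obtain ⟨x, rfl⟩ := QuotientGroup.mk'_surjective _ q
    exact ⟨φ x, hθφ x⟩
  · have hkerθ : θ.ker ≤ (pPrimeCore p H).map φ := by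
      intro y hy
      obtain ⟨x, rfl⟩ := hφ y
      rw [MonoidHom.mem_ker, hθφ, ← MonoidHom.mem_ker, QuotientGroup.ker_mk'] at hy
      exact Subgroup.mem_map_of_mem φ hy
    have h1 : Nat.card θ.ker ∣ Nat.card ((pPrimeCore p H).map φ) := Subgroup.card_dvd_of_le hkerθ
    have h2 : Nat.card ((pPrimeCore p H).map φ) ∣ Nat.card (pPrimeCore p H) :=
      Subgroup.card_map_dvd _ _
    exact Nat.Coprime.coprime_dvd_left (h1.trans h2) (Cfsg.Agent.Lib.card_pPrimeCore_coprime p)

end transport2

section normal

variable {X : Type*} [Group X] {p : ℕ}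

/-- `O_{p'}` of a normal subgroup lies in `O_{p'}` of the group. -/
theorem map_pPrimeCore_subtype_le [Finite X] (Y : Subgroup X) [Y.Normal] :
    (pPrimeCore p ↥Y).map Y.subtype ≤ pPrimeCore p X := by
  haveI : (pPrimeCore p ↥Y).Characteristic := Cfsg.Agent.Lib.pPrimeCore_characteristic p
  apply Cfsg.Agent.Lib.le_pPrimeCore
  · exact ConjAct.normal_of_characteristic_of_normal
  · rw [Subgroup.card_map_of_injective (f := Y.subtype) Y.subtype_injective]
    exact Cfsg.Agent.Lib.card_pPrimeCore_coprime p

/-- `O_p` of a normal subgroup lies in `O_p` of the group. -/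
theorem map_pCore_subtype_le (Y : Subgroup X) [Y.Normal] :
    (pCore p ↥Y).map Y.subtype ≤ pCore p X := by
  haveI : (pCore p ↥Y).Characteristic := Cfsg.Agent.Lib.pCore_characteristic p
  apply Cfsg.Agent.Lib.le_pCore
  · exact ConjAct.normal_of_characteristic_of_normal
  · exact (Cfsg.Agent.Lib.isPGroup_pCore p).map _

/-- If `O_{p'}(X) = 1` then `O_{p'}(Y) = 1` for every normal subgroup `Y`. -/
theorem pPrimeCore_eq_bot_of_normal [Finite X] (Y : Subgroup X) [Y.Normal]
    (h : pPrimeCore p X = ⊥) : pPrimeCore p ↥Y = ⊥ := by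
  rw [eq_bot_iff]
  intro y hy
  have h1 : (y : X) ∈ pPrimeCore p X := map_pPrimeCore_subtype_le Y ⟨y, hy, rfl⟩
  rw [h, Subgroup.mem_bot] at h1
  rw [Subgroup.mem_bot]
  exact Subtype.ext h1

/-- A normal subgroup of a group of characteristic `p` has characteristic `p`. -/
theorem CharP.of_normal [Finite X] [hp : Fact p.Prime] (h : CharP p X) (Y : Subgroup X) [hY : Y.Normal] :
    CharP p ↥Y := by
  refine ⟨pPrimeCore_eq_bot_of_normal Y h.1, ?_⟩
  rw [← Cfsg.Agent.Helper49.charPIn_iff]
  apply Cfsg.Agent.Helper49.charPIn_of_normalized (M := ⊤)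
    (Cfsg.Agent.Helper49.charPIn_top_iff.mpr h.2) le_top
  rw [Subgroup.normalizer_eq_top]
  exact le_top

/-- A normal subgroup of a `p`-constrained group is `p`-constrained. -/
theorem IsPConstrained.of_normal [Finite X] [hp : Fact p.Prime] (h : IsPConstrained p X)
    (Y : Subgroup X) [hY : Y.Normal] : IsPConstrained p ↥Y := by
  set J := pPrimeCore p X with hJ
  have hc : CharP p (X ⧸ J) := isPConstrained_iff_charP.mp h
  have hJc : (Nat.card J).Coprime p := Cfsg.Agent.Lib.card_pPrimeCore_coprime p
  -- the image `W` of `Y` in `X / J` is normal, hence of characteristic `p`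
  haveI hWn : (Y.map (QuotientGroup.mk' J)).Normal :=
    Subgroup.Normal.map hY _ (QuotientGroup.mk'_surjective J)
  have hW : CharP p ↥(Y.map (QuotientGroup.mk' J)) := hc.of_normal _
  apply isPConstrained_of_surjective ((QuotientGroup.mk' J).subgroupMap Y)
    (MonoidHom.subgroupMap_surjective _ _) _ hW
  have hkerY : ((QuotientGroup.mk' J).subgroupMap Y).ker = J.subgroupOf Y := by
    ext x
    rw [MonoidHom.mem_ker, Subgroup.mem_subgroupOf]
    have hx : (x : X) ∈ J ↔ (QuotientGroup.mk' J) (x : X) = 1 := by
      rw [← MonoidHom.mem_ker, QuotientGroup.ker_mk']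
    rw [hx]
    constructor
    · intro h; exact congrArg Subtype.val h
    · intro h; exact Subtype.ext h
  rw [hkerY]
  have hdvd : Nat.card (J.subgroupOf Y) ∣ Nat.card J := by
    rw [← Subgroup.card_map_of_injective (f := Y.subtype) Y.subtype_injective,
      Subgroup.subgroupOf_map_subtype]
    exact Subgroup.card_dvd_of_le inf_le_left
  exact Nat.Coprime.coprime_dvd_left hdvd hJc

end normal

section centralizers

variable {X : Type*} [Group X] {p : ℕ}

/-- If `O_{p'}(X) = 1`, `x ∈ O_p(X)` and `C_X(x)` is `p`-constrained, then `X` has characteristic `p`. -/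
theorem charP_of_centralizer [Finite X] [hp : Fact p.Prime] (h0 : pPrimeCore p X = ⊥) (x : X)
    (hx : x ∈ pCore p X) (hD : IsPConstrained p ↥(Subgroup.centralizer ({x} : Set X))) :
    CharP p X := by
  refine ⟨h0, ?_⟩
  set Y : Subgroup X := Subgroup.centralizer ((pCore p X : Subgroup X) : Set X) with hY
  haveI hYn : Y.Normal := Subgroup.normal_centralizer
  have hYD : Y ≤ Subgroup.centralizer ({x} : Set X) := by
    intro y hy
    rw [Subgroup.mem_centralizer_singleton_iff]
    exact ((Subgroup.mem_centralizer_iff.mp hy) x hx).symm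
  -- `Y` is `p`-constrained with trivial `p'`-core
  have h1 : IsPConstrained p ↥(Y.subgroupOf (Subgroup.centralizer ({x} : Set X))) :=
    IsPConstrained.of_normal hD _
  have h2 : IsPConstrained p ↥Y := IsPConstrained.of_equiv (Subgroup.subgroupOfEquivOfLe hYD) h1
  have h3 : CharP p ↥Y := charP_of_isPConstrained h2 (pPrimeCore_eq_bot_of_normal Y h0)
  -- `Y` centralizes its own `O_p`
  have h4 : (⊤ : Subgroup ↥Y) ≤ pCore p ↥Y := by
    intro y _
    apply h3.2
    rw [Subgroup.mem_centralizer_iff]
    intro u hu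
    have huQ : (u : X) ∈ pCore p X := map_pCore_subtype_le Y ⟨u, hu, rfl⟩
    apply Subtype.ext
    exact (Subgroup.mem_centralizer_iff.mp y.2) (u : X) huQ
  have h5 : IsPGroup p ↥Y := by
    have h6 : IsPGroup p ↥(pCore p ↥Y) := Cfsg.Agent.Lib.isPGroup_pCore p
    intro y
    obtain ⟨k, hk⟩ := h6 ⟨y, h4 (Subgroup.mem_top y)⟩
    exact ⟨k, congrArg Subtype.val hk⟩
  exact Cfsg.Agent.Lib.le_pCore hYn h5

end centralizers

section centralizers2

variable {N : Type*} [Group N] {p : ℕ}

theorem mem_centralizer_zpowers_iff {x g : N} :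
    g ∈ Subgroup.centralizer ((Subgroup.zpowers x : Subgroup N) : Set N) ↔ g * x = x * g := by
  rw [Subgroup.mem_centralizer_iff]
  constructor
  · intro h
    exact (h x (Subgroup.mem_zpowers x)).symm
  · rintro h _ ⟨k, rfl⟩
    show x ^ k * g = g * x ^ k
    exact ((Commute.zpow_right (show Commute g x from h) k).eq).symm

/-- If `x` lies in a normal `p`-subgroup `T` of `N` and `C_N(x)` is `p`-constrained, then `N` is
`p`-constrained. -/
theorem isPConstrained_of_centralizer [Finite N] [hp : Fact p.Prime] (T : Subgroup N) [hTn : T.Normal]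
    (hT : IsPGroup p T) (x : N) (hx : x ∈ T)
    (hD : IsPConstrained p ↥(Subgroup.centralizer ({x} : Set N))) : IsPConstrained p N := by
  set K := pPrimeCore p N with hK
  have hKc : (Nat.card K).Coprime p := Cfsg.Agent.Lib.card_pPrimeCore_coprime p
  have hker : (QuotientGroup.mk' K).ker = K := QuotientGroup.ker_mk' K
  rw [isPConstrained_iff_charP]
  -- the image of `x` lies in `O_p(N/K)`
  have hxbar : QuotientGroup.mk' K x ∈ pCore p (N ⧸ K) := by
    have hn : (T.map (QuotientGroup.mk' K)).Normal :=
      Subgroup.Normal.map hTn _ (QuotientGroup.mk'_surjective K)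
    exact Cfsg.Agent.Lib.le_pCore hn (hT.map _) (Subgroup.mem_map_of_mem _ hx)
  apply charP_of_centralizer pPrimeCore_quotient_eq_bot (QuotientGroup.mk' K x) hxbar
  -- the restriction of the quotient map to centralizers
  have hmaps : ∀ d : ↥(Subgroup.centralizer ({x} : Set N)),
      (QuotientGroup.mk' K).comp (Subgroup.centralizer ({x} : Set N)).subtype d ∈
        Subgroup.centralizer ({QuotientGroup.mk' K x} : Set (N ⧸ K)) := by
    intro d
    rw [Subgroup.mem_centralizer_singleton_iff]
    show QuotientGroup.mk' K (d : N) * QuotientGroup.mk' K x =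
      QuotientGroup.mk' K x * QuotientGroup.mk' K (d : N)
    rw [← map_mul, ← map_mul, Subgroup.mem_centralizer_singleton_iff.mp d.2]
  set φ : ↥(Subgroup.centralizer ({x} : Set N)) →*
      ↥(Subgroup.centralizer ({QuotientGroup.mk' K x} : Set (N ⧸ K))) :=
    ((QuotientGroup.mk' K).comp (Subgroup.centralizer ({x} : Set N)).subtype).codRestrict _ hmaps
    with hφ
  have hφval : ∀ d, ((φ d : ↥(Subgroup.centralizer ({QuotientGroup.mk' K x} : Set (N ⧸ K)))) : N ⧸ K) =
      QuotientGroup.mk' K (d : N) := fun d => rfl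
  apply IsPConstrained.of_surjective φ _ _ hD
  · -- surjectivity, by the lifting lemma
    rintro ⟨y, hy⟩
    obtain ⟨y₀, rfl⟩ := QuotientGroup.mk'_surjective K y
    have hZp : IsPGroup p (Subgroup.zpowers x) := by
      have : Subgroup.zpowers x ≤ T := Subgroup.zpowers_le.mpr hx
      exact hT.to_le this
    have hy' : QuotientGroup.mk' K y₀ ∈ Subgroup.centralizer
        (((Subgroup.zpowers x).map (QuotientGroup.mk' K) : Subgroup (N ⧸ K)) : Set (N ⧸ K)) := by
      rw [MonoidHom.map_zpowers, mem_centralizer_zpowers_iff]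
      exact Subgroup.mem_centralizer_singleton_iff.mp hy
    obtain ⟨g, hg, hgy⟩ := exists_mem_centralizer_map_eq (QuotientGroup.mk' K)
      (by rw [hker]; exact hKc) (Subgroup.zpowers x) hZp y₀ hy'
    rw [mem_centralizer_zpowers_iff] at hg
    refine ⟨⟨g, Subgroup.mem_centralizer_singleton_iff.mpr hg⟩, ?_⟩
    apply Subtype.ext
    rw [hφval]
    exact hgy
  · -- the kernel has order prime to `p`
    have hkerφ : φ.ker = K.subgroupOf (Subgroup.centralizer ({x} : Set N)) := by
      ext d
      rw [MonoidHom.mem_ker, Subgroup.mem_subgroupOf]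
      have hd : (d : N) ∈ K ↔ (QuotientGroup.mk' K) (d : N) = 1 := by
        rw [← MonoidHom.mem_ker, hker]
      rw [hd, ← hφval]
      constructor
      · intro h; rw [h]; rfl
      · intro h; exact Subtype.ext h
    rw [hkerφ]
    have hdvd : Nat.card (K.subgroupOf (Subgroup.centralizer ({x} : Set N))) ∣ Nat.card K := by
      rw [← Subgroup.card_map_of_injective (f := (Subgroup.centralizer ({x} : Set N)).subtype)
        (Subgroup.subtype_injective _), Subgroup.subgroupOf_map_subtype]
      exact Subgroup.card_dvd_of_le inf_le_left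
    exact Nat.Coprime.coprime_dvd_left hdvd hKc

end centralizers2

end Cfsg.Agent.Helper54
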