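import Cfsg.Agent.Helper54.ThompsonA
import Cfsg.Agent.Helper54.PConstrained2
import Cfsg.Agent.Lib.ZJ5
import Cfsg.Agent.Helper76.PGroup4

set_option autoImplicit false
set_option linter.style.haveILetI false
set_option linter.unusedVariables false
set_option linter.unusedSectionVars false

/-!
# Thompson's lemma in `p`-constrained groups and in centralizers (helper54)
-/

namespace Cfsg.Agent.Helper54.TB

open Cfsg Cfsg.Agent.Helper54 Cfsg.Agent.Helper54.TA
open scoped commutatorElement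

/-- Thompson's lemma in a `p`-constrained group: an abelian `p`-subgroup `A` containing all `p`-elements
of its centralizer normalizes only `q`-subgroups contained in `O_{p'}`. -/
theorem le_pPrimeCore_of_invariant {L : Type*} [Group L] [Finite L] {p q : ℕ} [hp : Fact p.Prime]
    [hq : Fact q.Prime] (hqp : q ≠ p) (hL : IsPConstrained p L) (A : Subgroup L) (hAp : IsPGroup p A)
    (hAc : ∀ x ∈ A, ∀ y ∈ A, x * y = y * x)
    (hfull : ∀ z ∈ Subgroup.centralizer (A : Set L), (∃ k : ℕ, z ^ p ^ k = 1) → z ∈ A)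
    (h2 : p = 2 → ∀ R : Subgroup L, IsPGroup p R → ∀ x ∈ R, ∀ y ∈ R, ∀ z ∈ R,
      (x⁻¹ * y * x * y⁻¹) * z = z * (x⁻¹ * y * x * y⁻¹))
    (Y : Subgroup L) (hYq : IsPGroup q Y) (hAY : A ≤ Subgroup.normalizer (Y : Set L)) :
    Y ≤ pPrimeCore p L := by
  set K := pPrimeCore p L with hK
  set π : L →* L ⧸ K := QuotientGroup.mk' K with hπdef
  have hπ : Function.Surjective π := QuotientGroup.mk'_surjective K
  have hker : π.ker = K := QuotientGroup.ker_mk' K
  have hKcop : (Nat.card π.ker).Coprime p := by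
    rw [hker]; exact Cfsg.Agent.Lib.card_pPrimeCore_coprime p
  have hchar : CharP p (L ⧸ K) := isPConstrained_iff_charP.mp hL
  have hT : TData p (pCore p (L ⧸ K)) (A.map π) := by
    refine ⟨inferInstance, Cfsg.Agent.Lib.isPGroup_pCore p, hchar.2, hAp.map π, ?_, ?_⟩
    · rintro _ ⟨x, hx, rfl⟩ _ ⟨y, hy, rfl⟩
      rw [← map_mul, ← map_mul, hAc x hx y hy]
    · intro zb hzb hk
      obtain ⟨k, hk⟩ := hk
      obtain ⟨z, rfl⟩ := hπ zb
      obtain ⟨g, hgC, hg⟩ := exists_mem_centralizer_map_eq π hKcop A hAp z hzb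
      have hgk : g ^ (p ^ k) ∈ π.ker := by
        rw [MonoidHom.mem_ker, map_pow, hg, hk]
      obtain ⟨b, hb, ⟨j, hbj⟩, hbg⟩ :=
        Cfsg.Agent.Lib.ZJ.exists_pElement_of_pow_mem (isOfFinOrder_of_finite g) hgk
      have hbC : b ∈ Subgroup.centralizer (A : Set L) := (Subgroup.zpowers_le.mpr hgC) hb
      have hbA : b ∈ A := hfull b hbC ⟨j, hbj⟩
      have hπb : π b = π z := by
        rw [MonoidHom.mem_ker, map_mul, map_inv] at hbg
        rw [← hg]
        exact (inv_mul_eq_one.mp hbg)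
      rw [← hπb]
      exact Subgroup.mem_map_of_mem π hbA
  have hclass : p = 2 → ∀ x ∈ pCore p (L ⧸ K), ∀ a ∈ A.map π, ∀ b ∈ A.map π,
      (x⁻¹ * a * x * a⁻¹) * b = b * (x⁻¹ * a * x * a⁻¹) := by
    intro hp2 x hx a ha b hb
    haveI : (pCore p (L ⧸ K)).Normal := inferInstance
    have hRp : IsPGroup p ↥(pCore p (L ⧸ K) ⊔ A.map π) :=
      IsPGroup.to_sup_of_normal_left (Cfsg.Agent.Lib.isPGroup_pCore p) (hAp.map π)
    obtain ⟨R, hRp', hRmap⟩ := Cfsg.Agent.Lib.ZJ.exists_isPGroup_map_eq π hπ _ hRp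
    have hxR : x ∈ R.map π := by rw [hRmap]; exact Subgroup.mem_sup_left hx
    have haR : a ∈ R.map π := by rw [hRmap]; exact Subgroup.mem_sup_right ha
    have hbR : b ∈ R.map π := by rw [hRmap]; exact Subgroup.mem_sup_right hb
    obtain ⟨x₀, hx₀, rfl⟩ := hxR
    obtain ⟨a₀, ha₀, rfl⟩ := haR
    obtain ⟨b₀, hb₀, rfl⟩ := hbR
    have := h2 hp2 R hRp' x₀ hx₀ a₀ ha₀ b₀ hb₀
    have h3 := congrArg π this
    simpa only [map_mul, map_inv] using h3
  have hYmap : Y.map π = ⊥ := by
    apply hT.eq_bot hqp hclass (hYq.map π)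
    exact (Subgroup.map_mono hAY).trans (Subgroup.le_normalizer_map π)
  rw [← hker]
  exact (Subgroup.map_eq_bot_iff Y).mp hYmap

section ambient

variable {G : Type*} [Group G] [Finite G] {p q : ℕ} [hp : Fact p.Prime] [hq : Fact q.Prime]

theorem isPGroup_zpowers_of_pow {a : G} {k : ℕ} (h : a ^ p ^ k = 1) :
    IsPGroup p (Subgroup.zpowers a) := by
  have h1 : orderOf a ∣ p ^ k := orderOf_dvd_of_pow_eq_one h
  obtain ⟨j, -, hj⟩ := (Nat.dvd_prime_pow hp.out).mp h1
  apply IsPGroup.of_card (n := j)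
  rw [Nat.card_zpowers, hj]

/-- If all `p`-locals are `p`-constrained, the centralizer of a nontrivial `p`-element is `p`-constrained. -/
theorem isPConstrained_centralizer_of_local
    (hloc : ∀ T : Subgroup G, IsPGroup p T → T ≠ ⊥ →
      IsPConstrained p ↥(Subgroup.normalizer (T : Set G)))
    {a : G} {k : ℕ} (hap : a ^ p ^ k = 1) (ha1 : a ≠ 1) :
    IsPConstrained p ↥(Subgroup.centralizer ({a} : Set G)) := by
  set T := Subgroup.zpowers a with hT
  have hTp : IsPGroup p T := isPGroup_zpowers_of_pow hap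
  have hTne : T ≠ ⊥ := Subgroup.zpowers_ne_bot.mpr ha1
  set M := Subgroup.normalizer (T : Set G) with hM
  have hMc : IsPConstrained p ↥M := hloc T hTp hTne
  set Ca := Subgroup.centralizer ({a} : Set G) with hCa
  have hCaT : ∀ g, g ∈ Ca ↔ g ∈ Subgroup.centralizer (T : Set G) := by
    intro g
    rw [hCa, Subgroup.mem_centralizer_singleton_iff, hT, mem_centralizer_zpowers_iff]
  have hCaM : Ca ≤ M := fun g hg => (Subgroup.centralizer_le_normalizer _) ((hCaT g).mp hg)
  haveI hn : (Ca.subgroupOf M).Normal := by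
    constructor
    intro c hc g
    rw [Subgroup.mem_subgroupOf] at hc ⊢
    have hcT := (hCaT _).mp hc
    rw [hCaT, Subgroup.mem_centralizer_iff]
    intro t ht
    have hgt : (g : G)⁻¹ * t * (g : G) ∈ T :=
      Cfsg.Agent.Helper24.conj_inv_mem_of_mem_normalizer g.2 ht
    rw [Subgroup.mem_centralizer_iff] at hcT
    have h1 := hcT _ hgt
    push_cast
    calc t * ((g : G) * (c : G) * (g : G)⁻¹)
        = (g : G) * (((g : G)⁻¹ * t * (g : G)) * (c : G)) * (g : G)⁻¹ := by group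
      _ = (g : G) * ((c : G) * ((g : G)⁻¹ * t * (g : G))) * (g : G)⁻¹ := by rw [h1]
      _ = (g : G) * (c : G) * (g : G)⁻¹ * t := by group
  have h1 : IsPConstrained p ↥(Ca.subgroupOf M) := IsPConstrained.of_normal hMc (Ca.subgroupOf M)
  exact IsPConstrained.of_equiv (Subgroup.subgroupOfEquivOfLe hCaM) h1

/-- **Thompson's lemma**, ambient form: under the hypotheses of the transitivity theorem, every
`E`-invariant `q`-subgroup of `C_G(a)`, `a ∈ E - 1`, lies in `O_{p'}(C_G(a))`. -/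
theorem le_theta_of_invariant (hqp : q ≠ p)
    (hloc : ∀ T : Subgroup G, IsPGroup p T → T ≠ ⊥ →
      IsPConstrained p ↥(Subgroup.normalizer (T : Set G)))
    (h2 : p = 2 → ∀ S : Sylow p G, Group.IsNilpotent (S : Subgroup G) ∧
      Group.nilpotencyClass (S : Subgroup G) ≤ 2)
    (E : Subgroup G) (hEp : IsPGroup p E) (hEc : ∀ x ∈ E, ∀ y ∈ E, x * y = y * x)
    (hEfull : ∀ x ∈ Subgroup.centralizer (E : Set G), IsPGroup p (Subgroup.zpowers x) → x ∈ E)
    {a : G} (haE : a ∈ E) (ha1 : a ≠ 1) (X : Subgroup G) (hXq : IsPGroup q X)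
    (hEX : E ≤ Subgroup.normalizer (X : Set G))
    (hXa : X ≤ Subgroup.centralizer ({a} : Set G)) :
    X ≤ (pPrimeCore p ↥(Subgroup.centralizer ({a} : Set G))).map
      (Subgroup.centralizer ({a} : Set G)).subtype := by
  set Ca := Subgroup.centralizer ({a} : Set G) with hCa
  obtain ⟨k, hk⟩ := hEp ⟨a, haE⟩
  have hak : a ^ p ^ k = 1 := by simpa using congrArg Subtype.val hk
  have hL : IsPConstrained p ↥Ca := isPConstrained_centralizer_of_local hloc hak ha1
  have hECa : E ≤ Ca := by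
    intro e he
    rw [hCa, Subgroup.mem_centralizer_singleton_iff]
    exact hEc e he a haE
  have key := le_pPrimeCore_of_invariant hqp hL (E.subgroupOf Ca) (hEp.comap_subtype)
    (fun x hx y hy => Subtype.ext (hEc x hx y hy)) ?_ ?_ (X.subgroupOf Ca) (hXq.comap_subtype) ?_
  · intro x hx
    exact ⟨⟨x, hXa hx⟩, key (show (⟨x, hXa hx⟩ : ↥Ca) ∈ X.subgroupOf Ca from hx), rfl⟩
  · intro z hz hzp
    obtain ⟨j, hj⟩ := hzp
    rw [Subgroup.mem_subgroupOf]
    apply hEfull
    · rw [Subgroup.mem_centralizer_iff]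
      intro e he
      rw [Subgroup.mem_centralizer_iff] at hz
      have := hz ⟨e, hECa he⟩ (show (⟨e, hECa he⟩ : ↥Ca) ∈ E.subgroupOf Ca from he)
      exact congrArg Subtype.val this
    · apply isPGroup_zpowers_of_pow (k := j)
      have := congrArg Subtype.val hj
      simpa using this
  · intro hp2 R hRp x hx y hy z hz
    have hR' : IsPGroup p (R.map Ca.subtype) := hRp.map _
    obtain ⟨S, hS⟩ := hR'.exists_le_sylow
    obtain ⟨hnil, hcl⟩ := h2 hp2 S
    haveI := hnil
    have hcen := Cfsg.Agent.Helper76.nilpotencyClass_le_two_iff.mp hcl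
    have hxS : (x : G) ∈ (S : Subgroup G) := hS ⟨x, hx, rfl⟩
    have hyS : (y : G) ∈ (S : Subgroup G) := hS ⟨y, hy, rfl⟩
    have hzS : (z : G) ∈ (S : Subgroup G) := hS ⟨z, hz, rfl⟩
    set x' : ↥(S : Subgroup G) := ⟨x, hxS⟩
    set y' : ↥(S : Subgroup G) := ⟨y, hyS⟩
    set z' : ↥(S : Subgroup G) := ⟨z, hzS⟩
    have hmem : x'⁻¹ * y' * x' * y'⁻¹ ∈ _root_.commutator ↥(S : Subgroup G) := by
      have e : x'⁻¹ * y' * x' * y'⁻¹ = ⁅x'⁻¹, y'⁆ := by rw [commutatorElement_def]; group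
      rw [e, _root_.commutator_def]
      exact Subgroup.commutator_mem_commutator (Subgroup.mem_top _) (Subgroup.mem_top _)
    have h3 := Subgroup.mem_center_iff.mp (hcen hmem) z'
    apply Subtype.ext
    have h4 := congrArg Subtype.val h3
    have h5 : (z : G) * ((x : G)⁻¹ * y * x * (y : G)⁻¹) = ((x : G)⁻¹ * y * x * (y : G)⁻¹) * z := h4
    push_cast
    exact h5.symm
  · intro e he
    rw [Subgroup.mem_subgroupOf] at he
    have h1 := hEX he
    rw [Subgroup.mem_normalizer_iff] at h1 ⊢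
    intro y
    rw [Subgroup.mem_subgroupOf, Subgroup.mem_subgroupOf]
    have := h1 (y : G)
    simpa using this

end ambient

end Cfsg.Agent.Helper54.TB
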