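import Cfsg.Agent.Helper31.Transitivity
import Cfsg.Agent.Helper22.Sup

set_option autoImplicit false
set_option linter.style.haveILetI false
set_option linter.unusedVariables false

/-!
# Thompson transitivity, abstract form (helper54)

`E` is an abelian `p`-group, `E₀ ≤ E` elementary abelian of order `≥ p³`, and for every `a ∈ E₀ - 1` we
are given an `E`-invariant `p'`-subgroup `θ a` containing every `E`-invariant `q`-subgroup of `C_G(a)`.
Then any subgroup `K` containing `H ∩ C_G(E)` for every `E`-invariant `p'`-subgroup `H` is transitive on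
the maximal `E`-invariant `q`-subgroups. (Adapted from `Helper31.Transitivity`.)
-/

namespace Cfsg.Agent.Helper54.TT

open Cfsg Cfsg.Agent.Helper31

open scoped Pointwise

variable {G : Type*} [Group G]

/-- `Q` is a maximal `E`-invariant `q`-subgroup. -/
structure IsMaxInv (E : Subgroup G) (q : ℕ) (Q : Subgroup G) : Prop where
  isPGroup : IsPGroup q ↥Q
  inv : AInv E Q
  max : ∀ R : Subgroup G, IsPGroup q ↥R → AInv E R → Q ≤ R → R = Q

theorem ainv_map_conj {E U : Subgroup G} (hU : AInv E U) {c : G}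
    (hc : c ∈ Subgroup.centralizer (E : Set G)) : AInv E (U.map (MulAut.conj c).toMonoidHom) := by
  intro b hb x hx
  rw [mem_map_conj_iff] at hx ⊢
  have hbc : Commute b c := (Subgroup.mem_centralizer_iff.mp hc) b hb
  have := hU b hb _ hx
  have e : c⁻¹ * (b * x * b⁻¹) * c = b * (c⁻¹ * x * c) * b⁻¹ := by
    have e1 : c⁻¹ * b = b * c⁻¹ := (hbc.inv_right).eq.symm
    have e2 : b⁻¹ * c = c * b⁻¹ := (hbc.inv_left).eq
    calc c⁻¹ * (b * x * b⁻¹) * c = (c⁻¹ * b) * x * (b⁻¹ * c) := by group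
      _ = (b * c⁻¹) * x * (c * b⁻¹) := by rw [e1, e2]
      _ = b * (c⁻¹ * x * c) * b⁻¹ := by group
  rw [e]
  exact this

theorem IsMaxInv.map_conj {E : Subgroup G} {q : ℕ} {Q : Subgroup G} (hQ : IsMaxInv E q Q) {c : G}
    (hc : c ∈ Subgroup.centralizer (E : Set G)) :
    IsMaxInv E q (Q.map (MulAut.conj c).toMonoidHom) := by
  refine ⟨isPGroup_map_conj hQ.isPGroup c, ainv_map_conj hQ.inv hc, ?_⟩
  intro R hRq hR hle
  have hc' : c⁻¹ ∈ Subgroup.centralizer (E : Set G) := Subgroup.inv_mem _ hc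
  have h1 := hQ.max _ (isPGroup_map_conj hRq c⁻¹) (ainv_map_conj hR hc') (by
    intro x hx
    rw [mem_map_conj_iff]
    apply hle
    rw [mem_map_conj_iff]
    simpa [mul_assoc] using hx)
  rw [← h1, map_conj_mul, mul_inv_cancel, map_conj_one]

theorem exists_isMaxInv_ge [Finite G] {E : Subgroup G} {q : ℕ} {U : Subgroup G}
    (hUq : IsPGroup q ↥U) (hU : AInv E U) : ∃ Q : Subgroup G, U ≤ Q ∧ IsMaxInv E q Q := by
  have hfin : {R : Subgroup G | IsPGroup q ↥R ∧ AInv E R}.Finite := Set.toFinite _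
  obtain ⟨Q, hUQ, hQ⟩ := hfin.exists_le_maximal (a := U) ⟨hUq, hU⟩
  refine ⟨Q, hUQ, hQ.prop.1, hQ.prop.2, ?_⟩
  intro R hRq hR hQR
  exact le_antisymm (hQ.le_of_ge ⟨hRq, hR⟩ hQR) hQR

theorem ainv_sup {E U V : Subgroup G} (hU : AInv E U) (hV : AInv E V) : AInv E (U ⊔ V) := by
  intro b hb x hx
  have hmap : (U ⊔ V).map (MulAut.conj b).toMonoidHom ≤ U ⊔ V := by
    rw [Subgroup.map_sup]
    apply sup_le_sup
    · rintro _ ⟨u, hu, rfl⟩
      exact hU b hb u hu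
    · rintro _ ⟨v, hv, rfl⟩
      exact hV b hb v hv
  exact hmap ⟨x, hx, rfl⟩

theorem ainv_centralizer_singleton {E : Subgroup G} (hEc : ∀ x ∈ E, ∀ y ∈ E, x * y = y * x) {a : G}
    (ha : a ∈ E) : AInv E (Subgroup.centralizer ({a} : Set G)) := by
  intro b hb x hx
  rw [Subgroup.mem_centralizer_singleton_iff] at hx ⊢
  have hba : b * a = a * b := hEc b hb a ha
  have hba' : b⁻¹ * a = a * b⁻¹ := by
    calc b⁻¹ * a = b⁻¹ * (a * b) * b⁻¹ := by group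
      _ = b⁻¹ * (b * a) * b⁻¹ := by rw [hba]
      _ = a * b⁻¹ := by group
  calc b * x * b⁻¹ * a = b * x * (b⁻¹ * a) := by group
    _ = b * x * (a * b⁻¹) := by rw [hba']
    _ = b * (x * a) * b⁻¹ := by group
    _ = b * (a * x) * b⁻¹ := by rw [hx]
    _ = (b * a) * x * b⁻¹ := by group
    _ = (a * b) * x * b⁻¹ := by rw [hba]
    _ = a * (b * x * b⁻¹) := by group

section step

variable [Finite G] (p q : ℕ) [Fact p.Prime] [Fact q.Prime] (hqp : q ≠ p)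
  (E : Subgroup G) (hEp : IsPGroup p ↥E) (hEc : ∀ x ∈ E, ∀ y ∈ E, x * y = y * x)
  (E₀ : Subgroup G) (hE₀ : IsElementaryAbelian p E₀) (hE₀3 : p ^ 3 ≤ Nat.card ↥E₀) (hE₀E : E₀ ≤ E)
  (θ : G → Subgroup G)
  (hθcop : ∀ a ∈ E₀, a ≠ 1 → (Nat.card ↥(θ a)).Coprime p)
  (hθinv : ∀ a ∈ E₀, a ≠ 1 → AInv E (θ a))
  (hθmax : ∀ a ∈ E₀, a ≠ 1 → ∀ X : Subgroup G, IsPGroup q ↥X → AInv E X →
    X ≤ Subgroup.centralizer ({a} : Set G) → X ≤ θ a)
  (K : Subgroup G)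
  (hK : ∀ H : Subgroup G, (Nat.card ↥H).Coprime p → AInv E H →
    H ⊓ Subgroup.centralizer (E : Set G) ≤ K)

include hqp hEp hEc hE₀ hE₀3 hE₀E hθcop hθinv hθmax hK

theorem transit_step {Q₁ Q₂ : Subgroup G} (hQ₁ : IsMaxInv E q Q₁) (hQ₂ : IsMaxInv E q Q₂)
    (hne : Q₁ ≠ Q₂) :
    ∃ R : Subgroup G, IsMaxInv E q R ∧ ∃ h ∈ K, h ∈ Subgroup.centralizer (E : Set G) ∧
      Nat.card ↥(Q₁ ⊓ Q₂) < Nat.card ↥(Q₁ ⊓ R) ∧
      Nat.card ↥(Q₁ ⊓ Q₂) < Nat.card ↥(R.map (MulAut.conj h).toMonoidHom ⊓ Q₂) := by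
  have hp : p.Prime := Fact.out
  set D : Subgroup G := Q₁ ⊓ Q₂ with hD
  have hD₁ : D ≠ Q₁ := by
    intro h
    have hle : Q₁ ≤ Q₂ := by rw [← h]; exact inf_le_right
    exact hne (hQ₁.max Q₂ hQ₂.isPGroup hQ₂.inv hle).symm
  have hD₂ : D ≠ Q₂ := by
    intro h
    have hle : Q₂ ≤ Q₁ := by rw [← h]; exact inf_le_left
    exact hne (hQ₂.max Q₁ hQ₁.isPGroup hQ₁.inv hle)
  have hQ₁A : AInv E Q₁ := hQ₁.inv
  have hQ₂A : AInv E Q₂ := hQ₂.inv
  have hE₀Q₁ : E₀ ≤ Subgroup.normalizer (Q₁ : Set G) := hE₀E.trans hQ₁A.le_normalizer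
  have hE₀Q₂ : E₀ ≤ Subgroup.normalizer (Q₂ : Set G) := hE₀E.trans hQ₂A.le_normalizer
  obtain ⟨a, ha, ha1, hn₁, hn₂⟩ := Cfsg.Agent.S1282.result p E₀ hE₀ hE₀3 q hqp Q₁ Q₂ hQ₁.isPGroup
    hQ₂.isPGroup hE₀Q₁ hE₀Q₂ hD₁ hD₂
  have hDA : AInv E D := hQ₁A.inf hQ₂A
  have hDq : IsPGroup q ↥D := hQ₁.isPGroup.to_le inf_le_left
  have hCa : AInv E (Subgroup.centralizer ({a} : Set G)) :=
    ainv_centralizer_singleton hEc (hE₀E ha)
  set Y : Subgroup G := θ a ⊓ Subgroup.normalizer (D : Set G) with hY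
  have hYA : AInv E Y := AInv.inf (U := θ a) (hθinv a ha ha1) hDA.normalizer
  have hYcop : (Nat.card ↥Y).Coprime p :=
    Nat.Coprime.coprime_dvd_left (Subgroup.card_dvd_of_le inf_le_left) (hθcop a ha ha1)
  set H : Subgroup G := D ⊔ Y with hHdef
  have hHA : AInv E H := ainv_sup hDA hYA
  have hHcop : (Nat.card ↥H).Coprime p := by
    have hdvd : Nat.card ↥(Y ⊔ D) ∣ Nat.card ↥Y * Nat.card ↥D :=
      Cfsg.Agent.Helper22.card_sup_dvd_of_le_normalizer Y D inf_le_right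
    rw [sup_comm] at hdvd
    apply Nat.Coprime.coprime_dvd_left hdvd
    apply Nat.Coprime.mul_left hYcop
    obtain ⟨n, hn⟩ := IsPGroup.iff_card.mp hDq
    rw [hn]
    apply Nat.Coprime.pow_left
    exact (Nat.coprime_primes Fact.out hp).mpr hqp
  -- both `Q_i ∩ H` are strictly bigger than `D`
  have key : ∀ Q : Subgroup G, IsPGroup q ↥Q → AInv E Q → D ≤ Q →
      ¬ (Subgroup.normalizer (D : Set G) ⊓ Q ⊓ Subgroup.centralizer {a} ≤ D) → D < Q ⊓ H := by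
    intro Q hQq hQ hDQ hnot
    refine lt_of_le_of_ne (le_inf hDQ le_sup_left) ?_
    intro heq
    apply hnot
    intro x hx
    obtain ⟨hx12, hx3⟩ := Subgroup.mem_inf.mp hx
    obtain ⟨hx1, hx2⟩ := Subgroup.mem_inf.mp hx12
    rw [heq]
    refine Subgroup.mem_inf.mpr ⟨hx2, ?_⟩
    have hXle : Subgroup.normalizer (D : Set G) ⊓ Q ⊓ Subgroup.centralizer {a} ≤ θ a := by
      apply hθmax a ha ha1
      · exact hQq.to_le (inf_le_left.trans inf_le_right)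
      · exact AInv.inf (AInv.inf hDA.normalizer hQ) hCa
      · exact inf_le_right
    exact (le_sup_right : Y ≤ H) (Subgroup.mem_inf.mpr ⟨hXle hx, hx1⟩)
  have hlt₁ : D < Q₁ ⊓ H := key Q₁ hQ₁.isPGroup hQ₁A inf_le_left hn₁
  have hlt₂ : D < Q₂ ⊓ H := key Q₂ hQ₂.isPGroup hQ₂A inf_le_right hn₂
  have hcopEH : (Nat.card ↥E).Coprime (Nat.card ↥H) := by
    obtain ⟨n, hn⟩ := IsPGroup.iff_card.mp hEp
    rw [hn]
    exact Nat.Coprime.pow_left n hHcop.symm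
  -- invariant Sylow subgroups of `H`
  have hsyl : ∀ R : Subgroup G, R ≤ H → IsPGroup q ↥R → AInv E R →
      ∃ P : Sylow q ↥H, R ≤ (P : Subgroup ↥H).map H.subtype ∧
        E ≤ Subgroup.normalizer (((P : Subgroup ↥H).map H.subtype : Subgroup G) : Set G) := by
    intro R hRH hRq hRA
    obtain ⟨T, hRT, hTH, hTq, hAT, hTcard⟩ :=
      Cfsg.Agent.Helper29.exists_invariant_sylow_ge hEp hHA.le_normalizer hcopEH hRH hRq
        hRA.le_normalizer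
    have hcard : Nat.card ↥(T.subgroupOf H) = q ^ (Nat.card ↥H).factorization q := by
      rw [Cfsg.Agent.Helper1.card_subgroupOf_of_le hTH, hTcard]
    refine ⟨Sylow.ofCard _ hcard, ?_, ?_⟩
    · rw [Sylow.coe_ofCard, Subgroup.subgroupOf_map_subtype, inf_eq_left.mpr hTH]
      exact hRT
    · rw [Sylow.coe_ofCard, Subgroup.subgroupOf_map_subtype, inf_eq_left.mpr hTH]
      exact hAT
  obtain ⟨P₁, hRP₁, hAP₁⟩ := hsyl (Q₁ ⊓ H) inf_le_right (hQ₁.isPGroup.to_le inf_le_left)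
    (hQ₁A.inf hHA)
  obtain ⟨P₂, hRP₂, hAP₂⟩ := hsyl (Q₂ ⊓ H) inf_le_right (hQ₂.isPGroup.to_le inf_le_left)
    (hQ₂A.inf hHA)
  haveI : Group.IsNilpotent ↥E := hEp.isNilpotent
  have hEsolv : Group.IsSolvable ↥E := inferInstance
  obtain ⟨h, hh, hconj⟩ := Cfsg.Agent.Helper1.invariant_sylow_conj E H hHA.le_normalizer
    hcopEH (Or.inl hEsolv) q P₁ P₂ hAP₁ hAP₂
  have hhK : h ∈ K := hK H hHcop hHA hh
  set T₁ : Subgroup G := (P₁ : Subgroup ↥H).map H.subtype with hT₁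
  set T₂ : Subgroup G := (P₂ : Subgroup ↥H).map H.subtype with hT₂
  have hT₁q : IsPGroup q ↥T₁ := P₁.isPGroup'.map _
  obtain ⟨R, hT₁R, hR⟩ := exists_isMaxInv_ge hT₁q (ainv_of_le_normalizer hAP₁)
  refine ⟨R, hR, h, hhK, hh.2, ?_, ?_⟩
  · refine lt_of_lt_of_le (card_lt_card_of_lt hlt₁) (Subgroup.card_le_of_le ?_)
    exact le_inf inf_le_left (hRP₁.trans hT₁R)
  · refine lt_of_lt_of_le (card_lt_card_of_lt hlt₂) (Subgroup.card_le_of_le ?_)
    refine le_inf ?_ inf_le_left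
    refine hRP₂.trans ?_
    rw [← hconj, conj_smul_eq_map]
    exact Subgroup.map_mono hT₁R

theorem transit_aux :
    ∀ (n : ℕ) (Q₁ Q₂ : Subgroup G), Nat.card G - Nat.card ↥(Q₁ ⊓ Q₂) = n →
      IsMaxInv E q Q₁ → IsMaxInv E q Q₂ →
      ∃ c ∈ K, c ∈ Subgroup.centralizer (E : Set G) ∧ Q₁.map (MulAut.conj c).toMonoidHom = Q₂ := by
  intro n
  induction n using Nat.strong_induction_on with
  | _ n ih =>
    intro Q₁ Q₂ hn hQ₁ hQ₂
    by_cases hne : Q₁ = Q₂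
    · exact ⟨1, Subgroup.one_mem _, Subgroup.one_mem _, by rw [map_conj_one, hne]⟩
    · obtain ⟨R, hR, h, hhK, hhC, hc₁, hc₂⟩ := transit_step p q hqp E hEp hEc E₀ hE₀ hE₀3 hE₀E θ
        hθcop hθinv hθmax K hK hQ₁ hQ₂ hne
      have hb₁ : Nat.card ↥(Q₁ ⊓ R) ≤ Nat.card G := Subgroup.card_le_card_group _
      have hb₂ : Nat.card ↥(R.map (MulAut.conj h).toMonoidHom ⊓ Q₂) ≤ Nat.card G :=
        Subgroup.card_le_card_group _
      obtain ⟨c₁, hc₁K, hc₁C, hc₁e⟩ := ih _ (by omega) Q₁ R rfl hQ₁ hR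
      obtain ⟨c₂, hc₂K, hc₂C, hc₂e⟩ := ih _ (by omega) (R.map (MulAut.conj h).toMonoidHom) Q₂ rfl
        (hR.map_conj hhC) hQ₂
      refine ⟨c₂ * (h * c₁), K.mul_mem hc₂K (K.mul_mem hhK hc₁K),
        Subgroup.mul_mem _ hc₂C (Subgroup.mul_mem _ hhC hc₁C), ?_⟩
      rw [← map_conj_mul, ← map_conj_mul, hc₁e, hc₂e]

/-- **Thompson transitivity**, abstract form. -/
theorem transit {Q₁ Q₂ : Subgroup G} (hQ₁ : IsMaxInv E q Q₁) (hQ₂ : IsMaxInv E q Q₂) :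
    ∃ c ∈ K, Q₁.map (MulAut.conj c).toMonoidHom = Q₂ := by
  obtain ⟨c, hcK, -, hc⟩ := transit_aux p q hqp E hEp hEc E₀ hE₀ hE₀3 hE₀E θ hθcop hθinv hθmax K hK
    _ Q₁ Q₂ rfl hQ₁ hQ₂
  exact ⟨c, hcK, hc⟩

end step

end Cfsg.Agent.Helper54.TT
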