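import Mathlib
import Cfsg.Agent.Helper54.FrobAct2
import Cfsg.Agent.Helper29.BG11A

/-!
# The Frobenius trick (for S1421; helper54)

`y` of prime order `n` normalizes `Y` with `C_Y(y) = 1`; `Y⟨y⟩` acts on the nilpotent group `H ≠ 1`
of odd order prime to `|Y|`, and `C_H(y) = 1`.  Then `C_H(Y) ≠ 1` (indeed `Y` centralizes every
Sylow subgroup of `H`, i.e. all of `H`).
-/

set_option autoImplicit false
set_option linter.style.haveILetI false
set_option linter.unusedSectionVars false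
set_option linter.unusedVariables false

namespace Cfsg.Agent.Helper54.W2

open Cfsg Cfsg.Agent.Helper29.BG10 Cfsg.Agent.Helper29.BG11 Cfsg.Agent.Helper54.FA

variable {G : Type*} [Group G] [Finite G]

/-- `Y` centralizes every relative Sylow subgroup of `H` -/
theorem frob_trick_sylow {H Y U : Subgroup G} {y : G} {n q : ℕ} [hq : Fact q.Prime] (hq2 : q ≠ 2)
    (hn : n.Prime) (hyn : y ^ n = 1) (hHnil : Group.IsNilpotent H)
    (hYH : Y ≤ Subgroup.normalizer (H : Set G)) (hyH : y ∈ Subgroup.normalizer (H : Set G))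
    (hyY : y ∈ Subgroup.normalizer (Y : Set G))
    (hcop : (Nat.card Y).Coprime q)
    (hCY : ∀ v ∈ Y, y * v = v * y → v = 1) (hCH : ∀ u ∈ H, y * u = u * y → u = 1)
    (hU : IsSylowIn q U H) : ∀ v ∈ Y, ∀ u ∈ U, v * u = u * v := by
  have hNU := IsSylowIn.normalizer_le_of_isNilpotent hU hHnil
  have hFA : FAHyp q Y y n U := by
    refine ⟨hU.2.1, hYH.trans hNU, hNU hyH, ?_, ?_⟩
    · intro u _
      rw [hyn, one_mul, mul_one]
    · intro u hu hyu v _
      rw [hCH u (hU.1 hu) hyu, mul_one, one_mul]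
  have hfpf : ∀ i, 0 < i → i < n → ∀ v ∈ Y, y ^ i * v = v * y ^ i → v = 1 := by
    intro i hi0 hin v hv hc
    apply hCY v hv
    have hcop' : Nat.Coprime i n :=
      (Nat.coprime_comm.mp ((Nat.Prime.coprime_iff_not_dvd hn).2
        (fun hd => absurd (Nat.le_of_dvd hi0 hd) (by omega))))
    obtain ⟨m, -, hm⟩ := Nat.exists_mul_mod_eq_one_of_coprime hcop' hn.one_lt
    have hy : (y ^ i) ^ m = y := by
      rw [← pow_mul, pow_eq_pow_mod (i * m) hyn, hm, pow_one]
    have h1 : Commute (y ^ i) v := hc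
    have h2 : Commute ((y ^ i) ^ m) v := h1.pow_left m
    rw [hy] at h2
    exact h2
  exact frobenius_action hq2 Y y n hn.pos hcop hyY hfpf U hFA

/-- **Frobenius trick**: `C_H(Y) ≠ 1`. -/
theorem frob_trick (hodd : Odd (Nat.card G)) {H Y : Subgroup G} {y : G} {n : ℕ}
    (hn : n.Prime) (hyn : y ^ n = 1) (hHnil : Group.IsNilpotent H) (hH1 : H ≠ ⊥)
    (hYH : Y ≤ Subgroup.normalizer (H : Set G)) (hyH : y ∈ Subgroup.normalizer (H : Set G))
    (hyY : y ∈ Subgroup.normalizer (Y : Set G))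
    (hcop : (Nat.card Y).Coprime (Nat.card H))
    (hCY : ∀ v ∈ Y, y * v = v * y → v = 1) (hCH : ∀ u ∈ H, y * u = u * y → u = 1) :
    H ⊓ Subgroup.centralizer (Y : Set G) ≠ ⊥ := by
  have hcard : Nat.card H ≠ 1 := fun h => hH1 (Subgroup.card_eq_one.mp h)
  obtain ⟨q, hq, hqH⟩ := Nat.exists_prime_and_dvd hcard
  haveI : Fact q.Prime := ⟨hq⟩
  have hq2 : q ≠ 2 := by
    rintro rfl
    have : 2 ∣ Nat.card G := hqH.trans (Subgroup.card_subgroup_dvd_card H)
    exact (Nat.not_even_iff_odd.2 hodd) (even_iff_two_dvd.2 this)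
  obtain ⟨U, -, hU⟩ := exists_isSylowIn_ge (p := q) (N := H) (Y := ⊥) bot_le IsPGroup.of_bot
  have hU1 : U ≠ ⊥ := by
    intro h
    have h1 := Cfsg.Agent.Helper31.relIndex_mul_card' hU.1
    rw [h, Subgroup.card_bot, mul_one] at h1
    apply hU.2.2
    rw [h, h1]
    exact hqH
  have hc := frob_trick_sylow hq2 hn hyn hHnil hYH hyH hyY
    (Nat.Coprime.coprime_dvd_right hqH hcop) hCY hCH hU
  intro hbot
  apply hU1
  rw [eq_bot_iff, ← hbot]
  intro u hu
  refine Subgroup.mem_inf.mpr ⟨hU.1 hu, ?_⟩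
  rw [Subgroup.mem_centralizer_iff]
  intro v hv
  exact hc v hv u hu

end Cfsg.Agent.Helper54.W2
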