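import Mathlib
import Cfsg.Prelude.Def_OddOrderLocal
import Cfsg.Agent.Helper4.OddGL2
import Cfsg.Agent.Helper86.InvAut
import Cfsg.Agent.Helper29.BG11A
import Cfsg.Agent.Helper22.BGCor107

/-!
# `N_G(A) / C_G(A)` is abelian (for S1421; helper54)

`A` elementary abelian of order `p ^ 2` in a minimal simple group of odd order such that every
`p`-element of `N_G(A)` centralizes `A` (e.g. the Sylow `p`-subgroups of `G` are abelian).  Then
`N_G(A)' ≤ C_G(A)`: an odd-order solvable `p'`-subgroup of `GL₂(p)` is abelian.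
-/

set_option autoImplicit false
set_option linter.style.haveILetI false
set_option linter.unusedSectionVars false
set_option linter.unusedVariables false

namespace Cfsg.Agent.Helper54.W2

open Cfsg Cfsg.Agent.Helper29.BG10 Cfsg.Agent.Helper29.BG11

variable {G : Type*} [Group G] [Finite G]

/-- every `p`-element of `N_G(A)` centralizes `A`, when the Sylow `p`-subgroups of `G` are abelian -/
theorem mem_centralizer_of_pElement {p : ℕ} [hp : Fact p.Prime]
    (hSyl : ∀ S : Sylow p G, IsMulCommutative (S : Subgroup G)) {A : Subgroup G} (hAp : IsPGroup p A)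
    {x : G} (hxA : x ∈ Subgroup.normalizer (A : Set G)) (hx : ∃ k : ℕ, x ^ p ^ k = 1) :
    x ∈ Subgroup.centralizer (A : Set G) := by
  -- `A⟨x⟩` is a `p`-group
  have hxp : IsPGroup p (Subgroup.zpowers x) := by
    obtain ⟨k, hk⟩ := hx
    rintro ⟨_, j, rfl⟩
    refine ⟨k, Subtype.ext ?_⟩
    simp only [Subgroup.coe_pow, Subgroup.coe_one]
    rw [← zpow_natCast, ← zpow_mul, mul_comm, zpow_mul, zpow_natCast, hk, one_zpow]
  have hle : Subgroup.zpowers x ≤ Subgroup.normalizer (A : Set G) := (Subgroup.zpowers_le).mpr hxA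
  have hP : IsPGroup p (A ⊔ Subgroup.zpowers x : Subgroup G) := by
    rw [sup_comm]
    exact IsPGroup.to_sup_of_normal_right' hxp hAp hle
  obtain ⟨S, hS⟩ := hP.exists_le_sylow
  haveI := hSyl S
  rw [Subgroup.mem_centralizer_iff]
  intro a ha
  exact setLike_mul_comm (hS (Subgroup.mem_sup_left ha))
    (hS (Subgroup.mem_sup_right (Subgroup.mem_zpowers x)))

theorem commutator_mem_centralizer (hG : Cfsg.IsMinSimpleOddOrder G) {p : ℕ} [hp : Fact p.Prime]
    {A : Subgroup G} (hAea : Cfsg.IsElementaryAbelian p A) (hAcard : Nat.card A = p ^ 2)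
    (hpel : ∀ x ∈ Subgroup.normalizer (A : Set G), (∃ k : ℕ, x ^ p ^ k = 1) →
      x ∈ Subgroup.centralizer (A : Set G)) :
    ∀ x ∈ Subgroup.normalizer (A : Set G), ∀ y ∈ Subgroup.normalizer (A : Set G),
      x * y * x⁻¹ * y⁻¹ ∈ Subgroup.centralizer (A : Set G) := by
  classical
  have hpp : p.Prime := hp.out
  haveI : IsSimpleGroup G := hG.2.1
  have hAp : IsPGroup p A := isPGroup_of_isElementaryAbelian hAea
  have hpA : p ∣ Nat.card A := by rw [hAcard]; exact dvd_pow_self p (by norm_num)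
  have hp2 : p ≠ 2 := by
    rintro rfl
    have : 2 ∣ Nat.card G := hpA.trans (Subgroup.card_subgroup_dvd_card A)
    exact (Nat.not_even_iff_odd.2 hG.1) (even_iff_two_dvd.2 this)
  have hA1 : A ≠ ⊥ := by
    intro h
    rw [h, Subgroup.card_bot] at hAcard
    have := hpp.one_lt
    nlinarith
  have hNtop : Subgroup.normalizer (A : Set G) ≠ ⊤ :=
    Cfsg.Agent.Helper31.bgt_normalizer_ne_top_of_simple hA1 (isPGroup_ne_top hG hAp)
  have hNsolv : Group.IsSolvable ↥(Subgroup.normalizer (A : Set G)) := hG.2.2.2 _ hNtop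
  letI : CommGroup ↥A :=
    { (inferInstance : Group ↥A) with mul_comm := fun a b => hAea.1.is_comm.comm a b }
  have hexp : ∀ a : ↥A, a ^ p = 1 := fun a => Subtype.ext (by
    simpa using hAea.2 a a.2)
  obtain ⟨Θ, hΘ, -⟩ := Cfsg.Agent.Helper86.exists_embedding_GL2_inv (A := ↥A) p hexp hAcard
  let φ : ↥(Subgroup.normalizer (A : Set G)) →* MulAut ↥A := A.normalizerMonoidHom
  let ψ : ↥(Subgroup.normalizer (A : Set G)) →* GL (Fin 2) (ZMod p) := Θ.comp φ
  have hφker : ∀ n : ↥(Subgroup.normalizer (A : Set G)),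
      φ n = 1 ↔ (n : G) ∈ Subgroup.centralizer (A : Set G) := by
    intro n
    have := Subgroup.normalizerMonoidHom_ker A
    rw [← MonoidHom.mem_ker, this, Subgroup.mem_subgroupOf]
  haveI hfin : Finite ψ.range := Finite.of_surjective ψ.rangeRestrict ψ.rangeRestrict_surjective
  have hdvd : Nat.card ψ.range ∣ Nat.card ↥(Subgroup.normalizer (A : Set G)) :=
    Subgroup.card_range_dvd ψ
  have hodd : Odd (Nat.card ψ.range) :=
    Odd.of_dvd_nat hG.1 (hdvd.trans (Subgroup.card_subgroup_dvd_card _))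
  have hsolv : Group.IsSolvable ψ.range :=
    Group.isSolvable_of_surjective (f := ψ.rangeRestrict) ψ.rangeRestrict_surjective
  have hpn : ¬ p ∣ Nat.card ψ.range := by
    obtain ⟨P⟩ : Nonempty (Sylow p ↥(Subgroup.normalizer (A : Set G))) := inferInstance
    have hPker : (P : Subgroup ↥(Subgroup.normalizer (A : Set G))) ≤ ψ.ker := by
      intro n hn
      rw [MonoidHom.mem_ker]
      change Θ (φ n) = 1
      have : φ n = 1 := by
        rw [hφker]
        apply hpel _ n.2
        obtain ⟨k, hk⟩ := P.isPGroup' ⟨n, hn⟩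
        refine ⟨k, ?_⟩
        have := congrArg (fun t : ↥(P : Subgroup ↥(Subgroup.normalizer (A : Set G))) =>
          ((t : ↥(Subgroup.normalizer (A : Set G))) : G)) hk
        simpa using this
      rw [this, map_one]
    rw [← Subgroup.index_ker]
    intro hd
    exact P.not_dvd_index (hd.trans (Subgroup.index_dvd_of_le hPker))
  have hcomm := Cfsg.Agent.Helper4.commute_of_odd_solvable_p' (F := ZMod p) p hp2
    (Nat.card ψ.range) ψ.range hfin rfl hodd hpn hsolv
  intro x hx y hy
  let xn : ↥(Subgroup.normalizer (A : Set G)) := ⟨x, hx⟩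
  let yn : ↥(Subgroup.normalizer (A : Set G)) := ⟨y, hy⟩
  have h1 : ψ xn * ψ yn = ψ yn * ψ xn := hcomm _ ⟨xn, rfl⟩ _ ⟨yn, rfl⟩
  have h2 : ψ (xn * yn * xn⁻¹ * yn⁻¹) = 1 := by
    rw [map_mul, map_mul, map_mul, map_inv, map_inv, h1]; group
  have h3 : φ (xn * yn * xn⁻¹ * yn⁻¹) = 1 := hΘ (by rw [map_one]; exact h2)
  have := (hφker _).mp h3
  simpa [xn, yn] using this

end Cfsg.Agent.Helper54.W2
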