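import Cfsg.Agent.Helper54.BGUnique
import Cfsg.Agent.Helper21.PRank
import Cfsg.Agent.S1450
import Cfsg.Agent.S1452
import Cfsg.Agent.S1457

set_option autoImplicit false
set_option linter.style.haveILetI false
set_option linter.unusedVariables false
set_option linter.unusedSectionVars false

/-!
# Bender–Glauberman, Lemma 9.1 (helper54)

`inUniqueMaximal_of_invariant_le`: in a minimal simple group of odd order, a nontrivial `p`-subgroup `B`
of a maximal subgroup `M` such that every `B`-invariant `p'`-subgroup of `G` lies in `M` is contained in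
no other maximal subgroup.
-/

namespace Cfsg.Agent.Helper54.BGU

open Cfsg Cfsg.Agent.Helper54
open Cfsg.Agent.Helper35.PuigRel
open scoped Pointwise

section SCN

variable {G : Type*} [Group G] [Finite G] {p : ℕ}

/-- For odd `p`, a `p`-group of rank at least 3 has a normal self-centralizing subgroup of rank at
least 3. -/
theorem exists_scn3_type {R : Type*} [Group R] [Finite R] [hp : Fact p.Prime] (hp2 : p ≠ 2)
    (hR : IsPGroup p R) (hr : ¬ Cfsg.PRankLE p 2 R) :
    ∃ A : Subgroup R, A.Normal ∧ Subgroup.centralizer (A : Set R) = A ∧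
      ¬ Cfsg.PRankLE p 2 ↥A := by
  classical
  have hpp : p.Prime := hp.out
  obtain ⟨F, hFn, hFc, hFe, hFcard⟩ :=
    Cfsg.Agent.S1452.exists_normal_elementaryAbelian_cube hp2 hR hr
  let S : Set (Subgroup R) := {A | A.Normal ∧ IsMulCommutative A ∧ F ≤ A}
  have hSne : S.Nonempty := ⟨F, hFn, hFc, le_rfl⟩
  obtain ⟨A, ⟨hAn, hAc, hFA⟩, hAmax⟩ := wellFounded_gt.has_min S hSne
  haveI := hAn
  have hmax : ∀ B' : Subgroup R, B'.Normal → IsMulCommutative B' → A ≤ B' → B' = A := by
    intro B' hB'n hB'c hAB'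
    by_contra hne
    exact hAmax B' ⟨hB'n, hB'c, hFA.trans hAB'⟩ (lt_of_le_of_ne hAB' (Ne.symm hne))
  have hCA : Subgroup.centralizer (A : Set R) ≤ A :=
    Cfsg.Agent.Helper52.centralizer_le_of_maximal_normal_abelian hR A hAc hmax
  have hAC : A ≤ Subgroup.centralizer (A : Set R) := by
    intro a ha
    rw [Subgroup.mem_centralizer_iff]
    intro b hb
    exact Cfsg.Agent.Helper52.comm_of_mem hAc hb ha
  refine ⟨A, hAn, le_antisymm hCA hAC, ?_⟩
  rw [Cfsg.Agent.Helper21.not_prankLE_iff]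
  refine ⟨F, hFA, fun a ha b hb => Cfsg.Agent.Helper52.comm_of_mem hFc ha hb, hFe, ?_⟩
  rw [hFcard]
  exact Nat.pow_lt_pow_right hpp.one_lt (by norm_num)

/-- If `G` has `p`-rank at least 3, so does every Sylow `p`-subgroup. -/
theorem not_pRankLE_sylow [hp : Fact p.Prime] (P : Sylow p G) (h : ¬ Cfsg.PRankLE p 2 G) :
    ¬ Cfsg.PRankLE p 2 ↥(P : Subgroup G) := by
  unfold Cfsg.PRankLE at h
  push Not at h
  obtain ⟨E, hEc, hEe, hEcard⟩ := h
  have hEp : IsPGroup p E := by
    intro x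
    refine ⟨1, ?_⟩
    rw [pow_one]
    apply Subtype.ext
    simpa using hEe x x.2
  obtain ⟨Q, hEQ⟩ := hEp.exists_le_sylow
  obtain ⟨g, hg⟩ := MulAction.exists_smul_eq G Q P
  rw [Cfsg.Agent.Helper21.not_prankLE_iff]
  refine ⟨E.map (MulAut.conj g).toMonoidHom, ?_, ?_, ?_, ?_⟩
  · rintro _ ⟨x, hx, rfl⟩
    have h1 : (P : Subgroup G) = MulAut.conj g • (Q : Subgroup G) := by
      rw [← hg]; rfl
    rw [h1]
    exact Subgroup.smul_mem_pointwise_smul _ _ _ (hEQ hx)
  · rintro _ ⟨x, hx, rfl⟩ _ ⟨y, hy, rfl⟩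
    have := hEc.is_comm.comm ⟨x, hx⟩ ⟨y, hy⟩
    have h2 : x * y = y * x := congrArg Subtype.val this
    rw [← map_mul, ← map_mul, h2]
  · rintro _ ⟨x, hx, rfl⟩
    rw [← map_pow, hEe x hx, map_one]
  · rw [Subgroup.card_map_of_injective (MulAut.conj g).injective]
    exact hEcard

/-- For odd `p`, a `p`-subgroup `P` of rank at least 3 has an `SCN_3`-subgroup. -/
theorem exists_scn3 [hp : Fact p.Prime] (hp2 : p ≠ 2) (P : Subgroup G) (hP : IsPGroup p P)
    (hr : ¬ Cfsg.PRankLE p 2 ↥P) :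
    ∃ A : Subgroup G, Cfsg.IsSCN P A ∧ ¬ Cfsg.PRankLE p 2 ↥A := by
  obtain ⟨A₀, hAn, hAC, hA3⟩ := exists_scn3_type (R := ↥P) hp2 hP hr
  refine ⟨A₀.map P.subtype, ⟨Subgroup.map_subtype_le _, ?_, ?_⟩, ?_⟩
  · intro x hx
    apply Subgroup.mem_normalizer_fintype
    rintro _ ⟨a, ha, rfl⟩
    exact ⟨⟨x, hx⟩ * a * ⟨x, hx⟩⁻¹, hAn.conj_mem a ha _, rfl⟩
  · apply le_antisymm
    · rintro x ⟨hxP, hxC⟩
      have h1 : (⟨x, hxP⟩ : ↥P) ∈ Subgroup.centralizer (A₀ : Set ↥P) := by
        rw [Subgroup.mem_centralizer_iff]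
        intro a ha
        apply Subtype.ext
        exact (Subgroup.mem_centralizer_iff.mp hxC) (a : G) ⟨a, ha, rfl⟩
      rw [hAC] at h1
      exact ⟨⟨x, hxP⟩, h1, rfl⟩
    · rintro _ ⟨a, ha, rfl⟩
      refine ⟨a.2, Subgroup.mem_centralizer_iff.mpr ?_⟩
      rintro _ ⟨b, hb, rfl⟩
      have h1 : a ∈ Subgroup.centralizer (A₀ : Set ↥P) := by rw [hAC]; exact ha
      have := (Subgroup.mem_centralizer_iff.mp h1) b hb
      exact congrArg Subtype.val this
  · rw [Cfsg.Agent.Helper21.not_prankLE_iff] at hA3 ⊢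
    obtain ⟨E, hEA, hEc, hEe, hEcard⟩ := hA3
    refine ⟨E.map P.subtype, Subgroup.map_mono hEA, ?_, ?_, ?_⟩
    · rintro _ ⟨x, hx, rfl⟩ _ ⟨y, hy, rfl⟩
      rw [← map_mul, ← map_mul, hEc x hx y hy]
    · rintro _ ⟨x, hx, rfl⟩
      rw [← map_pow, hEe x hx, map_one]
    · rw [Subgroup.card_map_of_injective P.subtype_injective]
      exact hEcard

end SCN

section Claim3

variable {G : Type*} [Group G] [Finite G] {p : ℕ}

theorem isSylIn_top_of_sylow [hp : Fact p.Prime] (P : Sylow p G) :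
    IsSylIn p (P : Subgroup G) ⊤ :=
  ⟨le_top, P.2, fun Q hQ hPQ _ => P.3 hQ hPQ⟩

/-- A `p`-subgroup lies in every normal subgroup of index prime to `p`. -/
theorem le_of_normal_of_coprime_index {L : Type*} [Group L] [Finite L] [hp : Fact p.Prime]
    (U : Subgroup L) [U.Normal] (hU : (U.index).Coprime p) (S : Subgroup L) (hS : IsPGroup p S) :
    S ≤ U := by
  intro x hx
  obtain ⟨k, hk⟩ := hS ⟨x, hx⟩
  have hk' : x ^ p ^ k = 1 := by simpa using congrArg Subtype.val hk
  have h1 : orderOf ((QuotientGroup.mk' U) x) ∣ p ^ k := by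
    apply orderOf_dvd_of_pow_eq_one
    rw [← map_pow, hk', map_one]
  have h2 : orderOf ((QuotientGroup.mk' U) x) ∣ U.index := by
    rw [Subgroup.index_eq_card]
    exact orderOf_dvd_natCard _
  have h3 : orderOf ((QuotientGroup.mk' U) x) = 1 :=
    Nat.eq_one_of_dvd_coprimes (Nat.Coprime.pow_right k hU) h2 h1
  rw [orderOf_eq_one_iff, QuotientGroup.mk'_apply, QuotientGroup.eq_one_iff] at h3
  exact h3

/-- Claim 3 in the proof of Bender–Glauberman 9.1: if `K` contains all `P`-invariant `p'`-subgroups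
for a Sylow `p`-subgroup `P` of `G`, and `N_G(K), N_G(P) ≤ M`, then every proper subgroup of `G`
containing `P` lies in `M`. -/
theorem le_of_sylow_le [hp : Fact p.Prime] (hG : Cfsg.IsMinSimpleOddOrder G) (hp2 : p ≠ 2)
    (P : Sylow p G) (hP1 : (P : Subgroup G) ≠ ⊥) (M K : Subgroup G)
    (hKcop : (Nat.card K).Coprime p)
    (hKall : ∀ Y : Subgroup G, (Nat.card Y).Coprime p →
      (P : Subgroup G) ≤ Subgroup.normalizer (Y : Set G) → Y ≤ K)
    (hPK : (P : Subgroup G) ≤ Subgroup.normalizer (K : Set G))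
    (hNK : Subgroup.normalizer (K : Set G) ≤ M)
    (hNP : Subgroup.normalizer ((P : Subgroup G) : Set G) ≤ M)
    (H : Subgroup G) (hH : H ≠ ⊤) (hPH : (P : Subgroup G) ≤ H) : H ≤ M := by
  have hpp : p.Prime := hp.out
  haveI hHs : Group.IsSolvable ↥H := hG.2.2.2 H hH
  have hoddH : Odd (Nat.card ↥H) := Odd.of_dvd_nat hG.1 (Subgroup.card_subgroup_dvd_card H)
  have hPHs : IsSylIn p (P : Subgroup G) H := (isSylIn_top_of_sylow P).mono hPH le_top
  obtain ⟨S, hS⟩ := hPHs.exists_sylow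
  have hKM : K ≤ M := Subgroup.le_normalizer.trans hNK
  haveI hUn : (pPrimePCore p ↥H).Normal := by unfold pPrimePCore; infer_instance
  set U := pPrimePCore p ↥H with hU
  have hF := normalizer_inf_pPrimePCore_sup_eq_top S
  have hmemS : ∀ x : ↥H, x ∈ (S : Subgroup ↥H) ↔ (x : G) ∈ (P : Subgroup G) := by
    intro x
    rw [← hS]
    constructor
    · intro hx
      exact ⟨x, hx, rfl⟩
    · rintro ⟨y, hy, hyx⟩
      have : y = x := Subtype.ext hyx
      rwa [← this]
  have key : ∀ n : ↥H, n ∈ Subgroup.normalizer ((((S : Subgroup ↥H) ⊓ U : Subgroup ↥H)) : Set ↥H) →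
      (n : G) ∈ M := by
    intro n hn
    by_cases hrk : Cfsg.PRankLE p 2 G
    · -- small rank: `S ≤ O_{p',p}(H)`
      have hrH : Cfsg.PRankLE p 2 ↥H := Cfsg.Agent.Lib.pRankLE_subgroup hrk H
      have hpH : p ∣ Nat.card ↥H := by
        obtain ⟨k, hk⟩ := IsPGroup.iff_card.mp P.2
        have hk0 : k ≠ 0 := by
          rintro rfl
          rw [pow_zero] at hk
          exact hP1 ((Subgroup.card_eq_one).mp hk)
        have h1 : p ∣ Nat.card (P : Subgroup G) := by rw [hk]; exact dvd_pow_self p hk0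
        exact h1.trans (Subgroup.card_dvd_of_le hPH)
      have hidx := (Cfsg.Agent.S1450.result hoddH p hpH hrH).2.2.2.2.2
      have hSU : (S : Subgroup ↥H) ≤ U := le_of_normal_of_coprime_index U hidx _ S.2
      rw [inf_of_le_left hSU] at hn
      apply hNP
      have := coe_mem_normalizer_map hn
      rwa [hS] at this
    · -- rank at least 3
      have hrP := not_pRankLE_sylow P hrk
      obtain ⟨A, hSCN, hA3⟩ := exists_scn3 hp2 (P : Subgroup G) P.2 hrP
      have hAall := invariant_le_of_scn3 hG P A hSCN hA3 K hKall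
      obtain ⟨hAP, hPA, hPC⟩ := hSCN
      have hAcomm : ∀ a ∈ A, ∀ b ∈ A, a * b = b * a := by
        intro a ha b hb
        have h1 : b ∈ (P : Subgroup G) ⊓ Subgroup.centralizer (A : Set G) := by rw [hPC]; exact hb
        exact ((Subgroup.mem_centralizer_iff.mp h1.2) a ha)
      have hAH : A ≤ H := hAP.trans hPH
      have hA'S : A.subgroupOf H ≤ (S : Subgroup ↥H) := by
        intro x hx
        rw [hmemS]
        exact hAP hx
      have hA'c : IsMulCommutative (A.subgroupOf H) := by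
        refine ⟨⟨fun a b => ?_⟩⟩
        apply Subtype.ext
        apply Subtype.ext
        exact hAcomm _ a.2 _ b.2
      have hSA' : (S : Subgroup ↥H) ≤ Subgroup.normalizer ((A.subgroupOf H : Subgroup ↥H) : Set ↥H) := by
        intro s hs
        have h1 := hPA ((hmemS s).mp hs)
        rw [Subgroup.mem_normalizer_iff] at h1 ⊢
        intro y
        rw [Subgroup.mem_subgroupOf, Subgroup.mem_subgroupOf]
        have := h1 (y : G)
        simpa using this
      have hA'U : A.subgroupOf H ≤ U :=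
        Cfsg.Agent.S1457.result hoddH p S (A.subgroupOf H) hA'S hA'c hSA'
      -- conjugates of `A` by `n` stay inside `P`
      have hconj : ∀ a ∈ A, (n : G) * a * (n : G)⁻¹ ∈ (P : Subgroup G) := by
        intro a ha
        have h1 : (⟨a, hAH ha⟩ : ↥H) ∈ (S : Subgroup ↥H) ⊓ U :=
          ⟨hA'S (show (⟨a, hAH ha⟩ : ↥H) ∈ A.subgroupOf H from ha),
            hA'U (show (⟨a, hAH ha⟩ : ↥H) ∈ A.subgroupOf H from ha)⟩
        have h2 := (Subgroup.mem_normalizer_iff.mp hn _).mp h1
        have h3 := (hmemS _).mp h2.1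
        simpa using h3
      -- `K` conjugated by `n⁻¹` is `A`-invariant
      set Y := K.map (MulAut.conj (n : G)⁻¹).toMonoidHom with hY
      have hYcop : (Nat.card Y).Coprime p := by
        rw [hY, Subgroup.card_map_of_injective (MulAut.conj (n : G)⁻¹).injective]
        exact hKcop
      have hAY : A ≤ Subgroup.normalizer (Y : Set G) := by
        intro a ha
        apply Subgroup.mem_normalizer_fintype
        rintro _ ⟨k, hk, rfl⟩
        have h1 := (Subgroup.mem_normalizer_iff.mp (hPK (hconj a ha)) k).mp hk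
        refine ⟨(n : G) * a * (n : G)⁻¹ * k * ((n : G) * a * (n : G)⁻¹)⁻¹, h1, ?_⟩
        simp only [MulEquiv.coe_toMonoidHom, MulAut.conj_apply, inv_inv]
        group
      have hYK : Y ≤ K := hAall Y hYcop hAY
      apply hNK
      have h1 : (n : G)⁻¹ ∈ Subgroup.normalizer (K : Set G) := by
        apply Subgroup.mem_normalizer_fintype
        intro k hk
        apply hYK
        exact ⟨k, hk, by simp⟩
      have := Subgroup.inv_mem _ h1
      simpa using this
  intro x hx
  have h2 : (⟨x, hx⟩ : ↥H) ∈ Subgroup.normalizer ((((S : Subgroup ↥H) ⊓ U : Subgroup ↥H)) : Set ↥H) ⊔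
      pPrimeCore p ↥H := by
    rw [hF]; exact Subgroup.mem_top _
  obtain ⟨n, hn, k, hk, hnk⟩ := Subgroup.mem_sup_of_normal_right.mp h2
  have hx' : x = (n : G) * (k : G) := by
    have := congrArg Subtype.val hnk
    simpa using this.symm
  rw [hx']
  apply M.mul_mem (key n hn)
  apply hKM
  apply hKall (opp p H) (card_opp_coprime H) (hPH.trans (le_normalizer_opp H))
  exact ⟨k, hk, rfl⟩

end Claim3

section Main

variable {G : Type*} [Group G] [Finite G] {p : ℕ}

theorem coatom_eq_of_le {M H : Subgroup G} (hM : IsCoatom M) (hH : IsCoatom H) (h : H ≤ M) :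
    H = M := by
  by_contra hne
  exact hM.1 (hH.2 M (lt_of_le_of_ne h hne))

theorem normalizer_eq_of_coatom [IsSimpleGroup G] {M X : Subgroup G} (hM : IsCoatom M)
    (hX0 : X ≠ ⊥) (hXM : X ≤ M) (hMX : M ≤ Subgroup.normalizer (X : Set G)) :
    Subgroup.normalizer (X : Set G) = M := by
  have hXtop : X ≠ ⊤ := by
    intro h0
    apply hM.1
    rw [eq_top_iff, ← h0]
    exact hXM
  have h1 := Cfsg.Agent.Helper31.bgt_normalizer_ne_top_of_simple hX0 hXtop
  by_contra h2
  exact h1 (hM.2 _ (lt_of_le_of_ne hMX (Ne.symm h2)))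

/-- **Bender–Glauberman, Lemma 9.1 (b)**, for an arbitrary nontrivial `p`-subgroup `B`: if every
`B`-invariant `p'`-subgroup of the minimal simple group `G` of odd order lies in the maximal subgroup
`M ≥ B`, then `M` is the only maximal subgroup containing `B`. -/
theorem inUniqueMaximal_of_invariant_le [hp : Fact p.Prime] (hG : Cfsg.IsMinSimpleOddOrder G)
    (M : Subgroup G) (hM : IsCoatom M) (B : Subgroup G) (hBp : IsPGroup p B) (hB1 : B ≠ ⊥)
    (hBM : B ≤ M)
    (h : ∀ Y ∈ Cfsg.invSubgroups ⊤ B (Cfsg.primesNotDvd p), Y ≤ M) :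
    Cfsg.InUniqueMaximal B := by
  have hpp : p.Prime := hp.out
  haveI hs : IsSimpleGroup G := hG.2.1
  have h' : ∀ Y : Subgroup G, (Nat.card Y).Coprime p → B ≤ Subgroup.normalizer (Y : Set G) →
      Y ≤ M := fun Y h1 h2 => h Y ((mem_invSubgroups_iff B Y).mpr ⟨h1, h2⟩)
  have hp2 : p ≠ 2 := by
    rintro rfl
    obtain ⟨k, hk⟩ := IsPGroup.iff_card.mp hBp
    have hk0 : k ≠ 0 := by
      rintro rfl
      rw [pow_zero] at hk
      exact hB1 ((Subgroup.card_eq_one).mp hk)
    have h1 : 2 ∣ Nat.card B := by rw [hk]; exact dvd_pow_self 2 hk0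
    have h2 : 2 ∣ Nat.card G := h1.trans (Subgroup.card_subgroup_dvd_card B)
    exact (Nat.not_even_iff_odd.mpr hG.1) (even_iff_two_dvd.mpr h2)
  refine ⟨M, ⟨hM, hBM⟩, ?_⟩
  rintro H₀ ⟨hH₀, hBH₀⟩
  by_contra hne₀
  let 𝒮 : Set (Subgroup G) := {H | IsCoatom H ∧ B ≤ H ∧ H ≠ M}
  let f : Subgroup G → ℕ := fun H => (Nat.card ↥(H ⊓ M)).factorization p
  obtain ⟨H, ⟨hH, hBH, hne⟩, hmax⟩ :=
    Set.exists_max_image 𝒮 f (Set.toFinite _) ⟨H₀, hH₀, hBH₀, hne₀⟩
  have hMtop : M ≠ ⊤ := hM.1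
  have hHtop : H ≠ ⊤ := hH.1
  haveI hHs : Group.IsSolvable ↥H := hG.2.2.2 H hHtop
  haveI hMs : Group.IsSolvable ↥M := hG.2.2.2 M hMtop
  have hoddH : Odd (Nat.card ↥H) := Odd.of_dvd_nat hG.1 (Subgroup.card_subgroup_dvd_card H)
  have hoddM : Odd (Nat.card ↥M) := Odd.of_dvd_nat hG.1 (Subgroup.card_subgroup_dvd_card M)
  obtain ⟨R, hBR, hRD⟩ := exists_isSylIn_ge (le_inf hBH hBM) hBp
  obtain ⟨P, hRP, hPM⟩ := exists_isSylIn_ge (hRD.1.trans inf_le_right) hRD.2.1
  have hR1 : R ≠ ⊥ := by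
    intro h0
    apply hB1
    rw [eq_bot_iff, ← h0]
    exact hBR
  have hfH : Nat.card R = p ^ f H := hRD.card_eq
  have hoppH : opp p H ≤ M := h' _ (card_opp_coprime H) (hBH.trans (le_normalizer_opp H))
  -- STEP 1: `R = P`
  have hRPeq : R = P := by
    by_contra hRPne
    have hlt : R < P := lt_of_le_of_ne hRP hRPne
    have hX0 : zl R ≠ ⊥ := zl_ne_bot hRD.2.1 hR1
    have hXtop : zl R ≠ ⊤ := by
      intro h0
      apply hMtop
      rw [eq_top_iff, ← h0]
      exact (zl_le R).trans (hRD.1.trans inf_le_right)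
    have hNX := Cfsg.Agent.Helper31.bgt_normalizer_ne_top_of_simple hX0 hXtop
    obtain ⟨L, hL, hNL⟩ := (eq_top_or_exists_le_coatom _).resolve_left hNX
    have hNRX := normalizer_le_normalizer_zl R
    have hLM : L = M := by
      by_contra hLne
      have hBL : B ≤ L := hBR.trans (Subgroup.le_normalizer.trans (hNRX.trans hNL))
      have hfL : f L ≤ f H := hmax L ⟨hL, hBL, hLne⟩
      have h1 := Cfsg.Agent.Helper31.bgt_lt_inf_normalizer_of_lt hPM.2.1 hlt
      have hR'p : IsPGroup p ↥(P ⊓ Subgroup.normalizer (R : Set G)) := hPM.2.1.to_le inf_le_left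
      have hR'LM : P ⊓ Subgroup.normalizer (R : Set G) ≤ L ⊓ M :=
        le_inf (inf_le_right.trans (hNRX.trans hNL)) (inf_le_left.trans hPM.1)
      obtain ⟨T, hR'T, hT⟩ := exists_isSylIn_ge hR'LM hR'p
      have hcT : Nat.card T = p ^ f L := hT.card_eq
      have h2 : Nat.card R < Nat.card ↥(P ⊓ Subgroup.normalizer (R : Set G)) := by
        have hle := Subgroup.card_le_of_le h1.le
        rcases hle.lt_or_eq with h3 | h3
        · exact h3
        · exact absurd (Subgroup.eq_of_le_of_card_ge h1.le h3.ge) h1.ne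
      have h3 : Nat.card ↥(P ⊓ Subgroup.normalizer (R : Set G)) ≤ Nat.card T :=
        Subgroup.card_le_of_le hR'T
      rw [hfH] at h2
      rw [hcT] at h3
      have h4 : f H < f L := (Nat.pow_lt_pow_iff_right hpp.one_lt).mp (lt_of_lt_of_le h2 h3)
      omega
    have hNXM : Subgroup.normalizer (zl R : Set G) ≤ M := hLM ▸ hNL
    have hRH : IsSylIn p R H := hRD.of_normalizer_le inf_le_left (by
      rintro x ⟨hxN, hxH⟩
      exact ⟨hxH, hNXM (hNRX hxN)⟩)
    have h1 := le_opp_sup_normalizer_zl hHs hoddH hRH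
    have hHM : H ≤ M := h1.trans (sup_le hoppH hNXM)
    exact hne (coatom_eq_of_le hM hH hHM)
  have hPD : IsSylIn p P (H ⊓ M) := hRPeq ▸ hRD
  have hBP : B ≤ P := hRPeq ▸ hBR
  have hP1 : P ≠ ⊥ := hRPeq ▸ hR1
  have hPH : P ≤ H := hPD.1.trans inf_le_left
  have hPMle : P ≤ M := hPM.1
  -- STEP 2
  have hKcop := card_opp_coprime (p := p) M
  obtain ⟨SM, hSM⟩ := hPM.exists_sylow
  have hKall : ∀ Y : Subgroup G, (Nat.card Y).Coprime p →
      P ≤ Subgroup.normalizer (Y : Set G) → Y ≤ opp p M := by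
    intro Y hY hPY
    have hYM : Y ≤ M := h' Y hY (hBP.trans hPY)
    have hcop' : (Nat.card (Y.subgroupOf M)).Coprime p := by
      rw [Nat.card_congr (Subgroup.subgroupOfEquivOfLe hYM).toEquiv]; exact hY
    have hSY : (SM : Subgroup ↥M) ≤
        Subgroup.normalizer ((Y.subgroupOf M : Subgroup ↥M) : Set ↥M) := by
      intro s hs
      have hsP : (s : G) ∈ P := by rw [← hSM]; exact ⟨s, hs, rfl⟩
      have h1 := hPY hsP
      rw [Subgroup.mem_normalizer_iff] at h1 ⊢
      intro y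
      rw [Subgroup.mem_subgroupOf, Subgroup.mem_subgroupOf]
      have := h1 (y : G)
      simpa using this
    have h2 := le_pPrimeCore_of_sylow_le_normalizer (isPConstrained_of_isSolvable (G := ↥M))
      SM (Y.subgroupOf M) hcop' hSY
    intro y hy
    exact ⟨⟨y, hYM hy⟩, h2 (show (⟨y, hYM hy⟩ : ↥M) ∈ Y.subgroupOf M from hy), rfl⟩
  have hMK : M ≤ Subgroup.normalizer (opp p M : Set G) := le_normalizer_opp M
  have hNPK : Subgroup.normalizer (P : Set G) ≤ Subgroup.normalizer (opp p M : Set G) := by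
    intro g hg
    apply Subgroup.mem_normalizer_fintype
    intro k hk
    have h1 : (opp p M).map (MulAut.conj g).toMonoidHom ≤ opp p M := by
      apply hKall
      · rw [Subgroup.card_map_of_injective (MulAut.conj g).injective]; exact hKcop
      · exact Cfsg.Agent.Helper31.le_normalizer_map_conj_of_mem_normalizer (hPMle.trans hMK) hg
    exact h1 ⟨k, hk, rfl⟩
  have hoppHK : opp p H ≤ opp p M :=
    hKall _ (card_opp_coprime H) (hPH.trans (le_normalizer_opp H))
  by_cases hK0 : opp p M = ⊥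
  · have hZn : M ≤ Subgroup.normalizer (zl P : Set G) :=
      le_normalizer_zl_of_opp_eq_bot hMs hoddM hPM hK0
    have hZ0 : zl P ≠ ⊥ := zl_ne_bot hPM.2.1 hP1
    have hNZ : Subgroup.normalizer (zl P : Set G) = M :=
      normalizer_eq_of_coatom hM hZ0 ((zl_le P).trans hPMle) hZn
    have hPHs : IsSylIn p P H := hPD.of_normalizer_le inf_le_left (by
      rintro x ⟨hxN, hxH⟩
      refine ⟨hxH, ?_⟩
      rw [← hNZ]
      exact normalizer_le_normalizer_zl P hxN)
    have h1 := le_opp_sup_normalizer_zl hHs hoddH hPHs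
    have hHM : H ≤ M := by
      refine h1.trans (sup_le ?_ hNZ.le)
      rw [hK0] at hoppHK
      exact hoppHK.trans bot_le
    exact hne (coatom_eq_of_le hM hH hHM)
  · have hNK : Subgroup.normalizer (opp p M : Set G) = M :=
      normalizer_eq_of_coatom hM hK0 (opp_le M) hMK
    have hNPM : Subgroup.normalizer (P : Set G) ≤ M := hNPK.trans hNK.le
    have hPtop : IsSylIn p P ⊤ := hPM.of_normalizer_le le_top (by
      rintro x ⟨hxN, -⟩
      exact hNPM hxN)
    let PS : Sylow p G :=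
      { toSubgroup := P
        isPGroup' := hPtop.2.1
        is_maximal' := fun {Q} hQ hPQ => hPtop.2.2 Q hQ hPQ le_top }
    have hHM : H ≤ M := le_of_sylow_le hG hp2 PS hP1 M (opp p M) hKcop hKall (hPMle.trans hMK)
      hNK.le hNPM H hHtop hPH
    exact hne (coatom_eq_of_le hM hH hHM)

end Main

end Cfsg.Agent.Helper54.BGU
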