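import Cfsg.Agent.Helper54.BGUnique2
import Cfsg.Agent.Helper52.NormalRankTwo
import Cfsg.Agent.Helper25.PGroupBasic
import Cfsg.Agent.S1453

set_option autoImplicit false
set_option linter.style.haveILetI false
set_option linter.unusedVariables false
set_option linter.unusedSectionVars false

/-!
# Tools for Bender–Glauberman 9.2–9.4 (helper54)
-/

namespace Cfsg.Agent.Helper54.BGU

open Cfsg Cfsg.Agent.Helper54

section Conj

variable {G : Type*} [Group G]

/-- Being contained in a unique maximal subgroup is invariant under conjugation. -/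
theorem inUniqueMaximal_map_conj {X : Subgroup G} (h : Cfsg.InUniqueMaximal X) (g : G) :
    Cfsg.InUniqueMaximal (X.map (MulAut.conj g).toMonoidHom) := by
  obtain ⟨M, ⟨hM, hXM⟩, huniq⟩ := h
  set φ : Subgroup G ≃o Subgroup G := (MulAut.conj g).mapSubgroup with hφ
  have hφa : ∀ Y : Subgroup G, φ Y = Y.map (MulAut.conj g).toMonoidHom := fun Y => rfl
  refine ⟨φ M, ⟨(OrderIso.isCoatom_iff φ M).mpr hM, ?_⟩, ?_⟩
  · rw [← hφa]
    exact φ.monotone hXM
  · rintro M' ⟨hM', hXM'⟩
    have h1 : IsCoatom (φ.symm M') := by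
      rw [← OrderIso.isCoatom_iff φ, OrderIso.apply_symm_apply]
      exact hM'
    have h2 : X ≤ φ.symm M' := by
      rw [← hφa] at hXM'
      have := φ.symm.monotone hXM'
      rwa [OrderIso.symm_apply_apply] at this
    have h3 := huniq (φ.symm M') ⟨h1, h2⟩
    rw [← h3, OrderIso.apply_symm_apply]

end Conj

section CentSq

variable {P : Type*} [Group P] [Finite P] {p : ℕ}

/-- In a finite `p`-group, the centralizer of a normal subgroup `V` of order `p ^ 2` meets every subgroup
`X` in a subgroup of index at most `p`. -/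
theorem card_le_mul_card_inf_centralizer_sq [hp : Fact p.Prime] (hP : IsPGroup p P)
    (V : Subgroup P) [hVn : V.Normal] (hV : Nat.card V = p ^ 2) (X : Subgroup P) :
    Nat.card X ≤ p * Nat.card (X ⊓ Subgroup.centralizer (V : Set P) : Subgroup P) := by
  classical
  have hpp : p.Prime := hp.out
  by_cases hVc : V ≤ Subgroup.center P
  · have h1 : X ⊓ Subgroup.centralizer (V : Set P) = X := by
      apply inf_of_le_left
      intro x _
      rw [Subgroup.mem_centralizer_iff]
      intro v hv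
      exact ((Subgroup.mem_center_iff.mp (hVc hv)) x).symm
    rw [h1]
    exact Nat.le_mul_of_pos_left _ hpp.pos
  · obtain ⟨e, heV, heZ⟩ := SetLike.not_le_iff_exists.mp hVc
    set Z₁ : Subgroup P := V ⊓ Subgroup.center P with hZ₁
    have hZ₁c : Z₁ ≤ Subgroup.center P := inf_le_right
    have hVZ2 := Cfsg.Agent.S1453.le_upperCentralSeries_two_of_normal_card_sq hP V hV
    have hcomm : ∀ x : P, x * e * x⁻¹ * e⁻¹ ∈ Z₁ := by
      intro x
      refine ⟨V.mul_mem (hVn.conj_mem e heV x) (V.inv_mem heV), ?_⟩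
      have h1 := (Cfsg.Agent.S1453.mem_upperCentralSeries_two_iff e).mp (hVZ2 heV) x
      have h2 := Subgroup.inv_mem _ h1
      have e1 : (e * x * e⁻¹ * x⁻¹)⁻¹ = x * e * x⁻¹ * e⁻¹ := by group
      rwa [e1] at h2
    have hV1 : V ≠ ⊥ := by
      intro h
      rw [h, Subgroup.card_bot] at hV
      have : 1 < p ^ 2 := Nat.one_lt_pow (by norm_num) hpp.one_lt
      omega
    obtain ⟨z, hzV, hz1, hzc⟩ := Cfsg.Agent.Helper25.exists_mem_center_of_normal_ne_bot hP V hV1
    have hZ₁ne : Z₁ ≠ ⊥ := by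
      intro h
      have : z ∈ Z₁ := ⟨hzV, hzc⟩
      rw [h, Subgroup.mem_bot] at this
      exact hz1 this
    have hZ₁lt : Z₁ < V := by
      refine lt_of_le_of_ne inf_le_left ?_
      intro h
      apply heZ
      have : e ∈ Z₁ := by rw [h]; exact heV
      exact this.2
    have hZ₁card : Nat.card Z₁ = p := by
      have hdvd : Nat.card Z₁ ∣ p ^ 2 := by rw [← hV]; exact Subgroup.card_dvd_of_le inf_le_left
      obtain ⟨j, hj2, hj⟩ := (Nat.dvd_prime_pow hpp).mp hdvd
      have hj0 : j ≠ 0 := by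
        rintro rfl
        rw [pow_zero] at hj
        exact hZ₁ne ((Subgroup.card_eq_one).mp hj)
      have hjne2 : j ≠ 2 := by
        rintro rfl
        have := Subgroup.eq_of_le_of_card_ge hZ₁lt.le (by rw [hj, hV])
        exact hZ₁lt.ne this
      have : j = 1 := by omega
      rw [hj, this, pow_one]
    have h1 := Cfsg.Agent.S1453.card_le_card_mul_card_inf_centralizer X Z₁ e hZ₁c
      (fun x _ => hcomm x)
    rw [hZ₁card] at h1
    refine h1.trans (Nat.mul_le_mul_left p (Subgroup.card_le_of_le ?_))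
    -- `C_X(e) ≤ C_X(V)` since `V = Z₁ ⟨e⟩`
    have hVeq : V ≤ Z₁ ⊔ Subgroup.zpowers e := by
      have hle : Z₁ ⊔ Subgroup.zpowers e ≤ V :=
        sup_le inf_le_left (Subgroup.zpowers_le.mpr heV)
      have hlt : Z₁ < Z₁ ⊔ Subgroup.zpowers e := by
        refine lt_of_le_of_ne le_sup_left ?_
        intro h
        apply heZ
        have : e ∈ Z₁ := by
          rw [h]
          exact (le_sup_right : Subgroup.zpowers e ≤ Z₁ ⊔ Subgroup.zpowers e)
            (Subgroup.mem_zpowers e)
        exact this.2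
      have hdvd : Nat.card ↥(Z₁ ⊔ Subgroup.zpowers e) ∣ p ^ 2 := by
        rw [← hV]; exact Subgroup.card_dvd_of_le hle
      obtain ⟨j, hj2, hj⟩ := (Nat.dvd_prime_pow hpp).mp hdvd
      have hlt' : Nat.card Z₁ < Nat.card ↥(Z₁ ⊔ Subgroup.zpowers e) :=
        Cfsg.Agent.S1453.card_lt_card_of_lt' hlt
      rw [hZ₁card, hj] at hlt'
      have hj1 : 1 < j := by
        by_contra hcon
        have hj' : j ≤ 1 := by omega
        have := Nat.pow_le_pow_right hpp.pos hj'
        rw [pow_one] at this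
        omega
      have hj2' : j = 2 := by omega
      have hcard : Nat.card V ≤ Nat.card ↥(Z₁ ⊔ Subgroup.zpowers e) := by
        rw [hj, hj2', hV]
      exact (Subgroup.eq_of_le_of_card_ge hle hcard).ge
    intro y hy
    refine ⟨hy.1, ?_⟩
    have hye : y * e = e * y := by
      have := Subgroup.mem_centralizer_singleton_iff.mp hy.2
      exact this
    have h2 : Z₁ ⊔ Subgroup.zpowers e ≤ Subgroup.centralizer ({y} : Set P) := by
      apply sup_le
      · intro w hw
        rw [Subgroup.mem_centralizer_singleton_iff]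
        exact ((Subgroup.mem_center_iff.mp (hZ₁c hw)) y).symm
      · rw [Subgroup.zpowers_le, Subgroup.mem_centralizer_singleton_iff]
        exact hye.symm
    refine Subgroup.mem_centralizer_iff.mpr ?_
    intro v hv
    have := Subgroup.mem_centralizer_singleton_iff.mp (h2 (hVeq hv))
    exact this

end CentSq

section GLevel

variable {G : Type*} [Group G] [Finite G] {p : ℕ}

/-- A subgroup of exponent `p` is a `p`-group. -/
theorem isPGroup_of_exp [hp : Fact p.Prime] {E : Subgroup G} (hEe : ∀ a ∈ E, a ^ p = 1) :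
    IsPGroup p E := by
  intro x
  refine ⟨1, ?_⟩
  rw [pow_one]
  apply Subtype.ext
  simpa using hEe x x.2

/-- A subgroup of exponent `p` with more than `p ^ n` elements has at least `p ^ (n + 1)` elements. -/
theorem pow_succ_le_card_of_lt [hp : Fact p.Prime] {E : Subgroup G} (hEe : ∀ a ∈ E, a ^ p = 1) {n : ℕ}
    (h : p ^ n < Nat.card E) : p ^ (n + 1) ≤ Nat.card E := by
  obtain ⟨k, hk⟩ := (isPGroup_of_exp hEe).exists_card_eq
  rw [hk] at h ⊢
  have : n < k := (Nat.pow_lt_pow_iff_right hp.out.one_lt).mp h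
  exact Nat.pow_le_pow_right hp.out.pos this

/-- A subgroup containing a subgroup of exponent `p` with more than `p` elements is not cyclic. -/
theorem not_isCyclic_of_exp_le [hp : Fact p.Prime] {E X : Subgroup G} (hEX : E ≤ X)
    (hEe : ∀ a ∈ E, a ^ p = 1) (hcard : p < Nat.card E) : ¬ IsCyclic X := by
  intro hX
  haveI : IsCyclic E :=
    isCyclic_of_injective (Subgroup.inclusion hEX) (Subgroup.inclusion_injective hEX)
  obtain ⟨g, hg⟩ := IsCyclic.exists_generator (α := E)
  have h1 : orderOf g = Nat.card E := orderOf_eq_card_of_forall_mem_zpowers hg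
  have h2 : orderOf g ∣ p := by
    apply orderOf_dvd_of_pow_eq_one
    apply Subtype.ext
    simpa using hEe g g.2
  have h3 := Nat.le_of_dvd hp.out.pos h2
  omega

/-- A subgroup containing an elementary abelian subgroup with more than `p` elements has rank `≥ 2`. -/
theorem not_rankLE_one_of_elemAb [hp : Fact p.Prime] {E X : Subgroup G} (hEX : E ≤ X)
    (hEc : ∀ a ∈ E, ∀ b ∈ E, a * b = b * a) (hEe : ∀ a ∈ E, a ^ p = 1) (hcard : p < Nat.card E) :
    ¬ Cfsg.RankLE 1 ↥X := by
  intro h
  have h1 := h p hp.out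
  have h2 : ¬ Cfsg.PRankLE p 1 ↥X := by
    rw [Cfsg.Agent.Helper21.not_prankLE_iff]
    exact ⟨E, hEX, hEc, hEe, by rwa [pow_one]⟩
  exact h2 h1

/-- For odd `p`, a noncyclic `p`-subgroup `P` of `G` has a normal elementary abelian subgroup `V` of
order `p ^ 2`, and `C(V)` meets every subgroup of `P` in a subgroup of index at most `p`. -/
theorem exists_normal_sq [hp : Fact p.Prime] (hp2 : p ≠ 2) {P : Subgroup G} (hP : IsPGroup p P)
    (hPnc : ¬ IsCyclic P) :
    ∃ V : Subgroup G, V ≤ P ∧ P ≤ Subgroup.normalizer (V : Set G) ∧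
      (∀ a ∈ V, ∀ b ∈ V, a * b = b * a) ∧ (∀ a ∈ V, a ^ p = 1) ∧ Nat.card V = p ^ 2 ∧
      ∀ X : Subgroup G, X ≤ P →
        Nat.card X ≤ p * Nat.card (X ⊓ Subgroup.centralizer (V : Set G) : Subgroup G) := by
  have hTop : ¬ IsCyclic (⊤ : Subgroup P) := by
    intro h
    apply hPnc
    exact isCyclic_of_surjective (Subgroup.topEquiv : (⊤ : Subgroup P) ≃* P)
      (Subgroup.topEquiv : (⊤ : Subgroup P) ≃* P).surjective
  obtain ⟨A, -, hAn, hAe, hAc⟩ :=
    Cfsg.Agent.Helper52.exists_normal_elementaryAbelian_sq hp2 hP (⊤ : Subgroup P) hTop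
  refine ⟨A.map P.subtype, Subgroup.map_subtype_le _, ?_, ?_, ?_, ?_, ?_⟩
  · intro x hx
    apply Subgroup.mem_normalizer_fintype
    rintro _ ⟨a, ha, rfl⟩
    exact ⟨⟨x, hx⟩ * a * ⟨x, hx⟩⁻¹, hAn.conj_mem a ha _, rfl⟩
  · rintro _ ⟨a, ha, rfl⟩ _ ⟨b, hb, rfl⟩
    have := Cfsg.Agent.Helper52.comm_of_mem hAe.1 ha hb
    rw [← map_mul, ← map_mul, this]
  · rintro _ ⟨a, ha, rfl⟩
    rw [← map_pow, hAe.2 a ha, map_one]
  · rw [Subgroup.card_map_of_injective P.subtype_injective]
    exact hAc
  · intro X hXP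
    have h1 := card_le_mul_card_inf_centralizer_sq hP A hAc (X.subgroupOf P)
    rw [Nat.card_congr (Subgroup.subgroupOfEquivOfLe hXP).toEquiv] at h1
    refine h1.trans (Nat.mul_le_mul_left p ?_)
    rw [← Subgroup.card_map_of_injective (K := X.subgroupOf P ⊓ Subgroup.centralizer (A : Set P))
      P.subtype_injective]
    apply Subgroup.card_le_of_le
    rintro _ ⟨y, ⟨hyX, hyC⟩, rfl⟩
    refine ⟨hyX, ?_⟩
    have hyC' : y ∈ Subgroup.centralizer (A : Set P) := hyC
    show P.subtype y ∈ Subgroup.centralizer ((A.map P.subtype : Subgroup G) : Set G)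
    rw [Subgroup.mem_centralizer_iff]
    rintro _ ⟨a, ha, rfl⟩
    have := (Subgroup.mem_centralizer_iff.mp hyC') a ha
    rw [← map_mul, ← map_mul, this]

/-- For odd `p`, a noncyclic `p`-subgroup has rank at least `2`. -/
theorem not_rankLE_one_of_not_isCyclic [hp : Fact p.Prime] (hp2 : p ≠ 2) {B : Subgroup G}
    (hB : IsPGroup p B) (hBnc : ¬ IsCyclic B) : ¬ Cfsg.RankLE 1 ↥B := by
  obtain ⟨V, hVB, -, hVc, hVe, hVcard, -⟩ := exists_normal_sq hp2 hB hBnc
  refine not_rankLE_one_of_elemAb hVB hVc hVe ?_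
  rw [hVcard]
  have := hp.out.one_lt
  nlinarith

end GLevel

end Cfsg.Agent.Helper54.BGU
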