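import Cfsg.Agent.S1395
import Cfsg.Agent.S1396
import Cfsg.Agent.Helper31.BGTrans2
import Cfsg.Agent.Helper31.BGTrans3

/-!
# Bender–Glauberman 9.5, step (1'): normalizers of `p`-overgroups of `A`

`G` is a minimal simple group of odd order, `P` a Sylow `p`-subgroup, `A ∈ SCN_3(P)`.  If `M`
contains `C_G(A)` and the normalizer of some maximal `A`-invariant `q`-subgroup (`q ≠ p`), then `M`
contains `N_G(R)` for every `p`-subgroup `R` in which `A` is normal; in particular `P ≤ M`.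
-/

set_option autoImplicit false

namespace Cfsg.Agent.Helper54.BG95

open Cfsg

variable {G : Type*} [Group G] [Finite G] {p : ℕ}

theorem not_isPGroup_top [hp : Fact p.Prime] (hG : IsMinSimpleOddOrder G) (R : Subgroup G)
    (hR : IsPGroup p R) : R ≠ ⊤ := by
  intro h
  have hs : IsSimpleGroup G := hG.2.1
  have hsolv : Group.IsSolvable G := by
    haveI : Group.IsNilpotent G := by
      have hPG : IsPGroup p G := by
        intro g
        obtain ⟨j, hj⟩ := hR ⟨g, h ▸ Subgroup.mem_top g⟩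
        exact ⟨j, by simpa using congrArg Subtype.val hj⟩
      exact hPG.isNilpotent
    infer_instance
  exact hG.2.2.1 ⟨⟨fun a b => (IsSimpleGroup.comm_iff_isSolvable.mpr hsolv) a b⟩⟩

/-- **BG 9.5, step (1').** -/
theorem normalizer_le_of_maxInv [hp : Fact p.Prime] (hG : IsMinSimpleOddOrder G) (P : Sylow p G)
    (A : Subgroup G) (hSCN : IsSCN (P : Subgroup G) A) (hA3 : ¬ PRankLE p 2 ↥A)
    (M : Subgroup G) (hCM : Subgroup.centralizer (A : Set G) ≤ M)
    (h1 : ∃ q : ℕ, q.Prime ∧ q ≠ p ∧ ∃ Q ∈ maxInvSubgroups ⊤ A {q},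
      Q ≠ ⊥ ∧ Subgroup.normalizer (Q : Set G) ≤ M)
    (R : Subgroup G) (hRp : IsPGroup p R) (hAR : A ≤ R)
    (hRA : R ≤ Subgroup.normalizer (A : Set G)) :
    Subgroup.normalizer (R : Set G) ≤ M := by
  have hpp : p.Prime := hp.out
  obtain ⟨hAP, hPA, hPC⟩ := hSCN
  have hAp : IsPGroup p A := P.2.to_le hAP
  have hAcomm : A ≤ Subgroup.centralizer (A : Set G) := by
    intro a ha
    have h1 : a ∈ (P : Subgroup G) ⊓ Subgroup.centralizer (A : Set G) := by rw [hPC]; exact ha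
    exact h1.2
  have hAc : IsMulCommutative A := by
    refine ⟨⟨fun a b => ?_⟩⟩
    apply Subtype.ext
    have := (Subgroup.mem_centralizer_iff.mp (hAcomm b.2)) a a.2
    simpa using this
  have hA1 : ¬ PRankLE p 1 ↥A := by
    intro h
    apply hA3
    intro B hB hBe
    exact (h B hB hBe).trans (Nat.pow_le_pow_right hpp.pos (by norm_num))
  have hAbot : A ≠ ⊥ := by
    rintro rfl
    apply hA3
    intro B _ _
    have h1 : Nat.card B ≤ Nat.card (⊥ : Subgroup G) := Subgroup.card_le_card_group B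
    rw [Subgroup.card_bot] at h1
    exact h1.trans (Nat.one_le_pow _ _ hpp.pos)
  obtain ⟨k, hk⟩ := IsPGroup.iff_card.mp hAp
  have hk0 : k ≠ 0 := by
    rintro rfl
    rw [pow_zero] at hk
    exact hAbot ((Subgroup.card_eq_one).mp hk)
  have hpG : p ∣ Nat.card G := by
    have h1 : p ∣ Nat.card A := by rw [hk]; exact dvd_pow_self p hk0
    exact h1.trans (Subgroup.card_subgroup_dvd_card A)
  have hTH : TransitivityHypothesis A :=
    Cfsg.Agent.S1396.result hG p hpG A hAp hAc (Or.inr ⟨P, ⟨hAP, hPA, hPC⟩, hA1⟩)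
  have hAeq : A ⊓ Subgroup.centralizer (A : Set G) = A := inf_of_le_left hAcomm
  have hZ : ¬ RankLE 2 ↥(A ⊓ Subgroup.centralizer (A : Set G)) := by
    rw [hAeq]
    intro h
    exact hA3 (h p hpp)
  obtain ⟨q, hq, hqp, Q, hQ, -, hNQ⟩ := h1
  have hqA : ¬ q ∣ Nat.card A := by
    rw [hk]
    intro hd
    exact hqp ((Nat.prime_dvd_prime_iff_eq hq hpp).mp (hq.dvd_of_dvd_pow hd))
  have htr : ∀ Q₁ ∈ maxInvSubgroups ⊤ A {q}, ∀ Q₂ ∈ maxInvSubgroups ⊤ A {q},
      ∃ k ∈ piCoreOf (primesNotDvd (Nat.card A)) (Subgroup.centralizer (A : Set G)),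
        Q₂ = Q₁.map (MulAut.conj k).toMonoidHom := by
    intro Q₁ h₁ Q₂ h₂
    obtain ⟨c, hc, hce⟩ := Cfsg.Agent.Helper31.bg_transitivity_rank3 hG hTH hZ hq hqA h₁ h₂
    exact ⟨c, hc, hce.symm⟩
  have hRtop : R ≠ ⊤ := not_isPGroup_top hG R hRp
  have hRπ : ∀ r : ℕ, r.Prime → r ∣ Nat.card R → r ∣ Nat.card A := by
    intro r hr hd
    obtain ⟨j, hj⟩ := IsPGroup.iff_card.mp hRp
    rw [hj] at hd
    have : r = p := (Nat.prime_dvd_prime_iff_eq hr hpp).mp (hr.dvd_of_dvd_pow hd)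
    rw [this, hk]
    exact dvd_pow_self p hk0
  have hsn : (A.subgroupOf R).IsSubnormal :=
    ((Subgroup.normal_subgroupOf_iff_le_normalizer hAR).mpr hRA).isSubnormal
  obtain ⟨-, -, hc, hd⟩ := Cfsg.Agent.S1395.result hG A hTH q hq hqA R hRtop hRπ hAR hsn htr
  obtain ⟨Q', hQ', -⟩ := Cfsg.Agent.Helper31.exists_maxInv_ge (A := R) (π := {q})
    (Cfsg.Agent.Helper31.mem_invSubgroups_of_isPGroup hq
      (IsPGroup.of_bot : IsPGroup q (⊥ : Subgroup G)) (Cfsg.Agent.Helper31.le_normalizer_bot R))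
  obtain ⟨c, hcC, hce⟩ := htr Q hQ Q' (hc hQ')
  have hcM : c ∈ M := hCM (Cfsg.Agent.Helper31.piCoreOf_le _ _ hcC)
  have hNQ' : Subgroup.normalizer (Q' : Set G) ≤ M := by
    rw [hce, ← Subgroup.map_equiv_normalizer_eq]
    rintro _ ⟨x, hx, rfl⟩
    show c * x * c⁻¹ ∈ M
    exact M.mul_mem (M.mul_mem hcM (hNQ hx)) (M.inv_mem hcM)
  rw [(hd Q' hQ').2]
  refine sup_le ?_ (inf_le_right.trans hNQ')
  exact (Cfsg.Agent.Helper31.piCoreOf_le _ _).trans
    ((Subgroup.centralizer_le hAR).trans hCM)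

/-- **BG 9.5, step (1'), Sylow part**: `P ≤ M`. -/
theorem sylow_le_of_maxInv [hp : Fact p.Prime] (hG : IsMinSimpleOddOrder G) (P : Sylow p G)
    (A : Subgroup G) (hSCN : IsSCN (P : Subgroup G) A) (hA3 : ¬ PRankLE p 2 ↥A)
    (M : Subgroup G) (hCM : Subgroup.centralizer (A : Set G) ≤ M)
    (h1 : ∃ q : ℕ, q.Prime ∧ q ≠ p ∧ ∃ Q ∈ maxInvSubgroups ⊤ A {q},
      Q ≠ ⊥ ∧ Subgroup.normalizer (Q : Set G) ≤ M) :
    (P : Subgroup G) ≤ M := by
  have hAP : A ≤ (P : Subgroup G) := hSCN.1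
  have hPA : (P : Subgroup G) ≤ Subgroup.normalizer (A : Set G) := hSCN.2.1
  have hAcomm : A ≤ Subgroup.centralizer (A : Set G) := by
    intro a ha
    have h1 : a ∈ (P : Subgroup G) ⊓ Subgroup.centralizer (A : Set G) := by
      rw [hSCN.2.2]; exact ha
    exact h1.2
  set R0 : Subgroup G := (P : Subgroup G) ⊓ M with hR0
  have hAR0 : A ≤ R0 := le_inf hAP (hAcomm.trans hCM)
  have hR0p : IsPGroup p R0 := P.2.to_le inf_le_left
  have hN : Subgroup.normalizer (R0 : Set G) ≤ M :=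
    normalizer_le_of_maxInv hG P A hSCN hA3 M hCM h1 R0 hR0p hAR0 (inf_le_left.trans hPA)
  by_contra hPM
  have hlt : R0 < (P : Subgroup G) := by
    refine lt_of_le_of_ne inf_le_left ?_
    intro h
    apply hPM
    rw [← h]
    exact inf_le_right
  have h2 := Cfsg.Agent.Helper31.bgt_lt_inf_normalizer_of_lt P.2 hlt
  have h3 : (P : Subgroup G) ⊓ Subgroup.normalizer (R0 : Set G) ≤ R0 :=
    le_inf inf_le_left (inf_le_right.trans hN)
  exact absurd (lt_of_lt_of_le h2 h3) (lt_irrefl _)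

end Cfsg.Agent.Helper54.BG95
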