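import Cfsg.Agent.Helper4.RankTwoSolv2

/-!
# Action form of the rank-two automorphism lemma (for Bender–Glauberman 9.5, step (3) case a)

`T` a `t`-group (`t` odd) of rank at most two, `N ≤ N_G(T)` solvable of odd order.  Then the derived
subgroup of `N` acts on `T` as a `t`-group: every `c ∈ [N, N]` has a `t`-power centralizing `T`
(no faithfulness assumption).  Consequently every `t'`-subgroup of `[N, N]` centralizes `T`.
-/

set_option autoImplicit false

namespace Cfsg.Agent.Helper54.BG95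

open Cfsg
open scoped commutatorElement

theorem exists_pow_mem_centralizer_of_normalizes {G : Type*} [Group G] [Finite G] (t : ℕ)
    [ht : Fact t.Prime] (ht2 : t ≠ 2) (T N : Subgroup G) (hT : IsPGroup t T)
    (hr : PRankLE t 2 T) (hN : N ≤ Subgroup.normalizer (T : Set G))
    (hNs : Group.IsSolvable N) (hNodd : Odd (Nat.card N)) :
    ∀ c ∈ ⁅N, N⁆, ∃ i : ℕ, c ^ t ^ i ∈ Subgroup.centralizer (T : Set G) := by
  classical
  have htp : t.Prime := ht.out
  obtain ⟨D, hDR, hDinv, hDexp, hDcl, hDfaith⟩ :=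
    Cfsg.Agent.Helper24.exists_small_exponent_crit (p := t) T hT
  have hND : N ≤ Subgroup.normalizer (D : Set G) := by
    intro a ha
    rw [Subgroup.mem_normalizer_iff]
    intro h
    constructor
    · intro hh
      exact hDinv a (hN ha) h hh
    · intro hh
      have := hDinv a⁻¹ (Subgroup.inv_mem _ (hN ha)) _ hh
      simpa [mul_assoc] using this
  set ψ : ↥N →* MulAut ↥D := (D.normalizerMonoidHom).comp (Subgroup.inclusion hND) with hψ
  have hψ_apply : ∀ (a : N) (x : D), ((ψ a x : D) : G) = a * x * a⁻¹ := by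
    intro a x
    rfl
  have hexp : ∀ x : D, x ^ t = 1 := by
    intro x
    apply Subtype.ext
    rcases hDexp x x.2 with h | ⟨h, -⟩
    · simpa using h
    · exact absurd h ht2
  have hcen : ∀ x y : D, ⁅x, y⁆ ∈ Subgroup.center D := by
    intro x y
    rw [Subgroup.mem_center_iff]
    intro w
    apply Subtype.ext
    have := (hDcl x x.2 y (hDR y.2)).2 w w.2
    show (w : G) * ⁅(x : G), (y : G)⁆ = ⁅(x : G), (y : G)⁆ * w
    exact this.symm
  have hrkD : PRankLE t 2 D := by
    intro B hB hBexp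
    have hinj : Function.Injective (Subgroup.inclusion hDR) := Subgroup.inclusion_injective hDR
    have hcard : Nat.card (B.map (Subgroup.inclusion hDR)) = Nat.card B :=
      Nat.card_congr (B.equivMapOfInjective _ hinj).symm.toEquiv
    rw [← hcard]
    apply hr
    · refine ⟨⟨?_⟩⟩
      rintro ⟨_, ⟨a, ha, rfl⟩⟩ ⟨_, ⟨b, hb, rfl⟩⟩
      apply Subtype.ext
      have := hB.is_comm.comm ⟨a, ha⟩ ⟨b, hb⟩
      have h2 := congrArg (fun v : B => Subgroup.inclusion hDR (v : D)) this
      simpa using h2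
    · rintro _ ⟨a, ha, rfl⟩
      rw [← map_pow, hBexp a ha, map_one]
  set C : Subgroup ↥N := (Subgroup.centralizer (T : Set G)).subgroupOf N with hC
  haveI hCn : C.Normal := by
    refine ⟨fun c hc n => ?_⟩
    rw [hC, Subgroup.mem_subgroupOf] at hc ⊢
    rw [Subgroup.mem_centralizer_iff] at hc ⊢
    intro x hx
    have hn : (n : G)⁻¹ * x * ((n : G)⁻¹)⁻¹ ∈ T :=
      (Subgroup.mem_normalizer_iff.mp (Subgroup.inv_mem _ (hN n.2)) x).mp hx
    have h1 := hc _ hn
    simp only [Subgroup.coe_mul, Subgroup.coe_inv, inv_inv] at h1 ⊢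
    calc x * ((n : G) * (c : G) * (n : G)⁻¹)
        = (n : G) * (((n : G)⁻¹ * x * (n : G)) * (c : G)) * (n : G)⁻¹ := by group
      _ = (n : G) * ((c : G) * ((n : G)⁻¹ * x * (n : G))) * (n : G)⁻¹ := by rw [h1]
      _ = (n : G) * (c : G) * (n : G)⁻¹ * x := by group
  have hCψ : ∀ x ∈ C, ψ x = 1 := by
    intro x hx
    rw [hC, Subgroup.mem_subgroupOf, Subgroup.mem_centralizer_iff] at hx
    ext d
    rw [hψ_apply]
    have := hx d (hDR d.2)
    show (x : G) * d * (x : G)⁻¹ = ((1 : MulAut ↥D) d : D)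
    rw [MulAut.one_apply, ← this]
    group
  have hker : ∀ k : ↥N, ψ k = 1 → ∃ i : ℕ, k ^ t ^ i ∈ C := by
    intro k hk
    have hord : orderOf (k : G) ≠ 0 := (orderOf_pos (k : G)).ne'
    obtain ⟨e, m, hm, hem⟩ := Nat.exists_eq_pow_mul_and_not_dvd hord t htp.ne_one
    refine ⟨e, ?_⟩
    rw [hC, Subgroup.mem_subgroupOf]
    set g : G := (k : G) ^ t ^ e with hg
    have hgN : g ∈ Subgroup.normalizer (T : Set G) := Subgroup.pow_mem _ (hN k.2) _
    have hgo : (orderOf g).Coprime t := by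
      have h1 : orderOf g = orderOf (k : G) / t ^ e :=
        orderOf_pow_of_dvd (pow_pos htp.pos e).ne' ⟨m, hem⟩
      rw [h1, hem, Nat.mul_div_cancel_left _ (pow_pos htp.pos e)]
      exact (Nat.Coprime.symm (htp.coprime_iff_not_dvd.mpr hm))
    have hkcent : ∀ x ∈ D, (k : G) * x = x * k := by
      intro x hx
      have h1 : ψ k ⟨x, hx⟩ = ⟨x, hx⟩ := by rw [hk]; rfl
      have h2 : (k : G) * x * (k : G)⁻¹ = x := by
        have := congrArg Subtype.val h1
        rwa [hψ_apply] at this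
      calc (k : G) * x = ((k : G) * x * (k : G)⁻¹) * k := by group
        _ = x * k := by rw [h2]
    have hgcent : ∀ x ∈ D, g * x = x * g := by
      intro x hx
      have hc : Commute (k : G) x := hkcent x hx
      exact (hc.pow_left (t ^ e)).eq
    have hR' := hDfaith g hgN hgo hgcent
    show ((k ^ t ^ e : ↥N) : G) ∈ Subgroup.centralizer (T : Set G)
    rw [Subgroup.coe_pow, Subgroup.mem_centralizer_iff]
    intro x hx
    exact (hR' x hx).symm
  have hmain := Cfsg.Agent.Helper4.exists_pow_mem_of_action ht2 hexp hcen hrkD hNodd hNs ψ C hCψ hker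
  intro c hc
  have hc' : c ∈ (commutator ↥N).map N.subtype := by
    rw [Subgroup.map_subtype_commutator]; exact hc
  obtain ⟨c₀, hc₀, rfl⟩ := Subgroup.mem_map.mp hc'
  obtain ⟨i, hi⟩ := hmain c₀ hc₀
  refine ⟨i, ?_⟩
  rw [hC, Subgroup.mem_subgroupOf] at hi
  simpa using hi

/-- Every `t'`-subgroup of `[N, N]` centralizes the rank-two `t`-group `T` normalized by the
solvable odd-order group `N`. -/
theorem le_centralizer_of_le_commutator {G : Type*} [Group G] [Finite G] (t : ℕ)
    [ht : Fact t.Prime] (ht2 : t ≠ 2) (T N Z : Subgroup G) (hT : IsPGroup t T)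
    (hr : PRankLE t 2 T) (hN : N ≤ Subgroup.normalizer (T : Set G))
    (hNs : Group.IsSolvable N) (hNodd : Odd (Nat.card N))
    (hZ : Z ≤ ⁅N, N⁆) (hZt : ∀ z ∈ Z, (orderOf z).Coprime t) :
    Z ≤ Subgroup.centralizer (T : Set G) := by
  intro z hz
  obtain ⟨i, hi⟩ := exists_pow_mem_centralizer_of_normalizes t ht2 T N hT hr hN hNs hNodd z (hZ hz)
  have hcop : (t ^ i).Coprime (orderOf z) := Nat.Coprime.pow_left i (hZt z hz).symm
  obtain ⟨m, hm⟩ := exists_pow_eq_self_of_coprime hcop
  rw [← hm]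
  exact Subgroup.pow_mem _ hi m

end Cfsg.Agent.Helper54.BG95
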