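import Cfsg.Agent.S1399
import Cfsg.Agent.S1401
import Cfsg.Agent.Helper54.BG95C
import Cfsg.Agent.Helper31.CoprimeHypRel
import Cfsg.Agent.Helper63.PrimePow
import Cfsg.Agent.Helper29.BGUniq96

/-!
# Bender–Glauberman 9.5, step (3), case a

`G` minimal simple of odd order, `A ∈ SCN_3(P)` not a uniqueness subgroup, `N_G(A)` contained in
every maximal subgroup containing `C_G(A)`.  If `L` is a maximal subgroup containing `C_G(A)` whose
Fitting subgroup has rank at least three, and `H` is a maximal subgroup containing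
`C_G([A, N_G(A)])`, then `H = L`.
-/

set_option autoImplicit false
set_option linter.style.haveILetI false
set_option linter.unusedVariables false

namespace Cfsg.Agent.Helper54.BG95

open Cfsg
open scoped commutatorElement

variable {G : Type*} [Group G] [Finite G] {p : ℕ}

theorem center_eq_bot' (hG : IsMinSimpleOddOrder G) : Subgroup.center G = ⊥ := by
  haveI : IsSimpleGroup G := hG.2.1
  rcases (inferInstance : (Subgroup.center G).Normal).eq_bot_or_eq_top with h | h
  · exact h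
  · exfalso
    apply hG.2.2.1
    refine ⟨⟨fun x y => ?_⟩⟩
    have hx : x ∈ Subgroup.center G := by rw [h]; trivial
    exact ((Subgroup.mem_center_iff.mp hx) y).symm

theorem centralizer_ne_top' (hG : IsMinSimpleOddOrder G) {A : Subgroup G} (hA : A ≠ ⊥) :
    Subgroup.centralizer (A : Set G) ≠ ⊤ := by
  intro h
  apply hA
  rw [eq_bot_iff, ← center_eq_bot' hG]
  intro a ha
  rw [Subgroup.mem_center_iff]
  intro g
  have hg : g ∈ Subgroup.centralizer (A : Set G) := by rw [h]; trivial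
  exact (Subgroup.mem_centralizer_iff.1 hg a ha).symm

/-- **BG 9.5, step (3), case a.** -/
theorem case_a [hp : Fact p.Prime] (hG : IsMinSimpleOddOrder G) (P : Sylow p G)
    (A : Subgroup G) (hSCN : IsSCN (P : Subgroup G) A) (hA3 : ¬ PRankLE p 2 ↥A)
    (hnotU : ¬ InUniqueMaximal A)
    (hN : ∀ M : Subgroup G, IsCoatom M → Subgroup.centralizer (A : Set G) ≤ M →
      Subgroup.normalizer (A : Set G) ≤ M)
    (L : Subgroup G) (hL : IsCoatom L) (hCL : Subgroup.centralizer (A : Set G) ≤ L)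
    (hrk : ¬ RankLE 2 ↥(fittingOf L))
    (H : Subgroup G) (hH : IsCoatom H)
    (hZH : Subgroup.centralizer ((⁅A, Subgroup.normalizer (A : Set G)⁆ : Subgroup G) : Set G) ≤ H) :
    H = L := by
  classical
  have hpp : p.Prime := hp.out
  have hs : IsSimpleGroup G := hG.2.1
  obtain ⟨hAP, hPA, hPC⟩ := hSCN
  have hAp : IsPGroup p A := P.2.to_le hAP
  have hAcomm : A ≤ Subgroup.centralizer (A : Set G) := by
    intro a ha
    have h1 : a ∈ (P : Subgroup G) ⊓ Subgroup.centralizer (A : Set G) := by rw [hPC]; exact ha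
    exact h1.2
  have hAc : IsMulCommutative A := by
    refine ⟨⟨fun a b => ?_⟩⟩
    apply Subtype.ext
    have := (Subgroup.mem_centralizer_iff.mp (hAcomm b.2)) a a.2
    simpa using this
  have hAtop : A ≠ ⊤ := by
    intro h
    have hsolv : Group.IsSolvable G := by
      haveI : Group.IsNilpotent G := by
        have hPG : IsPGroup p G := by
          intro g
          obtain ⟨j, hj⟩ := hAp ⟨g, h ▸ Subgroup.mem_top g⟩
          exact ⟨j, by simpa using congrArg Subtype.val hj⟩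
        exact hPG.isNilpotent
      infer_instance
    exact hG.2.2.1 ⟨⟨fun a b => (IsSimpleGroup.comm_iff_isSolvable.mpr hsolv) a b⟩⟩
  -- the uniqueness prime `t`
  unfold RankLE at hrk
  push Not at hrk
  obtain ⟨t, htp, hrt⟩ := hrk
  haveI : Fact t.Prime := ⟨htp⟩
  have htp' : t ≠ p := by
    rintro rfl
    exact hnotU (Cfsg.Agent.S1401.result hG L hL t hrt A hAp hAc hA3)
  have hFL : fittingOf L ≤ L := Subgroup.map_subtype_le _
  have hrt' := hrt
  rw [Cfsg.Agent.Helper21.not_prankLE_iff] at hrt'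
  obtain ⟨E₁, hE₁F, hE₁c, hE₁e, hE₁card⟩ := hrt'
  have hE₁t : IsPGroup t E₁ := Cfsg.Agent.Helper54.BGU.isPGroup_of_exp hE₁e
  have hE₁ab : IsMulCommutative E₁ := ⟨⟨fun a b => Subtype.ext (hE₁c a a.2 b b.2)⟩⟩
  have hE₁3 : ¬ PRankLE t 2 ↥E₁ := by
    rw [Cfsg.Agent.Helper21.not_prankLE_iff]
    exact ⟨E₁, le_rfl, hE₁c, hE₁e, hE₁card⟩
  have hE₁U : InUniqueMaximal E₁ := Cfsg.Agent.S1401.result hG L hL t hrt E₁ hE₁t hE₁ab hE₁3
  have hE₁L : E₁ ≤ L := hE₁F.trans hFL
  have huniqL : ∀ M' : Subgroup G, IsCoatom M' → E₁ ≤ M' → M' = L := by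
    intro M' hM' hE₁M'
    obtain ⟨M₀, -, hu⟩ := hE₁U
    rw [hu M' ⟨hM', hE₁M'⟩, hu L ⟨hL, hE₁L⟩]
  -- `t` is odd
  have ht2 : t ≠ 2 := by
    rintro rfl
    have h2 : 2 ∣ Nat.card E₁ := by
      obtain ⟨k, hk⟩ := hE₁t.exists_card_eq
      have hk0 : k ≠ 0 := by
        rintro rfl
        rw [pow_zero] at hk
        omega
      rw [hk]
      exact dvd_pow_self 2 hk0
    have h3 : 2 ∣ Nat.card G := h2.trans (Subgroup.card_subgroup_dvd_card E₁)
    have hodd : Odd (Nat.card G) := hG.1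
    rw [Nat.odd_iff] at hodd
    omega
  -- `T₀ = O_t(L)`
  set T₀ : Subgroup G := (pCore t ↥L).map L.subtype with hT₀
  have hT₀t : IsPGroup t T₀ := (Cfsg.Agent.Lib.isPGroup_pCore t).map L.subtype
  have hT₀L : T₀ ≤ L := Subgroup.map_subtype_le _
  have hLT₀ : L ≤ Subgroup.normalizer (T₀ : Set G) := by
    intro n hn
    have hnorm : (pCore t ↥L).Normal := inferInstance
    have h1 : (⟨n, hn⟩ : ↥L) ∈ Subgroup.normalizer ((pCore t ↥L : Subgroup ↥L) : Set ↥L) := by
      rw [Subgroup.normalizer_eq_top_iff.mpr hnorm]; trivial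
    exact Cfsg.Agent.Helper54.BGU.coe_mem_normalizer_map h1
  have hE₁T₀ : E₁ ≤ T₀ := by
    intro x hx
    obtain ⟨y, hy, rfl⟩ := Subgroup.mem_map.mp (hE₁F hx)
    refine ⟨y, ?_, rfl⟩
    apply Cfsg.Agent.Helper63.mem_pCore_of_mem_fittingSubgroup (k := 1) hy
    apply Subtype.ext
    have := hE₁e _ hx
    simpa using this
  -- the subgroups `N = N_G(A)` and `Z = [A, N]`
  set N : Subgroup G := Subgroup.normalizer (A : Set G) with hNdef
  set Z : Subgroup G := ⁅A, N⁆ with hZdef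
  have hAN : A ≤ N := Subgroup.le_normalizer
  have hNL : N ≤ L := hN L hL hCL
  have hNtop : N ≠ ⊤ := fun h => hL.1 (top_le_iff.mp (h ▸ hNL))
  have hNs : Group.IsSolvable N := hG.2.2.2 N hNtop
  have hNodd : Odd (Nat.card N) := Odd.of_dvd_nat hG.1 (Subgroup.card_subgroup_dvd_card N)
  have hZNN : Z ≤ ⁅N, N⁆ := Subgroup.commutator_mono hAN le_rfl
  have hZA : Z ≤ A := by
    rw [hZdef, Subgroup.commutator_le]
    intro a ha n hn
    have h1 : n * a⁻¹ * n⁻¹ ∈ A :=
      (Subgroup.mem_normalizer_iff.mp hn a⁻¹).mp (A.inv_mem ha)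
    have h2 : ⁅a, n⁆ = a * (n * a⁻¹ * n⁻¹) := by
      rw [commutatorElement_def]; group
    rw [h2]
    exact A.mul_mem ha h1
  have hZt : ∀ z ∈ Z, (orderOf z).Coprime t := by
    intro z hz
    obtain ⟨j, hj⟩ := (hAp.to_le hZA) ⟨z, hz⟩
    have hj' : z ^ p ^ j = 1 := by simpa using congrArg Subtype.val hj
    have h1 : orderOf z ∣ p ^ j := orderOf_dvd_of_pow_eq_one hj'
    exact Nat.Coprime.coprime_dvd_left h1
      (Nat.Coprime.pow_left j ((Nat.coprime_primes hpp htp).mpr (Ne.symm htp')))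
  -- an elementary abelian subgroup of `A` of order at least `p ^ 3`
  have hA3' := hA3
  rw [Cfsg.Agent.Helper21.not_prankLE_iff] at hA3'
  obtain ⟨E, hEA, hEc, hEe, hEcard⟩ := hA3'
  have hE3 : p ^ 3 ≤ Nat.card E := Cfsg.Agent.Helper54.BGU.pow_succ_le_card_of_lt hEe hEcard
  have hpT₀ : ¬ p ∣ Nat.card T₀ := by
    obtain ⟨j, hj⟩ := hT₀t.exists_card_eq
    rw [hj]
    intro hd
    exact htp' ((Nat.prime_dvd_prime_iff_eq hpp htp).mp (hpp.dvd_of_dvd_pow hd)).symm
  have hET₀ : E ≤ Subgroup.normalizer (T₀ : Set G) :=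
    hEA.trans ((hAcomm.trans hCL).trans hLT₀)
  -- the main claim: `T₀` centralizes `Z`
  have hmain : T₀ ≤ Subgroup.centralizer (Z : Set G) := by
    by_contra hcon
    obtain ⟨F, hFE, hFcard, hFnot⟩ :=
      Cfsg.Agent.Helper31.exists_hyperplane_not_le T₀ E (Subgroup.centralizer (Z : Set G)) hpT₀
        hET₀ hEc hEe (le_trans (Nat.pow_le_pow_right hpp.pos (by norm_num)) hE3) hcon
    apply hFnot
    have hFA : F ≤ A := hFE.trans hEA
    have hFc : ∀ a ∈ F, ∀ b ∈ F, a * b = b * a := fun a ha b hb => hEc a (hFE ha) b (hFE hb)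
    have hFe : ∀ a ∈ F, a ^ p = 1 := fun a ha => hEe a (hFE ha)
    have hFsq : p ^ 2 ≤ Nat.card F := by
      have h1 : p ^ 3 ≤ Nat.card F * p := hFcard ▸ hE3
      have h2 : p ^ 3 = p ^ 2 * p := by ring
      rw [h2] at h1
      exact Nat.le_of_mul_le_mul_right h1 hpp.pos
    have hp_lt_sq : p < p ^ 2 := by
      have := hpp.one_lt
      nlinarith
    have hFr : ¬ RankLE 1 ↥F :=
      Cfsg.Agent.Helper54.BGU.not_rankLE_one_of_elemAb le_rfl hFc hFe (lt_of_lt_of_le hp_lt_sq hFsq)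
    have hFbot : F ≠ ⊥ := by
      rintro rfl
      rw [Subgroup.card_bot] at hFsq
      have := hpp.one_lt
      nlinarith
    have hCAF : Subgroup.centralizer (A : Set G) ≤ Subgroup.centralizer (F : Set G) :=
      Subgroup.centralizer_le hFA
    have hCFtop : Subgroup.centralizer (F : Set G) ≠ ⊤ := centralizer_ne_top' hG hFbot
    -- a maximal subgroup `H_B ≠ L` containing `C_G(F)`
    have hexH : ∃ HB : Subgroup G, IsCoatom HB ∧ Subgroup.centralizer (F : Set G) ≤ HB ∧ HB ≠ L := by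
      by_contra hno
      push Not at hno
      obtain ⟨M', hM', hCM'⟩ := (eq_top_or_exists_le_coatom _).resolve_left hCFtop
      have hM'L : M' = L := hno M' hM' hCM'
      have hCU : InUniqueMaximal (Subgroup.centralizer (F : Set G)) :=
        ⟨L, ⟨hL, hM'L ▸ hCM'⟩, fun M'' hM'' => hno M'' hM''.1 hM''.2⟩
      have hFCC : F ≤ Subgroup.centralizer ((Subgroup.centralizer (F : Set G) : Subgroup G) : Set G) := by
        intro a ha
        rw [Subgroup.mem_centralizer_iff]
        intro x hx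
        exact ((Subgroup.mem_centralizer_iff.mp hx) a ha).symm
      have hFU : InUniqueMaximal F := Cfsg.Agent.S1399.result hG _ F hCU hFCC hFr
      exact hnotU (Cfsg.Agent.Helper29.BGUniq96.inUniqueMaximal_of_le hFU hFA hAtop)
    obtain ⟨HB, hHB, hCFHB, hHBL⟩ := hexH
    have hNHB : N ≤ HB := hN HB hHB (hCAF.trans hCFHB)
    set TB : Subgroup G := T₀ ⊓ HB with hTB
    have hTBt : IsPGroup t TB := hT₀t.to_le inf_le_left
    have hNTB : N ≤ Subgroup.normalizer (TB : Set G) := by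
      intro n hn
      have h1 := hLT₀ (hNL hn)
      have h2 : n ∈ HB := hNHB hn
      rw [Subgroup.mem_normalizer_iff] at h1 ⊢
      intro x
      rw [hTB, Subgroup.mem_inf, Subgroup.mem_inf, ← h1 x]
      constructor
      · rintro ⟨hx1, hx2⟩
        exact ⟨hx1, HB.mul_mem (HB.mul_mem h2 hx2) (HB.inv_mem h2)⟩
      · rintro ⟨hx1, hx2⟩
        refine ⟨hx1, ?_⟩
        have : x = n⁻¹ * (n * x * n⁻¹) * n := by group
        rw [this]
        exact HB.mul_mem (HB.mul_mem (HB.inv_mem h2) hx2) h2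
    have hTBr : PRankLE t 2 ↥TB := by
      by_contra hr3
      rw [Cfsg.Agent.Helper21.not_prankLE_iff] at hr3
      obtain ⟨E₂, hE₂TB, hE₂c, hE₂e, hE₂card⟩ := hr3
      have hE₂t : IsPGroup t E₂ := Cfsg.Agent.Helper54.BGU.isPGroup_of_exp hE₂e
      have hE₂ab : IsMulCommutative E₂ := ⟨⟨fun a b => Subtype.ext (hE₂c a a.2 b b.2)⟩⟩
      have hE₂3 : ¬ PRankLE t 2 ↥E₂ := by
        rw [Cfsg.Agent.Helper21.not_prankLE_iff]
        exact ⟨E₂, le_rfl, hE₂c, hE₂e, hE₂card⟩
      obtain ⟨M₀, -, hu⟩ := Cfsg.Agent.S1401.result hG L hL t hrt E₂ hE₂t hE₂ab hE₂3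
      apply hHBL
      rw [hu HB ⟨hHB, hE₂TB.trans inf_le_right⟩,
        hu L ⟨hL, (hE₂TB.trans inf_le_left).trans hT₀L⟩]
    have hZTB : Z ≤ Subgroup.centralizer (TB : Set G) :=
      le_centralizer_of_le_commutator t ht2 TB N Z hTBt hTBr hNTB hNs hNodd hZNN hZt
    intro x hx
    rw [Subgroup.mem_centralizer_iff]
    intro z hz
    have hxTB : x ∈ TB := ⟨hx.1, hCFHB hx.2⟩
    exact ((Subgroup.mem_centralizer_iff.mp (hZTB hz)) x hxTB).symm
  -- conclusion
  apply huniqL H hH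
  refine (hE₁T₀.trans ?_).trans hZH
  intro x hx
  rw [Subgroup.mem_centralizer_iff]
  intro z hz
  exact ((Subgroup.mem_centralizer_iff.mp (hmain hx)) z hz)

end Cfsg.Agent.Helper54.BG95
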