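import Cfsg.Agent.Helper23.BG95A
import Cfsg.Agent.Helper29.BG95B
import Cfsg.Agent.Helper54.BG95B
import Cfsg.Agent.Helper54.BG95D

/-!
# Bender–Glauberman 9.5: step (2) (Burnside) and the final assembly

`A ∈ SCN_3(P)`, `P` a Sylow `p`-subgroup of the minimal simple group `G` of odd order, lies in a
unique maximal subgroup.  (Reconstruction of the proof by helper48; pieces by helper23, helper29,
helper54.)
-/

set_option autoImplicit false
set_option linter.style.haveILetI false
set_option linter.unusedVariables false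

namespace Cfsg.Agent.Helper54.BG95

open Cfsg
open scoped commutatorElement

variable {G : Type*} [Group G] [Finite G] {p : ℕ}

/-- **BG 9.5, step (2)**: `[A, N_G(A)] ≠ 1` (Burnside's transfer theorem). -/
theorem commutator_normalizer_ne_bot [hp : Fact p.Prime] (hG : IsMinSimpleOddOrder G)
    (P : Sylow p G) (A : Subgroup G) (hSCN : IsSCN (P : Subgroup G) A) (hAbot : A ≠ ⊥) :
    (⁅A, Subgroup.normalizer (A : Set G)⁆ : Subgroup G) ≠ ⊥ := by
  intro hZ
  haveI hs : IsSimpleGroup G := hG.2.1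
  obtain ⟨hAP, hPA, hPC⟩ := hSCN
  rw [Subgroup.commutator_eq_bot_iff_le_centralizer] at hZ
  have hNC : Subgroup.normalizer (A : Set G) ≤ Subgroup.centralizer (A : Set G) := by
    intro n hn
    rw [Subgroup.mem_centralizer_iff]
    intro a ha
    exact ((Subgroup.mem_centralizer_iff.mp (hZ ha)) n hn).symm
  have hPeq : (P : Subgroup G) = A := by
    apply le_antisymm _ hAP
    intro x hx
    have : x ∈ (P : Subgroup G) ⊓ Subgroup.centralizer (A : Set G) := ⟨hx, hNC (hPA hx)⟩
    rwa [hPC] at this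
  have hPN : Subgroup.normalizer ((P : Subgroup G) : Set G) ≤
      Subgroup.centralizer ((P : Subgroup G) : Set G) := by
    rw [hPeq]; exact hNC
  have hc := MonoidHom.ker_transferSylow_isComplement' P hPN
  rcases (MonoidHom.normal_ker (MonoidHom.transferSylow P hPN)).eq_bot_or_eq_top with h | h
  · -- `P = ⊤`
    have h1 := hc.sup_eq_top
    rw [h, bot_sup_eq] at h1
    exact not_isPGroup_top hG (P : Subgroup G) P.2 h1
  · -- `P = ⊥`
    have h1 := hc.disjoint
    rw [h, disjoint_iff, top_inf_eq] at h1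
    exact hAbot (hPeq ▸ h1)

/-- **Bender–Glauberman, Theorem 9.5.** -/
theorem scn3_inUniqueMaximal (hG : IsMinSimpleOddOrder G) (p : ℕ) [hp : Fact p.Prime]
    (P : Sylow p G) (A : Subgroup G) (hA : IsSCN (P : Subgroup G) A) (hA3 : ¬ PRankLE p 2 ↥A) :
    InUniqueMaximal A := by
  classical
  by_contra hnotU
  have hpp : p.Prime := hp.out
  have hAP : A ≤ (P : Subgroup G) := hA.1
  have hAp : IsPGroup p A := P.2.to_le hAP
  have hAcomm : A ≤ Subgroup.centralizer (A : Set G) := by
    intro a ha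
    have h1 : a ∈ (P : Subgroup G) ⊓ Subgroup.centralizer (A : Set G) := by
      rw [hA.2.2]; exact ha
    exact h1.2
  have hAc : IsMulCommutative A := by
    refine ⟨⟨fun a b => ?_⟩⟩
    apply Subtype.ext
    have := (Subgroup.mem_centralizer_iff.mp (hAcomm b.2)) a a.2
    simpa using this
  have hAbot : A ≠ ⊥ := by
    rintro rfl
    apply hA3
    intro B _ _
    have h1 : Nat.card B ≤ Nat.card (⊥ : Subgroup G) := Subgroup.card_le_card_group B
    rw [Subgroup.card_bot] at h1
    exact h1.trans (Nat.one_le_pow _ _ hpp.pos)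
  -- (0)
  have h0 : ∀ M : Subgroup G, IsCoatom M → PRankLE p 2 ↥(fittingOf M) := by
    intro M hM
    by_contra hF
    exact hnotU (Cfsg.Agent.S1401.result hG M hM p hF A hAp hAc hA3)
  -- (1), (1')
  have h1 : ∀ M : Subgroup G, IsCoatom M → Subgroup.centralizer (A : Set G) ≤ M →
      ∃ q : ℕ, q.Prime ∧ q ≠ p ∧ ∃ Q ∈ maxInvSubgroups ⊤ A {q}, Q ≠ ⊥ ∧
        Subgroup.normalizer (Q : Set G) ≤ M := fun M hM hCM =>
    Cfsg.Agent.Helper23.BG95.exists_maxInv_normalizer_le hG p A hAp hA3 h0 M hM (hAcomm.trans hCM)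
  have h1' : ∀ M : Subgroup G, IsCoatom M → Subgroup.centralizer (A : Set G) ≤ M →
      ∀ R : Subgroup G, IsPGroup p R → A ≤ R → R ≤ Subgroup.normalizer (A : Set G) →
        Subgroup.normalizer (R : Set G) ≤ M := fun M hM hCM =>
    normalizer_le_of_maxInv hG P A hA hA3 M hCM (h1 M hM hCM)
  have hNall : ∀ M : Subgroup G, IsCoatom M → Subgroup.centralizer (A : Set G) ≤ M →
      Subgroup.normalizer (A : Set G) ≤ M := fun M hM hCM =>
    h1' M hM hCM A hAp le_rfl Subgroup.le_normalizer
  have hPall : ∀ M : Subgroup G, IsCoatom M → Subgroup.centralizer (A : Set G) ≤ M →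
      (P : Subgroup G) ≤ M := fun M hM hCM =>
    sylow_le_of_maxInv hG P A hA hA3 M hCM (h1 M hM hCM)
  -- (2)
  set Z : Subgroup G := ⁅A, Subgroup.normalizer (A : Set G)⁆ with hZdef
  have hZbot : Z ≠ ⊥ := commutator_normalizer_ne_bot hG P A hA hAbot
  have hZA : Z ≤ A := by
    rw [hZdef, Subgroup.commutator_le]
    intro a ha n hn
    have h1 : n * a⁻¹ * n⁻¹ ∈ A :=
      (Subgroup.mem_normalizer_iff.mp hn a⁻¹).mp (A.inv_mem ha)
    have h2 : ⁅a, n⁆ = a * (n * a⁻¹ * n⁻¹) := by
      rw [commutatorElement_def]; group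
    rw [h2]
    exact A.mul_mem ha h1
  obtain ⟨H, hH, hZH⟩ := (eq_top_or_exists_le_coatom _).resolve_left (centralizer_ne_top' hG hZbot)
  have hCH : Subgroup.centralizer (A : Set G) ≤ H := (Subgroup.centralizer_le hZA).trans hZH
  -- (3)
  have h3 : ∀ L : Subgroup G, IsCoatom L → Subgroup.centralizer (A : Set G) ≤ L → L = H := by
    intro L hL hCL
    by_cases hrk : RankLE 2 ↥(fittingOf L)
    · have hLH : L ≤ H :=
        Cfsg.Agent.Helper29.BG95.case_b hG P A hA L H hL (hPall L hL hCL) (hNall L hL hCL) hrk hZH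
          (h1' H hH hCH)
      exact ((hL.le_iff_eq hH.1).mp hLH).symm
    · exact (case_a hG P A hA hA3 hnotU hNall L hL hCL hrk H hH hZH).symm
  -- conclusion
  have hCU : InUniqueMaximal (Subgroup.centralizer (A : Set G)) :=
    ⟨H, ⟨hH, hCH⟩, fun L hL => h3 L hL.1 hL.2⟩
  have hACC : A ≤ Subgroup.centralizer ((Subgroup.centralizer (A : Set G) : Subgroup G) : Set G) := by
    intro a ha
    rw [Subgroup.mem_centralizer_iff]
    intro x hx
    exact ((Subgroup.mem_centralizer_iff.mp hx) a ha).symm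
  have hAr : ¬ RankLE 1 ↥A := by
    have hA3' := hA3
    rw [Cfsg.Agent.Helper21.not_prankLE_iff] at hA3'
    obtain ⟨E, hEA, hEc, hEe, hEcard⟩ := hA3'
    have hp_lt_sq : p < p ^ 2 := by
      have := hpp.one_lt
      nlinarith
    exact Cfsg.Agent.Helper54.BGU.not_rankLE_one_of_elemAb hEA hEc hEe (hp_lt_sq.trans hEcard)
  exact hnotU (Cfsg.Agent.S1399.result hG _ A hCU hACC hAr)

end Cfsg.Agent.Helper54.BG95
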