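import Mathlib
import Cfsg.Prelude.Def_Local
import Cfsg.Agent.Helper4.BG36Base
import Cfsg.Agent.Helper63.PSeriesTools
import Cfsg.Agent.S0022

/-!
# Plumbing for BG Theorem 3.6 (S1444): inheritance of the hypotheses

* `pLengthLE_one_of_normal_pGroup` (B4): a normal Sylow `p`-subgroup gives `p`-length at most one.
* `Below_sub` (A1): the induction hypothesis applied to a sub-pair `(H₁, R₁)`.
* `Below_quo` (A2): the induction hypothesis applied to a quotient `H / X`.
-/

set_option autoImplicit false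

namespace Cfsg.Agent.Helper54.BG36P

open Cfsg Cfsg.Agent.Helper4.BG36

universe u

/-- (B4) a group with a normal `p`-subgroup of index prime to `p` has `p`-length at most one -/
theorem pLengthLE_one_of_normal_pGroup {K : Type*} [Group K] [Finite K] {p : ℕ} [hp : Fact p.Prime]
    (V : Subgroup K) [V.Normal] (hV : IsPGroup p V) (hind : ¬ p ∣ V.index) : PLengthLE p 1 K := by
  have hV2 : V ≤ (upperPSeries p K 2).1 := by
    apply Cfsg.Agent.Helper63.le_upperPSeries_succ_of_pow_mem 1 V
    intro t ht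
    obtain ⟨k, hk⟩ := hV ⟨t, ht⟩
    refine ⟨p ^ k, ⟨fun h => absurd h (by decide), fun _ => ⟨k, rfl⟩⟩, ?_⟩
    have h1 : t ^ p ^ k = 1 := by
      have := congrArg Subtype.val hk
      simpa using this
    rw [h1]
    exact Subgroup.one_mem _
  unfold PLengthLE
  rw [eq_top_iff]
  show (⊤ : Subgroup K) ≤ (upperPSeries p K (2 + 1)).1
  apply Cfsg.Agent.Helper63.le_upperPSeries_succ_of_pow_mem 2 ⊤
  intro t _
  refine ⟨V.index, ⟨fun _ => ?_, fun h => absurd (by decide) h⟩, ?_⟩
  · exact ((Nat.Prime.coprime_iff_not_dvd hp.out).2 hind).symm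
  · exact hV2 (Subgroup.pow_index_mem V t)

/-- the order of a complement of `H` is the index of `H` -/
theorem card_eq_index_of_isComplement' {G : Type*} [Group G] [Finite G] {H R : Subgroup G}
    (hR : Subgroup.IsComplement' H R) : Nat.card R = H.index := by
  have h1 := hR.card_mul_card
  have h2 := H.card_mul_index
  have hpos : 0 < Nat.card H := Nat.card_pos
  exact Nat.eq_of_mul_eq_mul_left hpos (h1.trans h2.symm)

theorem card_subgroupOf_of_le' {G : Type*} [Group G] {A L : Subgroup G} (h : A ≤ L) :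
    Nat.card (A.subgroupOf L) = Nat.card A :=
  Nat.card_congr (Subgroup.subgroupOfEquivOfLe h).toEquiv

/-- (A1) the induction hypothesis for a sub-pair -/
theorem Below_sub {G : Type u} [Group G] [Finite G] [Group.IsSolvable G]
    (ih : Below.{u} (Nat.card G)) (hodd : Odd (Nat.card G)) (H R R₀ : Subgroup G) [H.Normal]
    (hHall : (Nat.card H).Coprime H.index) (hR : Subgroup.IsComplement' H R) (hR₀ : R₀ ≤ R)
    (hR₀p : (Nat.card R₀).Prime)
    (hZ : IsZGroup ↥(H ⊓ Subgroup.centralizer (R₀ : Set G)))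
    (H₁ R₁ : Subgroup G) (hH₁ : H₁ ≤ H) (hR₁ : R₁ ≤ R) (hR₀₁ : R₀ ≤ R₁)
    (hnorm : R₁ ≤ Subgroup.normalizer (H₁ : Set G))
    (hlt : Nat.card H₁ * Nat.card R₁ < Nat.card G) (p : ℕ) [Fact p.Prime] :
    PLengthLE p 1 ↥⁅H₁, R₁⁆ := by
  set L : Subgroup G := H₁ ⊔ R₁ with hL
  have hH₁L : H₁ ≤ L := le_sup_left
  have hR₁L : R₁ ≤ L := le_sup_right
  have hLn : L ≤ Subgroup.normalizer (H₁ : Set G) := sup_le Subgroup.le_normalizer hnorm
  have hRidx : Nat.card R = H.index := card_eq_index_of_isComplement' hR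
  have hcop₁ : (Nat.card H₁).Coprime (Nat.card R₁) := by
    refine Nat.Coprime.coprime_dvd_left (Subgroup.card_dvd_of_le hH₁) ?_
    refine Nat.Coprime.coprime_dvd_right (Subgroup.card_dvd_of_le hR₁) ?_
    rw [hRidx]; exact hHall
  -- the data inside `L`
  set H' : Subgroup L := H₁.subgroupOf L with hH'
  set R' : Subgroup L := R₁.subgroupOf L with hR'
  set R₀' : Subgroup L := R₀.subgroupOf L with hR₀'
  have hH'n : H'.Normal := Subgroup.normal_subgroupOf_of_le_normalizer hLn
  have hcH' : Nat.card H' = Nat.card H₁ := card_subgroupOf_of_le' hH₁L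
  have hcR' : Nat.card R' = Nat.card R₁ := card_subgroupOf_of_le' hR₁L
  have hcR₀' : Nat.card R₀' = Nat.card R₀ := card_subgroupOf_of_le' (hR₀₁.trans hR₁L)
  have hcompl : Subgroup.IsComplement' H' R' := by
    apply Subgroup.isComplement'_of_disjoint_and_mul_eq_univ
    · apply Subgroup.disjoint_of_coprime_natCard
      rw [hcH', hcR']; exact hcop₁
    · rw [← Subgroup.normal_mul, ← Subgroup.subgroupOf_sup hH₁L hR₁L, Subgroup.subgroupOf_self,
        Subgroup.coe_top]
  have hcardL : Nat.card L = Nat.card H₁ * Nat.card R₁ := by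
    rw [← hcompl.card_mul_card, hcH', hcR']
  have hltL : Nat.card L < Nat.card G := by rw [hcardL]; exact hlt
  have hoddL : Odd (Nat.card L) := Odd.of_dvd_nat hodd (Subgroup.card_subgroup_dvd_card L)
  have hHall' : (Nat.card H').Coprime H'.index := by
    rw [← card_eq_index_of_isComplement' hcompl, hcH', hcR']
    exact hcop₁
  have hR₀'le : R₀' ≤ R' := fun x hx => Subgroup.mem_subgroupOf.2 (hR₀₁ (Subgroup.mem_subgroupOf.1 hx))
  have hR₀'p : (Nat.card R₀').Prime := by rw [hcR₀']; exact hR₀p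
  -- the Z-group hypothesis
  have hZ' : IsZGroup ↥(H' ⊓ Subgroup.centralizer (R₀' : Set L)) := by
    have hmem : ∀ x : ↥(H' ⊓ Subgroup.centralizer (R₀' : Set L)),
        ((x : L) : G) ∈ H ⊓ Subgroup.centralizer (R₀ : Set G) := by
      rintro ⟨x, hx1, hx2⟩
      refine Subgroup.mem_inf.2 ⟨hH₁ (Subgroup.mem_subgroupOf.1 hx1), ?_⟩
      rw [Subgroup.mem_centralizer_iff]
      intro r hr
      have hrL : r ∈ L := hR₁L (hR₀₁ hr)
      have := Subgroup.mem_centralizer_iff.1 hx2 ⟨r, hrL⟩ (Subgroup.mem_subgroupOf.2 hr)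
      exact congrArg Subtype.val this
    let φ : ↥(H' ⊓ Subgroup.centralizer (R₀' : Set L)) →*
        ↥(H ⊓ Subgroup.centralizer (R₀ : Set G)) :=
      (L.subtype.comp (Subgroup.subtype _)).codRestrict _ hmem
    have hφ : Function.Injective φ := by
      intro a b hab
      have h1 : ((a : L) : G) = ((b : L) : G) :=
        congrArg (fun z : ↥(H ⊓ Subgroup.centralizer (R₀ : Set G)) => (z : G)) hab
      exact Subtype.ext (Subtype.ext h1)
    exact IsZGroup.of_injective hφ
  have key := ih ↥L hltL hoddL H' R' R₀' hHall' hcompl hR₀'le hR₀'p hZ' p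
  -- transport to the ambient group
  have hmap : (⁅H', R'⁆ : Subgroup L).map L.subtype = ⁅H₁, R₁⁆ := by
    rw [Subgroup.map_commutator, hH', hR', Subgroup.subgroupOf_map_subtype,
      Subgroup.subgroupOf_map_subtype, inf_eq_left.2 hH₁L, inf_eq_left.2 hR₁L]
  let e : ↥(⁅H', R'⁆ : Subgroup L) ≃* ↥⁅H₁, R₁⁆ :=
    ((⁅H', R'⁆ : Subgroup L).equivMapOfInjective L.subtype L.subtype_injective).trans
      (MulEquiv.subgroupCongr hmap)
  exact Cfsg.Agent.Helper63.pLengthLE_of_surjective e.toMonoidHom e.surjective key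

/-- (A2) the induction hypothesis for a quotient of `H` -/
theorem Below_quo {G : Type u} [Group G] [Finite G] [Group.IsSolvable G]
    (ih : Below.{u} (Nat.card G)) (hodd : Odd (Nat.card G)) (H R R₀ : Subgroup G) [H.Normal]
    (hHall : (Nat.card H).Coprime H.index) (hR : Subgroup.IsComplement' H R) (hR₀ : R₀ ≤ R)
    (hR₀p : (Nat.card R₀).Prime)
    (hZ : IsZGroup ↥(H ⊓ Subgroup.centralizer (R₀ : Set G)))
    (hHR : ⁅H, R⁆ = H) (X : Subgroup ↥H) [X.Normal] (hXG : (X.map H.subtype).Normal)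
    (hX1 : X ≠ ⊥) (p : ℕ) [Fact p.Prime] : PLengthLE p 1 (↥H ⧸ X) := by
  set N : Subgroup G := X.map H.subtype with hN
  have : N.Normal := hXG
  have hNH : N ≤ H := Subgroup.map_subtype_le _
  have hN1 : N ≠ ⊥ := by
    intro h
    apply hX1
    rw [hN, Subgroup.map_eq_bot_iff_of_injective _ H.subtype_injective] at h
    exact h
  have hRidx : Nat.card R = H.index := card_eq_index_of_isComplement' hR
  have hdisjHR : H ⊓ R = ⊥ := hR.disjoint.eq_bot
  set π : G →* G ⧸ N := QuotientGroup.mk' N with hπ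
  have hπs : Function.Surjective π := QuotientGroup.mk'_surjective N
  have hker : π.ker = N := QuotientGroup.ker_mk' N
  -- the order of the quotient
  have hltQ : Nat.card (G ⧸ N) < Nat.card G := by
    rw [← Subgroup.index_eq_card, ← N.card_mul_index]
    have h1 : 1 < Nat.card N := by
      rw [Subgroup.one_lt_card_iff_ne_bot]; exact hN1
    have h2 : 0 < N.index := Nat.pos_of_ne_zero Subgroup.index_ne_zero_of_finite
    nlinarith
  have hoddQ : Odd (Nat.card (G ⧸ N)) := by
    rw [← Subgroup.index_eq_card]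
    exact Odd.of_dvd_nat hodd (Subgroup.index_dvd_card N)
  -- the images
  set Hb : Subgroup (G ⧸ N) := H.map π with hHb
  set Rb : Subgroup (G ⧸ N) := R.map π with hRb
  set R₀b : Subgroup (G ⧸ N) := R₀.map π with hR₀b
  have hHbn : Hb.Normal := Subgroup.Normal.map inferInstance π hπs
  have hidx : Hb.index = H.index := Subgroup.index_map_eq H hπs (by rw [hker]; exact hNH)
  have hcopb : (Nat.card Hb).Coprime (Nat.card Rb) := by
    refine Nat.Coprime.coprime_dvd_left (Subgroup.card_map_dvd H π) ?_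
    refine Nat.Coprime.coprime_dvd_right (Subgroup.card_map_dvd R π) ?_
    rw [hRidx]; exact hHall
  have hcompl : Subgroup.IsComplement' Hb Rb := by
    apply Subgroup.isComplement'_of_disjoint_and_mul_eq_univ
    · exact Subgroup.disjoint_of_coprime_natCard hcopb
    · rw [Set.eq_univ_iff_forall]
      intro y
      obtain ⟨g, rfl⟩ := hπs y
      obtain ⟨⟨⟨h, hh⟩, ⟨r, hr⟩⟩, hhr, -⟩ := hR.existsUnique g
      refine ⟨π h, Subgroup.mem_map_of_mem π hh, π r, Subgroup.mem_map_of_mem π hr, ?_⟩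
      simp only at hhr
      show π h * π r = π g
      rw [← map_mul, hhr]
  have hHallb : (Nat.card Hb).Coprime Hb.index := by
    rw [← card_eq_index_of_isComplement' hcompl]; exact hcopb
  have hR₀ble : R₀b ≤ Rb := Subgroup.map_mono hR₀
  have hR₀bp : (Nat.card R₀b).Prime := by
    have hd : Nat.card R₀b ∣ Nat.card R₀ := Subgroup.card_map_dvd R₀ π
    rcases (Nat.dvd_prime hR₀p).1 hd with h1 | h1
    · exfalso
      have hbot : R₀b = ⊥ := Subgroup.card_eq_one.1 h1
      have hle : R₀ ≤ N := by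
        intro r hr
        have : π r ∈ R₀b := Subgroup.mem_map_of_mem π hr
        rw [hbot, Subgroup.mem_bot] at this
        rw [← hker]; exact this
      have hR₀bot : R₀ = ⊥ := by
        rw [eq_bot_iff, ← hdisjHR]
        exact le_inf (hle.trans hNH) hR₀
      rw [hR₀bot, Subgroup.card_bot] at hR₀p
      exact Nat.not_prime_one hR₀p
    · rw [h1]; exact hR₀p
  -- the Z-group hypothesis
  have hcopR₀ : (Nat.card R₀).Coprime (Nat.card H) := by
    refine (Nat.Coprime.coprime_dvd_right (Subgroup.card_dvd_of_le hR₀) ?_).symm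
    rw [hRidx]; exact hHall
  have hZb : IsZGroup ↥(Hb ⊓ Subgroup.centralizer (R₀b : Set (G ⧸ N))) := by
    have hmem : ∀ x : ↥(H ⊓ Subgroup.centralizer (R₀ : Set G)),
        π (x : G) ∈ Hb ⊓ Subgroup.centralizer (R₀b : Set (G ⧸ N)) := by
      rintro ⟨x, hx1, hx2⟩
      refine Subgroup.mem_inf.2 ⟨Subgroup.mem_map_of_mem π hx1, ?_⟩
      rw [Subgroup.mem_centralizer_iff]
      rintro _ ⟨r, hr, rfl⟩
      have := Subgroup.mem_centralizer_iff.1 hx2 r hr
      show π r * π x = π x * π r
      rw [← map_mul, ← map_mul, this]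
    let ψ : ↥(H ⊓ Subgroup.centralizer (R₀ : Set G)) →*
        ↥(Hb ⊓ Subgroup.centralizer (R₀b : Set (G ⧸ N))) :=
      (π.comp (Subgroup.subtype _)).codRestrict _ hmem
    have hψ : Function.Surjective ψ := by
      rintro ⟨y, hy⟩
      obtain ⟨hy1, hy2⟩ := Subgroup.mem_inf.1 hy
      obtain ⟨k, hk, rfl⟩ := hy1
      have hfix : ∀ a ∈ R₀, a * k * a⁻¹ * k⁻¹ ∈ N := by
        intro a ha
        rw [← hker, MonoidHom.mem_ker]
        have h1 := Subgroup.mem_centralizer_iff.1 hy2 (π a) (Subgroup.mem_map_of_mem π ha)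
        rw [map_mul, map_mul, map_mul, h1, map_inv, map_inv]
        group
      obtain ⟨c, hc, hkc⟩ := Cfsg.Agent.S0022.result R₀ H
        (by rw [Subgroup.normalizer_eq_top]; exact le_top) hcopR₀ (Or.inr inferInstance) N hNH
        (by rw [Subgroup.normalizer_eq_top]; exact le_top)
        (by rw [Subgroup.normalizer_eq_top]; exact le_top) k hk hfix
      refine ⟨⟨c, hc⟩, ?_⟩
      apply Subtype.ext
      show π c = π k
      rw [← hker, MonoidHom.mem_ker, map_mul, map_inv] at hkc
      exact (inv_mul_eq_one.1 hkc).symm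
    exact IsZGroup.of_surjective hψ
  have key := ih (G ⧸ N) hltQ hoddQ Hb Rb R₀b hHallb hcompl hR₀ble hR₀bp hZb p
  -- identify `⁅Hb, Rb⁆ = Hb` with `H ⧸ X`
  have hcomm : ⁅Hb, Rb⁆ = Hb := by
    rw [hHb, hRb, ← Subgroup.map_commutator, hHR]
  let f : ↥H →* ↥Hb := π.subgroupMap H
  have hf : Function.Surjective f := π.subgroupMap_surjective H
  have hkerf : f.ker = X := by
    ext x
    rw [MonoidHom.mem_ker]
    constructor
    · intro hx
      have h1 : π (x : G) = 1 := congrArg Subtype.val hx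
      have h2 : (x : G) ∈ N := by rw [← hker]; exact h1
      exact (Subgroup.mem_map_iff_mem H.subtype_injective).1 h2
    · intro hx
      apply Subtype.ext
      show π (x : G) = 1
      have h2 : (x : G) ∈ N := Subgroup.mem_map_of_mem H.subtype hx
      rw [← hker] at h2
      exact h2
  let e : ↥⁅Hb, Rb⁆ ≃* ↥H ⧸ X :=
    (MulEquiv.subgroupCongr hcomm).trans
      ((QuotientGroup.quotientKerEquivOfSurjective f hf).symm.trans
        (QuotientGroup.quotientMulEquivOfEq hkerf))
  exact Cfsg.Agent.Helper63.pLengthLE_of_surjective e.toMonoidHom e.surjective key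

end Cfsg.Agent.Helper54.BG36P
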