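import Mathlib
import Cfsg.Prelude.Def_Local
import Cfsg.Prelude.Def_CaseTheorems
import Cfsg.Agent.Lib.Cores
import Cfsg.Agent.Helper11.PSeries
import Cfsg.Agent.Helper63.PSeriesTools
import Cfsg.Agent.Helper55.SolvCore
import Cfsg.Agent.S0029
import Cfsg.Agent.Helper54.BG36Plumb

/-!
# Plumbing for BG Theorem 3.6 (S1444): the Frattini reduction (Hall-Higman 1.2.5)

`pLengthLE_one_of_quotient_frattini` (B3): if `K` is solvable with `O_{p'}(K) = 1` and
`K / Φ(O_p(K))` has `p`-length at most one, then so has `K`.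
-/

set_option autoImplicit false

namespace Cfsg.Agent.Helper54.BG36P

open Cfsg Cfsg.Agent.Lib Cfsg.Agent.Helper11 Cfsg.Agent.Helper63

section frat

variable {K : Type*} [Group K] [Finite K]

/-- a `p'`-element acting trivially on `O_p(K) / Φ(O_p(K))` is trivial, when `O_{p'}(K) = 1` -/
theorem eq_one_of_coprime_of_centralizes_mod_frattini [Group.IsSolvable K] {p : ℕ}
    [hp : Fact p.Prime] (hO : pPrimeCore p K = ⊥) (Φ : Subgroup K) [Φ.Normal]
    (hΦ : Φ = (frattini ↥(pCore p K)).map (pCore p K).subtype) {a : K}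
    (hcop : (orderOf a).Coprime p)
    (hcent : QuotientGroup.mk' Φ a ∈
      Subgroup.centralizer (((pCore p K).map (QuotientGroup.mk' Φ) : Subgroup (K ⧸ Φ)) : Set (K ⧸ Φ))) :
    a = 1 := by
  set V : Subgroup K := pCore p K with hV
  have hVp : IsPGroup p V := isPGroup_pCore p
  have hVn : V.Normal := pCore_normal p K
  set A : Subgroup K := Subgroup.zpowers a with hA
  -- the subgroup of elements acting trivially modulo `Φ`
  set C : Subgroup K := (Subgroup.centralizer
    ((V.map (QuotientGroup.mk' Φ) : Subgroup (K ⧸ Φ)) : Set (K ⧸ Φ))).comap (QuotientGroup.mk' Φ)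
    with hC
  have haC : a ∈ C := Subgroup.mem_comap.2 hcent
  have hAC : A ≤ C := by
    rw [hA, Subgroup.zpowers_le]; exact haC
  have hAK : A ≤ Subgroup.normalizer (V : Set K) := by
    rw [Subgroup.normalizer_eq_top]; exact le_top
  have hfr : IsPGroup p (frattini ↥V) := by
    have := hVp.to_subgroup (frattini ↥V)
    exact this
  have hcop' : (Nat.card A).Coprime (Nat.card (frattini ↥V)) := by
    obtain ⟨k, hk⟩ := IsPGroup.iff_card.1 hfr
    rw [hk, hA, Nat.card_zpowers]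
    exact Nat.Coprime.pow_right k hcop
  have htriv : ∀ x ∈ A, ∀ k ∈ V, x * k * x⁻¹ * k⁻¹ ∈ (frattini ↥V).map V.subtype := by
    intro x hx k hk
    rw [← hΦ]
    have hxC := hAC hx
    rw [hC, Subgroup.mem_comap, Subgroup.mem_centralizer_iff] at hxC
    have h1 := hxC (QuotientGroup.mk' Φ k) (Subgroup.mem_map_of_mem _ hk)
    rw [← QuotientGroup.eq_one_iff, ← QuotientGroup.mk'_apply]
    rw [map_mul, map_mul, map_mul, map_inv, map_inv, ← h1]
    group
  have h2 := Cfsg.Agent.S0029.result A V hAK hcop' htriv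
  have h3 : a ∈ V := by
    apply Cfsg.Agent.Helper55.centralizer_pCore_le p hO
    exact h2 (Subgroup.mem_zpowers a)
  obtain ⟨k, hk⟩ := hVp ⟨a, h3⟩
  have h4 : a ^ p ^ k = 1 := by
    have := congrArg Subtype.val hk
    simpa using this
  have h5 : orderOf a ∣ p ^ k := orderOf_dvd_of_pow_eq_one h4
  have h6 : (orderOf a).Coprime (p ^ k) := Nat.Coprime.pow_right k hcop
  have h7 : orderOf a = 1 := Nat.eq_one_of_dvd_coprimes h6 (dvd_refl _) h5
  exact orderOf_eq_one_iff.1 h7

/-- `O_{p'}(K / Φ(O_p(K))) = 1` when `O_{p'}(K) = 1` -/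
theorem pPrimeCore_quotient_frattini_eq_bot [Group.IsSolvable K] {p : ℕ} [hp : Fact p.Prime]
    (hO : pPrimeCore p K = ⊥) (Φ : Subgroup K) [Φ.Normal]
    (hΦ : Φ = (frattini ↥(pCore p K)).map (pCore p K).subtype) :
    pPrimeCore p (K ⧸ Φ) = ⊥ := by
  set V : Subgroup K := pCore p K with hV
  have hVp : IsPGroup p V := isPGroup_pCore p
  have hVn : V.Normal := pCore_normal p K
  set W : Subgroup (K ⧸ Φ) := pPrimeCore p (K ⧸ Φ) with hW
  have hWn : W.Normal := pPrimeCore_normal p (K ⧸ Φ)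
  have hWc : (Nat.card W).Coprime p := card_pPrimeCore_coprime p
  set Vb : Subgroup (K ⧸ Φ) := V.map (QuotientGroup.mk' Φ) with hVb
  have hVbn : Vb.Normal := hVn.map _ (QuotientGroup.mk'_surjective _)
  have hVbp : IsPGroup p Vb := hVp.map _
  have hdis : Disjoint W Vb := by
    obtain ⟨k, hk⟩ := IsPGroup.iff_card.1 hVbp
    apply Subgroup.disjoint_of_coprime_natCard
    rw [hk]
    exact Nat.Coprime.pow_right k hWc
  rw [eq_bot_iff]
  intro x hx
  rw [Subgroup.mem_bot]
  obtain ⟨w, rfl⟩ := QuotientGroup.mk'_surjective Φ x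
  have hpos : 0 < orderOf w := orderOf_pos w
  obtain ⟨k, m, hm, hkm⟩ := Nat.exists_eq_pow_mul_and_not_dvd hpos.ne' p hp.out.ne_one
  have hord : orderOf (w ^ p ^ k) = m := by
    rw [orderOf_pow, hkm]
    have hg : (p ^ k * m).gcd (p ^ k) = p ^ k := Nat.gcd_eq_right (Dvd.intro _ rfl)
    rw [hg, Nat.mul_div_cancel_left _ (pow_pos hp.out.pos k)]
  have hcop : (orderOf (w ^ p ^ k)).Coprime p := by
    rw [hord]
    exact ((Nat.Prime.coprime_iff_not_dvd hp.out).mpr hm).symm
  have hmemW : QuotientGroup.mk' Φ (w ^ p ^ k) ∈ W := by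
    rw [map_pow]; exact W.pow_mem hx _
  have hcent : QuotientGroup.mk' Φ (w ^ p ^ k) ∈
      Subgroup.centralizer ((Vb : Subgroup (K ⧸ Φ)) : Set (K ⧸ Φ)) := by
    rw [Subgroup.mem_centralizer_iff]
    intro y hy
    exact (Subgroup.commute_of_normal_of_disjoint W Vb hWn hVbn hdis _ _ hmemW hy).eq.symm
  have h1 : w ^ p ^ k = 1 :=
    eq_one_of_coprime_of_centralizes_mod_frattini hO Φ hΦ hcop hcent
  have h2 : (QuotientGroup.mk' Φ w) ^ p ^ k = 1 := by
    rw [← map_pow, h1, map_one]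
  have h3 : (QuotientGroup.mk' Φ w) ^ Nat.card W = 1 := by
    have := pow_card_eq_one' (G := W) (x := ⟨_, hx⟩)
    exact congrArg Subtype.val this
  have h4 : orderOf (QuotientGroup.mk' Φ w) ∣ p ^ k := orderOf_dvd_of_pow_eq_one h2
  have h5 : orderOf (QuotientGroup.mk' Φ w) ∣ Nat.card W := orderOf_dvd_of_pow_eq_one h3
  have h6 : (p ^ k).Coprime (Nat.card W) := (Nat.Coprime.pow_right k hWc).symm
  have h7 : orderOf (QuotientGroup.mk' Φ w) = 1 := Nat.eq_one_of_dvd_coprimes h6 h4 h5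
  exact orderOf_eq_one_iff.1 h7

/-- if `O_{p'}(Q) = 1` and `Q` has `p`-length at most one, every element of `Q` has a power prime to
`p` in `O_p(Q)` -/
theorem exists_pow_mem_pCore_of_pLengthLE_one {Q : Type*} [Group Q] [Finite Q] {p : ℕ}
    [hp : Fact p.Prime] (hO : pPrimeCore p Q = ⊥) (h : PLengthLE p 1 Q) (t : Q) :
    ∃ n : ℕ, n.Coprime p ∧ t ^ n ∈ pCore p Q := by
  -- `U₁ = ⊥`
  have hU1 : (upperPSeries p Q 1).1 = ⊥ := by
    rw [← hO]
    apply le_antisymm
    · apply le_pPrimeCore (upperPSeries_normal p Q 1)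
      rw [Nat.coprime_comm, Nat.Prime.coprime_iff_not_dvd hp.out]
      intro hdvd
      obtain ⟨x, hx⟩ := exists_prime_orderOf_dvd_card' p hdvd
      obtain ⟨n, hn, hmem⟩ := exists_pow_mem_upperPSeries p 0 x.2
      rw [upperPSeries_zero, Subgroup.mem_bot] at hmem
      have h2 : orderOf (x : Q) = p := by
        rw [Subgroup.orderOf_coe]; exact hx
      have h3 : p ∣ n := h2 ▸ orderOf_dvd_of_pow_eq_one hmem
      have h4 : n.Coprime p := hn.1 (by decide)
      have h5 : p ∣ 1 := by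
        have := Nat.dvd_gcd h3 (dvd_refl p)
        rwa [h4] at this
      exact hp.out.one_lt.ne' (Nat.dvd_one.mp h5)
    · rw [hO]; exact bot_le
  -- `U₂ ≤ O_p(Q)`
  have hU2 : (upperPSeries p Q 2).1 ≤ pCore p Q := by
    apply le_pCore (upperPSeries_normal p Q 2)
    intro x
    obtain ⟨n, hn, hmem⟩ := exists_pow_mem_upperPSeries p 1 x.2
    rw [hU1, Subgroup.mem_bot] at hmem
    obtain ⟨k, rfl⟩ := hn.2 (by decide)
    exact ⟨k, Subtype.ext hmem⟩
  have ht : t ∈ (upperPSeries p Q (2 + 1)).1 := by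
    have h' : (upperPSeries p Q (2 * 1 + 1)).1 = ⊤ := h
    have h'' : (upperPSeries p Q (2 + 1)).1 = ⊤ := h'
    rw [h'']; trivial
  obtain ⟨n, hn, hmem⟩ := exists_pow_mem_upperPSeries p 2 ht
  exact ⟨n, hn.1 (by decide), hU2 hmem⟩

/-- (B3) **Frattini reduction** (Hall-Higman 1.2.5): if `O_{p'}(K) = 1`, `K` solvable, and
`K / Φ(O_p(K))` has `p`-length at most one, then `K` has `p`-length at most one -/
theorem pLengthLE_one_of_quotient_frattini [Group.IsSolvable K] {p : ℕ} [hp : Fact p.Prime]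
    (hO : pPrimeCore p K = ⊥) (Φ : Subgroup K) [Φ.Normal]
    (hΦ : Φ = (frattini ↥(pCore p K)).map (pCore p K).subtype) (h : PLengthLE p 1 (K ⧸ Φ)) :
    PLengthLE p 1 K := by
  set V : Subgroup K := pCore p K with hV
  have hVp : IsPGroup p V := isPGroup_pCore p
  have hVn : V.Normal := pCore_normal p K
  have hΦV : Φ ≤ V := by rw [hΦ]; exact Subgroup.map_subtype_le _
  have hΦp : IsPGroup p Φ := hVp.to_le hΦV
  have hOq : pPrimeCore p (K ⧸ Φ) = ⊥ := pPrimeCore_quotient_frattini_eq_bot hO Φ hΦ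
  -- the preimage of `O_p(K / Φ)` is a normal `p`-subgroup of `K`
  set L : Subgroup K := (pCore p (K ⧸ Φ)).comap (QuotientGroup.mk' Φ) with hL
  have hLn : L.Normal := (pCore_normal p (K ⧸ Φ)).comap _
  have hLp : IsPGroup p L := by
    intro x
    obtain ⟨k, hk⟩ := isPGroup_pCore (G := K ⧸ Φ) p ⟨QuotientGroup.mk' Φ (x : K), x.2⟩
    have h1 : (x : K) ^ p ^ k ∈ Φ := by
      have := congrArg Subtype.val hk
      rw [← QuotientGroup.eq_one_iff, ← QuotientGroup.mk'_apply, map_pow]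
      simpa using this
    obtain ⟨j, hj⟩ := hΦp ⟨_, h1⟩
    refine ⟨k + j, ?_⟩
    apply Subtype.ext
    have := congrArg Subtype.val hj
    rw [Subgroup.coe_pow, Subgroup.coe_one, pow_add, pow_mul]
    simpa using this
  have hLV : L ≤ V := le_pCore hLn hLp
  -- every element of `K` has a power prime to `p` in `V`
  have hpow : ∀ t : K, ∃ n : ℕ, n.Coprime p ∧ t ^ n ∈ V := by
    intro t
    obtain ⟨n, hn, hmem⟩ := exists_pow_mem_pCore_of_pLengthLE_one hOq h (QuotientGroup.mk' Φ t)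
    refine ⟨n, hn, hLV ?_⟩
    rw [hL, Subgroup.mem_comap, map_pow]
    exact hmem
  -- so the index of `V` is prime to `p`
  have hind : ¬ p ∣ V.index := by
    intro hdvd
    have hdvd' : p ∣ Nat.card (K ⧸ V) := by
      rwa [Subgroup.index_eq_card] at hdvd
    obtain ⟨x, hx⟩ := exists_prime_orderOf_dvd_card' p hdvd'
    obtain ⟨t, rfl⟩ := QuotientGroup.mk'_surjective V x
    obtain ⟨n, hn, hmem⟩ := hpow t
    have h1 : (QuotientGroup.mk' V t) ^ n = 1 := by
      rw [← map_pow]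
      exact (QuotientGroup.eq_one_iff _).mpr hmem
    have h3 : p ∣ n := hx ▸ orderOf_dvd_of_pow_eq_one h1
    have h5 : p ∣ 1 := by
      have := Nat.dvd_gcd h3 (dvd_refl p)
      rwa [hn] at this
    exact hp.out.one_lt.ne' (Nat.dvd_one.mp h5)
  exact pLengthLE_one_of_normal_pGroup V hVp hind

end frat

end Cfsg.Agent.Helper54.BG36P
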