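import Mathlib
import Cfsg.Prelude.Def_OddOrderLocal
import Cfsg.Agent.Helper68.BG12A
import Cfsg.Agent.Helper29.BG10G
import Cfsg.Agent.Lib.Hall
import Cfsg.Agent.Helper52.NormalRankTwo
import Cfsg.Agent.Helper50.CyclicSylow

/-!
# B-G Lemmas 12.8 - 12.11 (statement S1420)

Everything is proved from statement-shaped hypotheses:
* `UniquenessThm G` (S1403),
* `H101` (S1404, normalizer part), `H124` (S1416, first part),
* `H125b`, `H125e` (S1417 (b), (e)), `H126a` (S1418, normality of `A` in `E`).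
-/

set_option autoImplicit false

namespace Cfsg.Agent.Helper54.BG128

open Cfsg Cfsg.Agent.Helper29.BG10 Cfsg.Agent.Helper68.BG12
open scoped Pointwise

universe u

/-! ### the hypotheses, in the shape of the frozen statements -/

/-- S1404, the normalizer part -/
def H101 (G : Type u) [Group G] : Prop :=
  ∀ (M : Subgroup G), IsCoatom M → ∀ (p : ℕ), p.Prime → p ∈ Cfsg.sigma M →
    ∀ X : Subgroup G, IsPGroup p X → X ≠ ⊥ → X ≤ M →
      Subgroup.normalizer (X : Set G) =
        (M ⊓ Subgroup.normalizer (X : Set G)) ⊔ Subgroup.centralizer (X : Set G)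

/-- S1416, the first part -/
def H124 (G : Type u) [Group G] : Prop :=
  ∀ (M : Subgroup G), IsCoatom M → ∀ (p : ℕ), p.Prime → ∀ A : Subgroup G, A ≤ M →
    Cfsg.IsElementaryAbelian p A → Nat.card A = p ^ 2 → Subgroup.centralizer (A : Set G) ≤ M

/-- S1417 (b), the first part -/
def H125b (G : Type u) [Group G] : Prop :=
  ∀ (M : Subgroup G), IsCoatom M → ∀ (p : ℕ) [Fact p.Prime], p ∈ Cfsg.tau2 M →
    ∀ A : Subgroup G, A ≤ M → Cfsg.IsElementaryAbelian p A → Nat.card A = p ^ 2 →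
      ∀ P : Sylow p M, IsMulCommutative (P : Subgroup M)

/-- S1417 (e) -/
def H125e (G : Type u) [Group G] : Prop :=
  ∀ (M : Subgroup G), IsCoatom M → ∀ (p : ℕ), p.Prime → p ∈ Cfsg.tau2 M →
    ∀ A : Subgroup G, A ≤ M → Cfsg.IsElementaryAbelian p A → Nat.card A = p ^ 2 →
      ∀ L : Subgroup G, IsCoatom L → L ≠ M → A ≤ L → Cfsg.sigmaCore M ⊓ L = ⊥

/-- S1418, normality of `A` in `E` -/
def H126a (G : Type u) [Group G] : Prop :=
  ∀ (M : Subgroup G), IsCoatom M → ∀ E : Subgroup G, Cfsg.IsComplIn E (Cfsg.sigmaCore M) M →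
    ∀ (p : ℕ), p.Prime → p ∈ Cfsg.tau2 M → ∀ A : Subgroup G, A ≤ E →
      Cfsg.IsElementaryAbelian p A → Nat.card A = p ^ 2 → E ≤ Subgroup.normalizer (A : Set G)

/-! ### general lemmas -/

section general

/-- a finite nilpotent group all of whose Sylow subgroups are abelian is abelian -/
theorem comm_of_nilpotent_of_sylow_comm {X : Type*} [Group X] [Finite X] [hX : Group.IsNilpotent X]
    (h : ∀ (p : ℕ) [Fact p.Prime] (P : Sylow p X), ∀ a ∈ (P : Subgroup X), ∀ b ∈ (P : Subgroup X),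
      a * b = b * a) :
    ∀ a b : X, a * b = b * a := by
  have (p : { x // x ∈ (Nat.card X).primeFactors }) : Fact p.1.Prime :=
    ⟨Nat.prime_of_mem_primeFactors p.2⟩
  obtain ⟨ϕ⟩ := ((Group.isNilpotent_of_finite_tfae (G := X)).out 0 4).mp hX
  intro a b
  rw [← ϕ.symm.injective.eq_iff, map_mul, map_mul]
  funext p
  funext P
  apply Subtype.ext
  have h1 := h p.1 P ((ϕ.symm a) p P).1 ((ϕ.symm a) p P).2 ((ϕ.symm b) p P).1 ((ϕ.symm b) p P).2
  exact h1

variable {G : Type u} [Group G]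

/-- in a group of odd order a `2`-subgroup is trivial -/
theorem eq_one_of_two_group [Finite G] (hodd : Odd (Nat.card G)) {Y : Subgroup G}
    (hY : IsPGroup 2 Y) {a : G} (ha : a ∈ Y) : a = 1 := by
  obtain ⟨k, hk⟩ := hY ⟨a, ha⟩
  have h1 : a ^ (2 ^ k) = 1 := by
    have := congrArg Subtype.val hk
    simpa using this
  have h2 : orderOf a ∣ 2 ^ k := orderOf_dvd_of_pow_eq_one h1
  have h3 : orderOf a ∣ Nat.card G := orderOf_dvd_natCard a
  have h4 : (2 ^ k).Coprime (Nat.card G) := by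
    apply Nat.Coprime.pow_left
    rw [Nat.coprime_two_left]
    exact hodd
  have h5 : orderOf a = 1 := Nat.eq_one_of_dvd_coprimes h4 h2 h3
  exact orderOf_eq_one_iff.1 h5

/-- arithmetic: a prime `q > p` (`p` an odd prime) divides neither `p ^ 2 - 1` nor `p ^ 2 - p` -/
theorem not_dvd_of_lt {p q : ℕ} (hp : p.Prime) (hp2 : p ≠ 2) (hq : q.Prime) (hpq : p < q) :
    ¬ q ∣ p ^ 2 - 1 ∧ ¬ q ∣ p ^ 2 - p := by
  have hp1 : 2 ≤ p := hp.two_le
  have hp3 : 3 ≤ p := by omega
  have hqm : ¬ q ∣ p - 1 := by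
    intro h
    have := Nat.le_of_dvd (by omega) h
    omega
  have hqp : ¬ q ∣ p := by
    intro h
    have := Nat.le_of_dvd (by omega) h
    omega
  have hqp1 : ¬ q ∣ p + 1 := by
    intro h
    have h1 := Nat.le_of_dvd (by omega) h
    have h2 : q = p + 1 := by omega
    have hodd : Odd p := hp.odd_of_ne_two hp2
    have heven : Even q := by rw [h2]; exact hodd.add_one
    have : q = 2 := (hq.even_iff).1 heven
    omega
  constructor
  · intro h
    have e : p ^ 2 - 1 = (p - 1) * (p + 1) := by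
      obtain ⟨k, rfl⟩ : ∃ k, p = k + 1 := ⟨p - 1, by omega⟩
      simp only [Nat.add_sub_cancel]
      ring_nf
      omega
    rw [e] at h
    rcases (hq.dvd_mul).1 h with h | h
    · exact hqm h
    · exact hqp1 h
  · intro h
    have e : p ^ 2 - p = p * (p - 1) := by
      obtain ⟨k, rfl⟩ : ∃ k, p = k + 1 := ⟨p - 1, by omega⟩
      simp only [Nat.add_sub_cancel]
      have : (k + 1) ^ 2 = (k + 1) * k + (k + 1) := by ring
      rw [this, Nat.add_sub_cancel]
    rw [e] at h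
    rcases (hq.dvd_mul).1 h with h | h
    · exact hqp h
    · exact hqm h

/-- a `q`-element normalizing an elementary abelian group of order `p ^ 2` centralizes it, when `q`
divides neither `p ^ 2 - 1` nor `p ^ 2 - p` -/
theorem mem_centralizer_of_q_element [Finite G] {p q : ℕ} [hp : Fact p.Prime] [hq : Fact q.Prime]
    {A : Subgroup G} (hAc : Nat.card A = p ^ 2) {y : G}
    (hy : y ∈ Subgroup.normalizer (A : Set G)) {e : ℕ} (hye : y ^ (q ^ e) = 1)
    (hq1 : ¬ q ∣ p ^ 2 - 1) (hq2 : ¬ q ∣ p ^ 2 - p) :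
    y ∈ Subgroup.centralizer (A : Set G) := by
  classical
  set N : Subgroup G := Subgroup.normalizer (A : Set G) with hN
  set Γ : Subgroup N := Subgroup.zpowers (⟨y, hy⟩ : N) with hΓ
  have hΓq : IsPGroup q Γ := by
    rintro ⟨g, hg⟩
    obtain ⟨k, rfl⟩ := Subgroup.mem_zpowers_iff.1 hg
    refine ⟨e, ?_⟩
    apply Subtype.ext
    apply Subtype.ext
    simp only [Subgroup.coe_pow, Subgroup.coe_zpow, Subgroup.coe_one]
    rw [← zpow_natCast, ← zpow_mul, mul_comm, zpow_mul, zpow_natCast, hye, one_zpow]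
  have hmod := hΓq.card_modEq_card_fixedPoints (α := A)
  -- the fixed points form the subgroup `C_A(y)`
  set F : Subgroup A := (Subgroup.centralizer ({y} : Set G)).subgroupOf A with hF
  have hfix : (MulAction.fixedPoints Γ A : Set A) = (F : Set A) := by
    ext a
    simp only [MulAction.mem_fixedPoints, SetLike.mem_coe, hF, Subgroup.mem_subgroupOf,
      Subgroup.mem_centralizer_iff, Set.mem_singleton_iff, forall_eq]
    constructor
    · intro h
      have h1 := h ⟨⟨y, hy⟩, Subgroup.mem_zpowers _⟩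
      have h2 : y * (a : G) * y⁻¹ = (a : G) := congrArg Subtype.val h1
      exact mul_inv_eq_iff_eq_mul.1 h2
    · rintro h ⟨g, hg⟩
      obtain ⟨k, rfl⟩ := Subgroup.mem_zpowers_iff.1 hg
      apply Subtype.ext
      show ((⟨y, hy⟩ : N) ^ k : N).1 * (a : G) * ((⟨y, hy⟩ : N) ^ k : N).1⁻¹ = (a : G)
      simp only [Subgroup.coe_zpow]
      have hc : Commute y (a : G) := h
      have := (hc.zpow_left k).eq
      rw [this, mul_inv_cancel_right]
  have hcardfix : Nat.card (MulAction.fixedPoints Γ A) = Nat.card F := by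
    rw [hfix]; rfl
  rw [hcardfix, hAc] at hmod
  have hFd : Nat.card F ∣ p ^ 2 := by
    rw [← hAc]; exact Subgroup.card_subgroup_dvd_card F
  obtain ⟨j, hj2, hj⟩ := (Nat.dvd_prime_pow hp.out).1 hFd
  have hpp : 1 < p := hp.out.one_lt
  interval_cases j
  · exfalso
    rw [hj, pow_zero] at hmod
    have : q ∣ p ^ 2 - 1 :=
      (Nat.modEq_iff_dvd' (Nat.one_le_pow _ _ (by omega))).1 hmod.symm
    exact hq1 this
  · exfalso
    rw [hj, pow_one] at hmod
    have hle : p ≤ p ^ 2 := by nlinarith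
    have : q ∣ p ^ 2 - p := (Nat.modEq_iff_dvd' hle).1 hmod.symm
    exact hq2 this
  · have htop : F = ⊤ := by
      apply Subgroup.eq_top_of_card_eq
      rw [hj, hAc]
    rw [Subgroup.mem_centralizer_iff]
    intro a ha
    have : (⟨a, ha⟩ : A) ∈ F := by rw [htop]; trivial
    rw [hF, Subgroup.mem_subgroupOf, Subgroup.mem_centralizer_iff] at this
    exact (this y rfl).symm

/-- an element normalizing an elementary abelian group `A` of order `p ^ 2`, all of whose prime
divisors `q` of the order satisfy `q ∤ p ^ 2 - 1`, `q ∤ p ^ 2 - p`, centralizes `A` -/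
theorem mem_centralizer_of_primes [Finite G] {p : ℕ} [hp : Fact p.Prime]
    {A : Subgroup G} (hAc : Nat.card A = p ^ 2) :
    ∀ (n : ℕ) (z : G), orderOf z = n → z ∈ Subgroup.normalizer (A : Set G) →
      (∀ q : ℕ, q.Prime → q ∣ n → ¬ q ∣ p ^ 2 - 1 ∧ ¬ q ∣ p ^ 2 - p) →
      z ∈ Subgroup.centralizer (A : Set G) := by
  intro n
  induction n using Nat.strong_induction_on with
  | _ n ih =>
    intro z hzn hzN hprimes
    have hn0 : n ≠ 0 := by
      rw [← hzn]; exact (orderOf_pos z).ne'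
    by_cases hn1 : n = 1
    · rw [hn1] at hzn
      rw [orderOf_eq_one_iff.1 hzn]
      exact Subgroup.one_mem _
    · obtain ⟨q, hq, hqn⟩ := Nat.exists_prime_and_dvd hn1
      have : Fact q.Prime := ⟨hq⟩
      obtain ⟨e, m, hqm, hnem⟩ := Nat.exists_eq_pow_mul_and_not_dvd hn0 q hq.ne_one
      have he : e ≠ 0 := by
        rintro rfl
        rw [pow_zero, one_mul] at hnem
        rw [hnem] at hqn
        exact hqm hqn
      have hm0 : m ≠ 0 := by
        rintro rfl
        rw [mul_zero] at hnem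
        exact hn0 hnem
      have hqe1 : 1 < q ^ e := Nat.one_lt_pow he hq.one_lt
      -- the `q'`-part
      have h1 : z ^ (q ^ e) ∈ Subgroup.centralizer (A : Set G) := by
        have hord : orderOf (z ^ (q ^ e)) = m := by
          rw [orderOf_pow' z (by positivity), hzn, hnem, Nat.gcd_eq_right (dvd_mul_right _ _),
            Nat.mul_div_cancel_left _ (by positivity)]
        apply ih m ?_ (z ^ (q ^ e)) hord (Subgroup.pow_mem _ hzN _)
        · intro q' hq' hq'm
          exact hprimes q' hq' (hnem ▸ (hq'm.trans (dvd_mul_left _ _)))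
        · rw [hnem]
          have hmpos : 0 < m := Nat.pos_of_ne_zero hm0
          nlinarith
      -- the `q`-part
      have h2 : z ^ m ∈ Subgroup.centralizer (A : Set G) := by
        have hpow : (z ^ m) ^ (q ^ e) = 1 := by
          rw [← pow_mul, mul_comm, ← hnem, ← hzn, pow_orderOf_eq_one]
        obtain ⟨hq1, hq2⟩ := hprimes q hq hqn
        exact mem_centralizer_of_q_element hAc (Subgroup.pow_mem _ hzN _) hpow hq1 hq2
      have hcop : (q ^ e).Coprime m := Nat.Coprime.pow_left _ ((Nat.Prime.coprime_iff_not_dvd hq).2 hqm)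
      exact Cfsg.Agent.Helper50.mem_of_pow_mem_of_coprime hcop h1 h2

end general

/-! ### Lemma 12.8: nilpotent `σ(M)'`-subgroups are abelian -/

section main

variable {G : Type u} [Group G] [Finite G]

/-- `p`-subgroups of `M` are abelian for every prime `p` outside `σ(M)` -/
theorem comm_of_pgroup_of_not_sigma (hG : Cfsg.IsMinSimpleOddOrder G) (hU : UniquenessThm G)
    (h125b : H125b G) {M : Subgroup G} (hM : IsCoatom M) {p : ℕ} (hp : p.Prime)
    (hpσ : p ∉ Cfsg.sigma M) {Y : Subgroup G} (hY : IsPGroup p Y) (hYM : Y ≤ M) :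
    ∀ a ∈ Y, ∀ b ∈ Y, a * b = b * a := by
  have : Fact p.Prime := ⟨hp⟩
  by_cases hp2 : p = 2
  · subst hp2
    intro a ha b hb
    rw [eq_one_of_two_group hG.1 hY ha, eq_one_of_two_group hG.1 hY hb]
  have hα : p ∉ Cfsg.alpha M := fun h => hpσ (alpha_subset_sigma hG hU hM h)
  have hr2 : Cfsg.PRankLE p 2 ↥M := by
    by_contra h
    exact hα ⟨hp, h⟩
  have hY' : IsPGroup p (Y.subgroupOf M) := hY.comap_subtype
  obtain ⟨P, hP⟩ := hY'.exists_le_sylow
  have hPc : IsMulCommutative (P : Subgroup M) := by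
    by_cases hr1 : Cfsg.PRankLE p 1 ↥M
    · have := Cfsg.Agent.Helper50.sylow_isCyclic_of_pRankLE_one hp2 hr1 P
      infer_instance
    · have hτ : p ∈ Cfsg.tau2 M := ⟨hp, hpσ, hr2, hr1⟩
      obtain ⟨A, hAM, hAe, hAc⟩ := exists_elementaryAbelian_sq hr2 hr1
      exact h125b M hM p hτ A hAM hAe hAc P
  intro a ha b hb
  have h1 : (⟨a, hYM ha⟩ : M) ∈ (P : Subgroup M) := hP (Subgroup.mem_subgroupOf.2 ha)
  have h2 : (⟨b, hYM hb⟩ : M) ∈ (P : Subgroup M) := hP (Subgroup.mem_subgroupOf.2 hb)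
  have h3 := hPc.is_comm.comm (⟨⟨a, hYM ha⟩, h1⟩ : (P : Subgroup M)) ⟨⟨b, hYM hb⟩, h2⟩
  exact congrArg (fun x : (P : Subgroup M) => ((x : M) : G)) h3

/-- **B-G Lemma 12.8** -/
theorem part1 (hG : Cfsg.IsMinSimpleOddOrder G) (hU : UniquenessThm G)
    (h125b : H125b G) {M : Subgroup G} (hM : IsCoatom M) (N : Subgroup G) (hNM : N ≤ M)
    (hNn : Group.IsNilpotent N)
    (hNσ : ∀ p : ℕ, p.Prime → p ∣ Nat.card N → p ∉ Cfsg.sigma M) : IsMulCommutative N := by
  refine ⟨⟨fun a b => ?_⟩⟩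
  apply comm_of_nilpotent_of_sylow_comm (X := ↥N) ?_ a b
  intro p hpf Q a ha b hb
  have hp : p.Prime := hpf.out
  by_cases hpd : p ∣ Nat.card N
  · have hpσ := hNσ p hp hpd
    have hY : IsPGroup p ((Q : Subgroup N).map N.subtype) := Q.isPGroup'.map _
    have hYM : (Q : Subgroup N).map N.subtype ≤ M := (Subgroup.map_subtype_le _).trans hNM
    have := comm_of_pgroup_of_not_sigma hG hU h125b hM hp hpσ hY hYM (a : G) ⟨a, ha, rfl⟩
      (b : G) ⟨b, hb, rfl⟩
    exact Subtype.ext this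
  · have hQ1 : Nat.card (Q : Subgroup N) = 1 := by
      obtain ⟨k, hk⟩ := IsPGroup.iff_card.1 Q.isPGroup'
      have hk0 : k = 0 := by
        by_contra hne
        apply hpd
        have h1 : p ∣ Nat.card (Q : Subgroup N) := by rw [hk]; exact dvd_pow_self p hne
        exact h1.trans (Subgroup.card_subgroup_dvd_card _)
      rw [hk, hk0, pow_zero]
    have hbot : (Q : Subgroup N) = ⊥ := Subgroup.eq_bot_of_card_eq _ hQ1
    rw [hbot, Subgroup.mem_bot] at ha hb
    rw [ha, hb]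

/-- **B-G Lemma 12.9** -/
theorem part2 (hG : Cfsg.IsMinSimpleOddOrder G) (hU : UniquenessThm G)
    (h125b : H125b G) {M : Subgroup G} (hM : IsCoatom M) {E : Subgroup G}
    (hE : Cfsg.IsComplIn E (Cfsg.sigmaCore M) M) : IsMulCommutative ↥⁅E, E⁆ := by
  have h := eCtx_of hG hU hM hE
  have hle : ⁅E, E⁆ ≤ E := by
    rw [Subgroup.commutator_le]
    intro a ha b hb
    rw [commutatorElement_def]
    exact E.mul_mem (E.mul_mem (E.mul_mem ha hb) (E.inv_mem ha)) (E.inv_mem hb)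
  apply part1 hG hU h125b hM _ (hle.trans h.le) h.isNilpotent_commutator'
  intro p hp hpd
  apply h.not_sigma_of_dvd p hp
  exact hpd.trans (Subgroup.card_dvd_of_le hle)

/-- **B-G Lemma 12.10** -/
theorem part3 (hG : Cfsg.IsMinSimpleOddOrder G) (h101 : H101 G) (h124 : H124 G)
    {M : Subgroup G} (hM : IsCoatom M) (p : ℕ) (P : Subgroup G) (hpσ : p ∈ Cfsg.sigma M)
    (hP : IsPGroup p P) (hPM : P ≤ M) (hnc : ¬ IsCyclic P) :
    Subgroup.normalizer (P : Set G) ≤ M := by
  have hp : p.Prime := hpσ.1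
  have : Fact p.Prime := ⟨hp⟩
  have hp2 : p ≠ 2 := by
    rintro rfl
    have h2 : 2 ∣ Nat.card G := hpσ.2.1.trans (Subgroup.card_subgroup_dvd_card M)
    exact (Nat.not_even_iff_odd.2 hG.1) (even_iff_two_dvd.2 h2)
  have hP1 : P ≠ ⊥ := by
    rintro rfl
    exact hnc inferInstance
  have htop : ¬ IsCyclic (⊤ : Subgroup ↥P) :=
    fun h => hnc ((Subgroup.topEquiv (G := ↥P)).isCyclic.mp h)
  obtain ⟨A', -, -, ⟨hA'c, hA'e⟩, hA'card⟩ :=
    Cfsg.Agent.Helper52.exists_normal_elementaryAbelian_sq hp2 (R := ↥P) hP (⊤ : Subgroup ↥P) htop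
  have hAP : A'.map P.subtype ≤ P := Subgroup.map_subtype_le _
  have hAe : Cfsg.IsElementaryAbelian p (A'.map P.subtype) := by
    refine ⟨⟨⟨?_⟩⟩, ?_⟩
    · rintro ⟨_, ⟨a, ha, rfl⟩⟩ ⟨_, ⟨b, hb, rfl⟩⟩
      apply Subtype.ext
      have := hA'c.is_comm.comm ⟨a, ha⟩ ⟨b, hb⟩
      have h2 : a * b = b * a := congrArg Subtype.val this
      show P.subtype a * P.subtype b = P.subtype b * P.subtype a
      rw [← map_mul, ← map_mul, h2]
    · rintro _ ⟨a, ha, rfl⟩
      rw [← map_pow, hA'e a ha, map_one]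
  have hAc : Nat.card (A'.map P.subtype) = p ^ 2 := by
    rw [Subgroup.card_map_of_injective P.subtype_injective]; exact hA'card
  have hCA := h124 M hM p hp _ (hAP.trans hPM) hAe hAc
  have hCP : Subgroup.centralizer (P : Set G) ≤ M :=
    (Subgroup.centralizer_le (by exact_mod_cast hAP)).trans hCA
  rw [h101 M hM p hp hpσ P hP hP1 hPM]
  exact sup_le inf_le_left hCP

/-! ### Lemma 12.11 -/

/-- a complement `E'` of `M_σ` in `M` containing a given `σ(M)'`-element `x` of `M` and an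
elementary abelian `p`-subgroup of order `p ^ 2` (`p ∈ τ₂(M)`) -/
theorem exists_compl {M E : Subgroup G} (h : ECtx M E) {x : G} (hxM : x ∈ M)
    (hxσ : ∀ q : ℕ, q.Prime → q ∣ orderOf x → q ∉ Cfsg.sigma M)
    {p : ℕ} [hp : Fact p.Prime] (hpσ : p ∉ Cfsg.sigma M) (hr2 : Cfsg.PRankLE p 2 ↥M)
    (hr1 : ¬ Cfsg.PRankLE p 1 ↥M) :
    ∃ E' A : Subgroup G, Cfsg.IsComplIn E' (Cfsg.sigmaCore M) M ∧ x ∈ E' ∧ A ≤ E' ∧
      Cfsg.IsElementaryAbelian p A ∧ Nat.card A = p ^ 2 := by
  classical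
  set m := Nat.card E with hm
  set n := Nat.card (Cfsg.sigmaCore M) with hn
  have hcard : Nat.card ↥M = m * n := (card_mul_card_of_isComplIn h.compl).symm
  have hcop : m.Coprime n :=
    Nat.coprime_of_dvd fun k hk hkm hkn => h.not_sigma_of_dvd k hk hkm (h.sigma_of_dvd k hk hkn)
  have : Group.IsSolvable ↥M := h.solvable_M
  have hnpi : n = Nat.card (Cfsg.piCore (Cfsg.sigma M) ↥M) := by
    rw [hn]; unfold Cfsg.sigmaCore
    exact Subgroup.card_map_of_injective M.subtype_injective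
  -- a Hall subgroup containing `x`
  set K : Subgroup M := Subgroup.zpowers (⟨x, hxM⟩ : M) with hK
  have hKc : (Nat.card K).Coprime n := by
    rw [hK, Nat.card_zpowers, Subgroup.orderOf_mk]
    exact Nat.coprime_of_dvd fun k hk hkx hkn => hxσ k hk hkx (h.sigma_of_dvd k hk hkn)
  obtain ⟨H₁, hH₁c, hKH₁⟩ := Cfsg.Agent.Lib.hall_le (G := ↥M) m n hcard hcop K hKc
  -- a Hall subgroup containing an elementary abelian subgroup of order `p ^ 2`
  obtain ⟨A₀, hA₀M, hA₀e, hA₀c⟩ := exists_elementaryAbelian_sq hr2 hr1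
  have hpn : ¬ p ∣ n := fun hd => hpσ (h.sigma_of_dvd p hp.out hd)
  have hK₂c : (Nat.card (A₀.subgroupOf M)).Coprime n := by
    rw [Cfsg.Agent.Helper1.card_subgroupOf_of_le hA₀M, hA₀c]
    exact Nat.Coprime.pow_left _ ((Nat.Prime.coprime_iff_not_dvd hp.out).2 hpn)
  obtain ⟨H₂, hH₂c, hK₂H₂⟩ := Cfsg.Agent.Lib.hall_le (G := ↥M) m n hcard hcop _ hK₂c
  obtain ⟨g, hg⟩ := Cfsg.Agent.Lib.hall_conj (G := ↥M) m n hcard hcop H₂ H₁ hH₂c hH₁c
  refine ⟨H₁.map M.subtype, cj (g : G) A₀, ⟨Subgroup.map_subtype_le _, sigmaCore_le M, ?_, ?_⟩,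
    ⟨⟨x, hxM⟩, hKH₁ (Subgroup.mem_zpowers _), rfl⟩, ?_, ?_, ?_⟩
  · -- trivial intersection
    rw [eq_bot_iff]
    rintro y ⟨hy1, hy2⟩
    rw [Subgroup.mem_bot]
    have h1 : orderOf y ∣ m := by
      have := Subgroup.orderOf_dvd_natCard _ hy1
      rwa [Subgroup.card_map_of_injective M.subtype_injective, hH₁c] at this
    have h2 : orderOf y ∣ n := Subgroup.orderOf_dvd_natCard _ hy2
    exact orderOf_eq_one_iff.1 (Nat.eq_one_of_dvd_coprimes hcop h1 h2)
  · -- product
    intro y hy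
    have hc : H₁.IsComplement' (Cfsg.piCore (Cfsg.sigma M) ↥M) := by
      apply Subgroup.isComplement'_of_coprime
      · rw [hH₁c, ← hnpi, ← hcard]
      · rw [hH₁c, ← hnpi]; exact hcop
    obtain ⟨⟨⟨a, ha⟩, ⟨b, hb⟩⟩, hab, -⟩ := hc.existsUnique ⟨y, hy⟩
    refine ⟨(a : G), ⟨a, ha, rfl⟩, (b : G), ⟨b, hb, rfl⟩, ?_⟩
    have := congrArg Subtype.val hab
    simpa using this.symm
  · -- `A ≤ E'`
    intro y hy
    rw [mem_cj] at hy
    have h1 : (⟨(g : G)⁻¹ * y * (g : G), hA₀M hy⟩ : M) ∈ A₀.subgroupOf M :=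
      Subgroup.mem_subgroupOf.2 hy
    have h2 : MulAut.conj g • (⟨(g : G)⁻¹ * y * (g : G), hA₀M hy⟩ : M) ∈ MulAut.conj g • H₂ :=
      Subgroup.smul_mem_pointwise_smul _ _ _ (hK₂H₂ h1)
    rw [hg] at h2
    refine ⟨_, h2, ?_⟩
    simp [MulAut.smul_def, mul_assoc]
  · -- elementary abelian
    refine ⟨⟨⟨?_⟩⟩, ?_⟩
    · rintro ⟨a, ha⟩ ⟨b, hb⟩
      apply Subtype.ext
      rw [mem_cj] at ha hb
      have h1 := hA₀e.1.is_comm.comm ⟨_, ha⟩ ⟨_, hb⟩
      have h2 : (g : G)⁻¹ * a * (g : G) * ((g : G)⁻¹ * b * (g : G)) =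
          (g : G)⁻¹ * b * (g : G) * ((g : G)⁻¹ * a * (g : G)) := congrArg Subtype.val h1
      have h3 : (g : G)⁻¹ * (a * b) * (g : G) = (g : G)⁻¹ * (b * a) * (g : G) := by
        simpa [mul_assoc] using h2
      exact mul_left_cancel (mul_right_cancel h3)
    · intro a ha
      rw [mem_cj] at ha
      have h1 := hA₀e.2 _ ha
      have h2 : ((g : G)⁻¹ * a * (g : G)) ^ p = (g : G)⁻¹ * a ^ p * (g : G) := by
        have := conj_pow (a := (g : G)⁻¹) (b := a) (i := p)
        simpa using this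
      rw [h2] at h1
      have h3 : a ^ p = (g : G) * 1 * (g : G)⁻¹ := by
        rw [← h1]; group
      simpa using h3
  · rw [card_cj, hA₀c]

/-- **B-G Lemma 12.11** -/
theorem part4 (hG : Cfsg.IsMinSimpleOddOrder G) (hU : UniquenessThm G)
    (h125b : H125b G) (h125e : H125e G) (h126a : H126a G)
    {M : Subgroup G} (hM : IsCoatom M) {E : Subgroup G}
    (hE : Cfsg.IsComplIn E (Cfsg.sigmaCore M) M) (x : G) (hxM : x ∈ M) (hx1 : x ≠ 1)
    (hxτ : ∀ p : ℕ, p.Prime → p ∣ orderOf x → p ∈ Cfsg.tau2 M) (hxσ : x ∈ Cfsg.sigmaHat M) :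
    Subgroup.centralizer ({x} : Set G) ≤ M ∧
      ∀ L : Subgroup G, IsCoatom L → Subgroup.centralizer ({x} : Set G) ≤ L → L = M := by
  have h := eCtx_of hG hU hM hE
  -- the smallest prime divisor of the order of `x`
  have hox : orderOf x ≠ 1 := fun h1 => hx1 (orderOf_eq_one_iff.1 h1)
  set p := Nat.minFac (orderOf x) with hpdef
  have hp : p.Prime := Nat.minFac_prime hox
  have hpx : p ∣ orderOf x := Nat.minFac_dvd _
  have hpmin : ∀ q : ℕ, q.Prime → q ∣ orderOf x → p ≤ q := fun q hq hqx =>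
    Nat.minFac_le_of_dvd hq.two_le hqx
  have : Fact p.Prime := ⟨hp⟩
  obtain ⟨-, hpσ, hr2, hr1⟩ := hxτ p hp hpx
  have hp2 : p ≠ 2 := by
    intro h2
    have hd : 2 ∣ Nat.card G := by
      rw [← h2]; exact hpx.trans (orderOf_dvd_natCard x)
    exact (Nat.not_even_iff_odd.2 hG.1) (even_iff_two_dvd.2 hd)
  obtain ⟨E', A, hE', hxE', hAE', hAe, hAc⟩ :=
    exists_compl h hxM (fun q hq hqx => (hxτ q hq hqx).2.1) hpσ hr2 hr1
  have hAM : A ≤ M := hAE'.trans hE'.1
  have hnorm : E' ≤ Subgroup.normalizer (A : Set G) :=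
    h126a M hM E' hE' p hp (hxτ p hp hpx) A hAE' hAe hAc
  have hxN : x ∈ Subgroup.normalizer (A : Set G) := hnorm hxE'
  -- `x` centralizes `A`
  have hxC : x ∈ Subgroup.centralizer (A : Set G) := by
    obtain ⟨e, m', hpm', hoem⟩ :=
      Nat.exists_eq_pow_mul_and_not_dvd (orderOf_pos x).ne' p hp.ne_one
    have hcop : (p ^ e).Coprime m' :=
      Nat.Coprime.pow_left _ ((Nat.Prime.coprime_iff_not_dvd hp).2 hpm')
    have hm'0 : m' ≠ 0 := by
      rintro rfl
      rw [mul_zero] at hoem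
      exact (orderOf_pos x).ne' hoem
    -- the `p'`-part
    have h1 : x ^ (p ^ e) ∈ Subgroup.centralizer (A : Set G) := by
      have hord : orderOf (x ^ (p ^ e)) = m' := by
        rw [orderOf_pow' x (pow_pos hp.pos e).ne', hoem, Nat.gcd_eq_right (dvd_mul_right _ _),
          Nat.mul_div_cancel_left _ (pow_pos hp.pos e)]
      apply mem_centralizer_of_primes hAc m' _ hord (Subgroup.pow_mem _ hxN _)
      intro q hq hqm'
      have hqx : q ∣ orderOf x := hoem ▸ (hqm'.trans (dvd_mul_left _ _))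
      have hpq : p ≤ q := hpmin q hq hqx
      have hne : p ≠ q := by
        rintro rfl
        exact hpm' hqm'
      exact not_dvd_of_lt hp hp2 hq (lt_of_le_of_ne hpq hne)
    -- the `p`-part
    have h2 : x ^ m' ∈ Subgroup.centralizer (A : Set G) := by
      have hpow : (x ^ m') ^ (p ^ e) = 1 := by
        rw [← pow_mul, mul_comm, ← hoem, pow_orderOf_eq_one]
      have hyN : x ^ m' ∈ Subgroup.normalizer (A : Set G) := Subgroup.pow_mem _ hxN _
      set Z : Subgroup G := Subgroup.zpowers (x ^ m') with hZ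
      have hZp : IsPGroup p Z := by
        rintro ⟨z, hz⟩
        obtain ⟨k, rfl⟩ := Subgroup.mem_zpowers_iff.1 hz
        refine ⟨e, ?_⟩
        apply Subtype.ext
        simp only [Subgroup.coe_pow, Subgroup.coe_one]
        rw [← zpow_natCast, ← zpow_mul, mul_comm, zpow_mul, zpow_natCast, hpow, one_zpow]
      have hZN : Z ≤ Subgroup.normalizer (A : Set G) := by
        rw [hZ, Subgroup.zpowers_le]; exact hyN
      have hAp : IsPGroup p A := isPGroup_of_isElementaryAbelian hAe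
      have hYp : IsPGroup p (Z ⊔ A : Subgroup G) := IsPGroup.to_sup_of_normal_right' hZp hAp hZN
      have hZM : Z ≤ M := by
        rw [hZ, Subgroup.zpowers_le]; exact M.pow_mem hxM _
      have hYM : Z ⊔ A ≤ M := sup_le hZM hAM
      have hcomm := comm_of_pgroup_of_not_sigma hG hU h125b hM hp hpσ hYp hYM
      rw [Subgroup.mem_centralizer_iff]
      intro a ha
      exact hcomm a (Subgroup.mem_sup_right ha) (x ^ m')
        (Subgroup.mem_sup_left (Subgroup.mem_zpowers _))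
    exact Cfsg.Agent.Helper50.mem_of_pow_mem_of_coprime hcop h1 h2
  have hAx : A ≤ Subgroup.centralizer ({x} : Set G) := by
    intro a ha
    rw [Subgroup.mem_centralizer_iff]
    intro y hy
    rw [Set.mem_singleton_iff] at hy
    subst hy
    exact (Subgroup.mem_centralizer_iff.1 hxC a ha).symm
  obtain ⟨-, y, hyσ, hy1, hxy⟩ := hxσ
  have hyx : y ∈ Subgroup.centralizer ({x} : Set G) := by
    rw [Subgroup.mem_centralizer_iff]
    intro z hz
    rw [Set.mem_singleton_iff] at hz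
    subst hz
    exact hxy
  have huniq : ∀ L : Subgroup G, IsCoatom L → Subgroup.centralizer ({x} : Set G) ≤ L → L = M := by
    intro L hL hCL
    by_contra hne
    have h1 := h125e M hM p hp (hxτ p hp hpx) A hAM hAe hAc L hL hne (hAx.trans hCL)
    have h2 : y ∈ Cfsg.sigmaCore M ⊓ L := ⟨hyσ, hCL hyx⟩
    rw [h1, Subgroup.mem_bot] at h2
    exact hy1 h2
  refine ⟨?_, huniq⟩
  have hne : Subgroup.centralizer ({x} : Set G) ≠ ⊤ := by
    intro htop
    apply hx1
    have hc : x ∈ Subgroup.center G := by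
      rw [Subgroup.mem_center_iff]
      intro g
      have hg : g ∈ Subgroup.centralizer ({x} : Set G) := by rw [htop]; trivial
      exact (Subgroup.mem_centralizer_iff.1 hg x rfl).symm
    rw [center_eq_bot_of_minSimple hG, Subgroup.mem_bot] at hc
    exact hc
  obtain ⟨L, hL, hCL⟩ := (eq_top_or_exists_le_coatom _).resolve_left hne
  rw [← huniq L hL hCL]
  exact hCL

/-- **B-G Lemmas 12.8 - 12.11** (statement S1420), from the statement-shaped hypotheses -/
theorem main (hG : Cfsg.IsMinSimpleOddOrder G) (hU : UniquenessThm G)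
    (h101 : H101 G) (h124 : H124 G) (h125b : H125b G) (h125e : H125e G) (h126a : H126a G)
    (M : Subgroup G) (hM : IsCoatom M) (E : Subgroup G)
    (hE : Cfsg.IsComplIn E (Cfsg.sigmaCore M) M) :
    (∀ N : Subgroup G, N ≤ M → Group.IsNilpotent N →
        (∀ p : ℕ, p.Prime → p ∣ Nat.card N → p ∉ Cfsg.sigma M) → IsMulCommutative N) ∧
      IsMulCommutative ↥⁅E, E⁆ ∧
      (∀ (p : ℕ) (P : Subgroup G), p ∈ Cfsg.sigma M → IsPGroup p P → P ≤ M → ¬ IsCyclic P →
        Subgroup.normalizer (P : Set G) ≤ M) ∧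
      ∀ x ∈ M, x ≠ 1 → (∀ p : ℕ, p.Prime → p ∣ orderOf x → p ∈ Cfsg.tau2 M) →
        x ∈ Cfsg.sigmaHat M →
        Subgroup.centralizer ({x} : Set G) ≤ M ∧
          ∀ L : Subgroup G, IsCoatom L → Subgroup.centralizer ({x} : Set G) ≤ L → L = M :=
  ⟨fun N hNM hNn hNσ => part1 hG hU h125b hM N hNM hNn hNσ,
    part2 hG hU h125b hM hE,
    fun p P hpσ hP hPM hnc => part3 hG h101 h124 hM p P hpσ hP hPM hnc,
    fun x hxM hx1 hxτ hxσ => part4 hG hU h125b h125e h126a hM hE x hxM hx1 hxτ hxσ⟩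

end main

end Cfsg.Agent.Helper54.BG128
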