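import Cfsg.Agent.Helper54.BG1213W2b
import Cfsg.Agent.S1403
import Cfsg.Agent.S1408
import Cfsg.Agent.S1410
import Cfsg.Agent.S1418
import Cfsg.Agent.S1420

/-!
# W2b for S1421 with the black boxes instantiated (helper54): for `p ∈ τ₂(M)` with abelian Sylow
`p`-subgroups in `G`, the Sylow `p`-subgroup of the complement `E` is normal in `E`.
-/

set_option autoImplicit false

namespace Cfsg.Agent.Helper54.W2

open Cfsg

theorem sylow_normal_of_tau2 {G : Type*} [Group G] [Finite G]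
    (hG : Cfsg.IsMinSimpleOddOrder G) (M : Subgroup G) (hM : IsCoatom M) (E : Subgroup G)
    (hE : Cfsg.IsComplIn E (Cfsg.sigmaCore M) M) (p : ℕ) [Fact p.Prime] (hp : p ∈ Cfsg.tau2 M)
    (hSyl : ∀ S : Sylow p G, IsMulCommutative (S : Subgroup G))
    (A : Subgroup G) (hA : A ≤ E ∧ Cfsg.IsElementaryAbelian p A ∧ Nat.card A = p ^ 2)
    (S : Subgroup G) (hSE : S ≤ E) (hSp : IsPGroup p S)
    (hSmax : ∀ Q : Subgroup G, S ≤ Q → Q ≤ E → IsPGroup p Q → Q ≤ S) :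
    E ≤ Subgroup.normalizer (S : Set G) := by
  have hU : Cfsg.Agent.Helper29.BG10.UniquenessThm G :=
    fun K hK hK2 hK3 => Cfsg.Agent.S1403.result hG K hK hK2 hK3
  have hPL : Cfsg.Agent.Helper22.BGCor107.PLenOne G :=
    fun q _ H hH => Cfsg.Agent.S1410.result hG q H hH
  have hctx := Cfsg.Agent.Helper68.BG12.eCtx_of hG hU hM hE
  have hAmax := (Cfsg.Agent.S1408.result hG M hM p hp.2.1 hp.2.2.1 hp.2.2.2).2 A
    (hA.1.trans hE.1) hA.2.1 hA.2.2
  obtain ⟨⟨hEA, -⟩, ⟨hC, hME, -⟩, -⟩ := Cfsg.Agent.S1418.result hG M hM E hE p hp A hA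
  have hCAE : Subgroup.centralizer (A : Set G) ≤ E := by
    rw [← hME]; exact hC
  obtain ⟨h1, h2, -, -⟩ := Cfsg.Agent.S1420.result hG M hM E hE
  have hEab : ∀ (q : ℕ) (Y : Subgroup G), q.Prime → Y ≤ E → IsPGroup q Y →
      ∀ a ∈ Y, ∀ b ∈ Y, a * b = b * a := by
    intro q Y hq hYE hYq a ha b hb
    haveI : Fact q.Prime := ⟨hq⟩
    haveI := h1 Y (hYE.trans hE.1) hYq.isNilpotent (fun r hr hrY =>
      hctx.not_sigma_of_dvd r hr (hrY.trans (Subgroup.card_dvd_of_le hYE)))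
    exact setLike_mul_comm ha hb
  have hE'ab : ∀ a ∈ ⁅E, E⁆, ∀ b ∈ ⁅E, E⁆, a * b = b * a := by
    intro a ha b hb
    haveI := h2
    exact setLike_mul_comm ha hb
  exact sylow_normal_in_E hG hU hPL hSyl hA.2.1 hA.2.2 hAmax hEA hCAE hctx.rankLE_two hEab hE'ab
    hSE hSp hSmax

end Cfsg.Agent.Helper54.W2
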