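import Mathlib
import Cfsg.Agent.Helper17.G5040a
import Cfsg.Agent.Helper43.ClassCount
import Cfsg.Agent.Helper70.PCount7
import Cfsg.Agent.Helper89.Kill240
import Cfsg.Agent.S1019

/-!
# Order 5040, case `n_5 = 126`: conjugates of a central involution of `C(P_5)` (helper17's #5040-D)
-/

set_option autoImplicit false
set_option linter.style.haveILetI false
set_option linter.unusedSectionVars false

namespace Cfsg.Agent.Helper54.G5040D

open Subgroup

variable {G : Type*} [Group G] [Finite G] [IsSimpleGroup G]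

theorem conj_unique_in_C5 (hcard : Nat.card G = 5040) (P : Sylow 5 G)
    (h126 : Nat.card (Sylow 5 G) = 126) (c : G) (hc : orderOf c = 2)
    (hcP : c ∈ Subgroup.centralizer ((P : Subgroup G) : Set G))
    (hC : Nat.card (Subgroup.centralizer ({c} : Set G)) = 40 ∨
      Nat.card (Subgroup.centralizer ({c} : Set G)) = 240) :
    ∀ g : G, g * c * g⁻¹ ∈ Subgroup.centralizer ((P : Subgroup G) : Set G) →
      g * c * g⁻¹ = c := by
  classical
  haveI : Fact (Nat.Prime 5) := ⟨by norm_num⟩
  letI : Fintype G := Fintype.ofFinite G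
  obtain ⟨hP5, hN40, hC5⟩ := Cfsg.Agent.Helper17.G5040.local5 hcard P h126
  set N := normalizer ((P : Subgroup G) : Set G) with hN
  set C5 := centralizer ((P : Subgroup G) : Set G) with hC5def
  have hC5N : C5 ≤ N := centralizer_le_normalizer _
  have hPN : (P : Subgroup G) ≤ N := le_normalizer
  have hcN : c ∈ N := hC5N hcP
  have hidx : N.index = 126 := by
    have := N.card_mul_index
    rw [hN40, hcard] at this
    omega
  -- (1) the fixed point count is `1 mod 5`
  obtain ⟨m0, hF1, -⟩ :=
    Cfsg.Agent.Helper17.fix_count (by rw [hcard]; norm_num) P hP5 c hc hcP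
  -- (2) the fixed point formula
  have h19 := Cfsg.Agent.S1019.result N c hcN
  have hcls : Nat.card {g : G // IsConj c g} * Nat.card (centralizer ({c} : Set G)) = 5040 := by
    rw [← hcard, ← Cfsg.Agent.Helper43.card_class_mul_card_centralizer c]
    congr 1
    apply Nat.card_congr
    exact Equiv.subtypeEquivRight (fun x => by
      rw [ConjClasses.mk_eq_mk_iff_isConj]
      exact ⟨fun h => h.symm, fun h => h.symm⟩)
  have hm5 : Nat.card {g : G // IsConj c g ∧ g ∈ N} % 5 = 1 := by
    rw [hidx] at h19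
    have hF1' : Nat.card (MulAction.fixedBy (G ⧸ N) c) % 5 = 1 % 5 := hF1
    rcases hC with h | h
    · have h1 : Nat.card {g : G // IsConj c g} = 126 := by rw [h] at hcls; omega
      rw [h1] at h19
      omega
    · have h1 : Nat.card {g : G // IsConj c g} = 21 := by rw [h] at hcls; omega
      rw [h1] at h19
      omega
  -- (3) `P` acts by conjugation
  letI : MulAction ↥(P : Subgroup G) G :=
    MulAction.compHom G ((MulAut.conj (G := G)).comp (P : Subgroup G).subtype)
  have hsmul : ∀ (a : ↥(P : Subgroup G)) (g : G), a • g = (a : G) * g * (a : G)⁻¹ :=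
    fun a g => rfl
  set A : Finset G := Finset.univ.filter (fun g => IsConj c g ∧ g ∈ N) with hA
  set B : Finset G := Finset.univ.filter (fun g => IsConj c g ∧ g ∈ C5) with hB
  have hAcard : A.card = Nat.card {g : G // IsConj c g ∧ g ∈ N} := by
    rw [Nat.card_eq_fintype_card, Fintype.card_subtype]
  have hinv : ∀ a : ↥(P : Subgroup G), ∀ t ∈ A, a • t ∈ A := by
    intro a t ht
    rw [hA, Finset.mem_filter] at ht ⊢
    refine ⟨Finset.mem_univ _, ?_, ?_⟩
    · rw [hsmul]
      exact ht.2.1.trans (isConj_iff.2 ⟨(a : G), rfl⟩)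
    · rw [hsmul]
      exact N.mul_mem (N.mul_mem (hPN a.2) ht.2.2) (N.inv_mem (hPN a.2))
  have h1 : A.card % 5 = B.card % 5 := by
    have h0 := Cfsg.Agent.Helper70.PCount.card_modEq_card_fixed (p := 5) P.isPGroup' A hinv
    unfold Nat.ModEq at h0
    rw [h0]
    congr 2
    rw [Finset.filter_congr_decidable]
    ext g
    rw [Finset.mem_filter]
    simp only [hA, hB, Finset.mem_filter, Finset.mem_univ, true_and]
    constructor
    · rintro ⟨⟨hcg, hgN⟩, hfix⟩
      refine ⟨hcg, ?_⟩
      rw [hC5def, mem_centralizer_iff]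
      intro a ha
      have h2 := hfix ⟨a, ha⟩
      rw [hsmul] at h2
      change a * g * a⁻¹ = g at h2
      calc a * g = (a * g * a⁻¹) * a := by group
        _ = g * a := by rw [h2]
    · rintro ⟨hcg, hgC⟩
      refine ⟨⟨hcg, hC5N hgC⟩, fun a => ?_⟩
      rw [hsmul]
      have h2 := (mem_centralizer_iff.1 hgC) (a : G) a.2
      rw [h2]; group
  rw [hAcard] at h1
  -- (4) `5 * |B| ≤ |C5|`
  have hordB : ∀ x ∈ B, x ^ 2 = 1 ∧ x ∈ C5 := by
    intro x hx
    rw [hB, Finset.mem_filter] at hx
    refine ⟨?_, hx.2.2⟩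
    obtain ⟨g, hg⟩ := isConj_iff.1 hx.2.1
    rw [← hg, conj_pow, ← hc, pow_orderOf_eq_one]
    group
  have hpow5 : ∀ a ∈ (P : Subgroup G), a ^ 5 = 1 := by
    intro a ha
    have := orderOf_dvd_natCard (⟨a, ha⟩ : ↥(P : Subgroup G))
    rw [hP5] at this
    have h3 : (⟨a, ha⟩ : ↥(P : Subgroup G)) ^ 5 = 1 := orderOf_dvd_iff_pow_eq_one.1 this
    exact congrArg Subtype.val h3
  have hinj : Function.Injective
      (fun xa : {x : G // x ∈ B} × ↥(P : Subgroup G) =>
        (⟨(xa.1 : G) * (xa.2 : G), C5.mul_mem (hordB _ xa.1.2).2 (by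
          rw [hC5def, mem_centralizer_iff]
          intro b hb
          -- `P` is abelian of order 5
          have hcomm : ∀ u ∈ (P : Subgroup G), ∀ v ∈ (P : Subgroup G), u * v = v * u := by
            intro u hu v hv
            haveI : IsCyclic ↥(P : Subgroup G) := isCyclic_of_prime_card hP5
            have := (IsCyclic.isMulCommutative (α := ↥(P : Subgroup G))).is_comm.comm
              ⟨u, hu⟩ ⟨v, hv⟩
            exact congrArg Subtype.val this
          exact hcomm b hb _ xa.2.2)⟩ : ↥C5)) := by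
    rintro ⟨⟨x, hx⟩, ⟨a, ha⟩⟩ ⟨⟨x', hx'⟩, ⟨a', ha'⟩⟩ h
    have h2 : x * a = x' * a' := congrArg Subtype.val h
    have key : ∀ z ∈ B, ∀ b ∈ (P : Subgroup G), (z * b) ^ 5 = z := by
      intro z hz b hb
      obtain ⟨hz2, hzC⟩ := hordB z hz
      have hcm : Commute z b := ((mem_centralizer_iff.1 hzC) b hb).symm
      rw [hcm.mul_pow, hpow5 b hb, mul_one]
      calc z ^ 5 = (z ^ 2) ^ 2 * z := by group
        _ = z := by rw [hz2, one_pow, one_mul]
    have hxx : x = x' := by
      rw [← key x hx a ha, ← key x' hx' a' ha', h2]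
    subst hxx
    have haa : a = a' := mul_left_cancel h2
    subst haa
    rfl
  have hle := Nat.card_le_card_of_injective _ hinj
  rw [Nat.card_prod, hP5] at hle
  have hBc : Nat.card {x : G // x ∈ B} = B.card := by
    rw [Nat.card_eq_fintype_card, Fintype.card_coe]
  rw [hBc] at hle
  have hBone : B.card = 1 := by
    rcases hC5 with h | h <;> rw [h] at hle <;> omega
  -- conclusion
  obtain ⟨b, hb⟩ := Finset.card_eq_one.1 hBone
  intro g hg
  have hcB : c ∈ B := by
    rw [hB, Finset.mem_filter]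
    exact ⟨Finset.mem_univ _, IsConj.refl c, hcP⟩
  have hgB : g * c * g⁻¹ ∈ B := by
    rw [hB, Finset.mem_filter]
    exact ⟨Finset.mem_univ _, isConj_iff.2 ⟨g, rfl⟩, hg⟩
  rw [hb, Finset.mem_singleton] at hcB hgB
  rw [hgB, hcB]

theorem kill_126_240 (hcard : Nat.card G = 5040) (P : Sylow 5 G)
    (h126 : Nat.card (Sylow 5 G) = 126) (c : G) (hc : orderOf c = 2)
    (hcP : c ∈ Subgroup.centralizer ((P : Subgroup G) : Set G))
    (hC : Nat.card (Subgroup.centralizer ({c} : Set G)) = 240) : False :=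
  Cfsg.Agent.Helper89.Kill240.kill_240 hcard P c hc hcP hC
    (conj_unique_in_C5 hcard P h126 c hc hcP (Or.inr hC))

end Cfsg.Agent.Helper54.G5040D
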