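import Mathlib
import Cfsg.Agent.Helper12.OrbitalGen
import Cfsg.Agent.Helper12.PermCharBasics

/-!
# (U2) for helper20 / S0420: `∑ χ(1) ⟨θ_R, χ⟩²` counts the symmetric pairs of an orbital
in the multiplicity-free case (helper54)
-/

set_option autoImplicit false

namespace Cfsg.Agent.Helper54.OrbU

open Cfsg Module LinearMap Cfsg.Agent.Helper12.Orbital Cfsg.Agent.Helper12.OrbitalGen
  Cfsg.Agent.Helper12.PermCharBasics
open scoped ComplexConjugate

universe u v

variable {G : Type u} [Group G] [Fintype G] {Ω : Type v} [Fintype Ω] [DecidableEq Ω]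
  [MulAction G Ω] (R : Ω → Ω → Prop) [DecidableRel R]

/-- The class function `g ↦ tr (adj R ∘ adj R ∘ π(g))`. -/
noncomputable def theta2 (g : G) : ℂ :=
  trace ℂ _ ((adj R ∘ₗ adj R) ∘ₗ permRep ℂ G Ω g)

omit [Fintype G] in
theorem adj2_comm (hR : ∀ (g : G) x y, R (g • x) (g • y) ↔ R x y) (g : G) :
    (adj R ∘ₗ adj R) ∘ₗ permRep ℂ G Ω g = permRep ℂ G Ω g ∘ₗ (adj R ∘ₗ adj R) := by
  rw [LinearMap.comp_assoc, adj_comm G R hR g, ← LinearMap.comp_assoc, adj_comm G R hR g,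
    LinearMap.comp_assoc]

omit [Fintype G] in
theorem theta2_isClassFunction (hR : ∀ (g : G) x y, R (g • x) (g • y) ↔ R x y) :
    IsClassFunction G (theta2 (G := G) R) := by
  intro g h
  unfold theta2
  have h1 : permRep ℂ G Ω (h * g * h⁻¹) =
      permRep ℂ G Ω h * (permRep ℂ G Ω g * permRep ℂ G Ω h⁻¹) := by
    rw [map_mul, map_mul, mul_assoc]
  have h3 : (adj R ∘ₗ adj R) ∘ₗ permRep ℂ G Ω (h * g * h⁻¹) =
      permRep ℂ G Ω h * ((adj R ∘ₗ adj R) * (permRep ℂ G Ω g * permRep ℂ G Ω h⁻¹)) := by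
    rw [h1]
    have key : (adj R ∘ₗ adj R) * permRep ℂ G Ω h = permRep ℂ G Ω h * (adj R ∘ₗ adj R) :=
      adj2_comm R hR h
    change (adj R ∘ₗ adj R) * (permRep ℂ G Ω h * (permRep ℂ G Ω g * permRep ℂ G Ω h⁻¹)) = _
    rw [← mul_assoc, key, mul_assoc]
  rw [h3, LinearMap.trace_mul_comm, mul_assoc, mul_assoc, ← map_mul, inv_mul_cancel, map_one,
    mul_one]
  rfl

omit [Fintype G] in
theorem theta2_one :
    theta2 (G := G) R 1 =
      ((Finset.univ.filter fun p : Ω × Ω => R p.1 p.2 ∧ R p.2 p.1).card : ℂ) := by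
  unfold theta2
  rw [map_one, trace_pi]
  simp only [LinearMap.comp_apply, Module.End.one_apply, adj_apply, Pi.single_apply]
  rw [Finset.card_filter, Nat.cast_sum, Fintype.sum_prod_type]
  refine Finset.sum_congr rfl fun x _ => ?_
  refine Finset.sum_congr rfl fun y _ => ?_
  by_cases h1 : R x y
  · rw [if_pos h1, Finset.sum_eq_single x]
    · by_cases h2 : R y x <;> simp [h1, h2]
    · intro z _ hz
      simp [hz]
    · intro hx; exact absurd (Finset.mem_univ _) hx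
  · simp [h1]

theorem classInner_theta2_rep {n : ℕ} (ρ : Representation ℂ G (Fin n → ℂ)) :
    classInner (theta2 (G := G) R) ρ.character =
      (Nat.card G : ℂ)⁻¹ *
        ∑ g : G, trace ℂ _ ((adj R ∘ₗ adj R) ∘ₗ permRep ℂ G Ω g) * ρ.character g⁻¹ := by
  unfold classInner
  congr 1
  refine Finset.sum_congr rfl fun g _ => ?_
  rw [Helper74.char_inv_rep]
  rfl

theorem classInner_theta2_eq_sq (hR : ∀ (g : G) x y, R (g • x) (g • y) ↔ R x y)
    (χ : IrrCharacter G)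
    (hmf : classInner (permChar G Ω) (χ : G → ℂ) = 0 ∨
      classInner (permChar G Ω) (χ : G → ℂ) = 1) :
    classInner (theta2 (G := G) R) (χ : G → ℂ) =
      classInner (theta (G := G) R) (χ : G → ℂ) ^ 2 := by
  obtain ⟨χ, hχ⟩ := χ
  have hχ' := hχ
  obtain ⟨n, ρ, hirr, rfl⟩ := hχ
  simp only at hmf ⊢
  rcases hmf with h0 | h1
  · rw [classInner_theta_eq_zero R hR hχ' h0]
    rw [classInner_theta2_rep]
    change classInner (fun g : G => (Nat.card (MulAction.fixedBy Ω g) : ℂ)) ρ.character = 0 at h0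
    rw [classInner_perm_rep] at h0
    rw [Cfsg.Agent.Helper12.HomTrace.twisted_eq_zero ρ (permRep ℂ G Ω) (adj R ∘ₗ adj R) (adj2_comm R hR)
      (by exact_mod_cast h0)]
    ring
  · change classInner (fun g : G => (Nat.card (MulAction.fixedBy Ω g) : ℂ)) ρ.character = 1 at h1
    rw [classInner_perm_rep] at h1
    have hone : Module.finrank ℂ (Representation.linHom ρ (permRep ℂ G Ω)).invariants = 1 := by
      exact_mod_cast h1
    have hpos : 0 < Module.finrank ℂ (Representation.linHom ρ (permRep ℂ G Ω)).invariants := by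
      rw [hone]; exact Nat.one_pos
    obtain ⟨e, he⟩ := (Module.finrank_pos_iff_exists_ne_zero (R := ℂ)
      (M := ↥(Representation.linHom ρ (permRep ℂ G Ω)).invariants)).mp hpos
    have hφ : (e : (Fin n → ℂ) →ₗ[ℂ] (Ω → ℂ)) ∈
        (Representation.linHom ρ (permRep ℂ G Ω)).invariants := e.2
    have hφ0 : (e : (Fin n → ℂ) →ₗ[ℂ] (Ω → ℂ)) ≠ 0 := fun h => he (Subtype.ext h)
    have e1 := adj_comp_eq_smul R hR ρ hone hφ
    have e2 := comp_eq_twisted_smul ρ (permRep ℂ G Ω) (adj R ∘ₗ adj R) (adj2_comm R hR) hone hφ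
    rw [classInner_theta2_rep]
    set c := (Nat.card G : ℂ)⁻¹ *
        ∑ g : G, trace ℂ _ ((adj R ∘ₗ adj R) ∘ₗ permRep ℂ G Ω g) * ρ.character g⁻¹ with hc
    set t := classInner (theta (G := G) R) ρ.character with ht
    have e3 : (adj R ∘ₗ adj R) ∘ₗ (e : (Fin n → ℂ) →ₗ[ℂ] (Ω → ℂ)) =
        (t ^ 2) • (e : (Fin n → ℂ) →ₗ[ℂ] (Ω → ℂ)) := by
      rw [LinearMap.comp_assoc, e1, LinearMap.comp_smul, e1, smul_smul, sq]
    rw [e3] at e2
    have h4 : (t ^ 2 - c) • (e : (Fin n → ℂ) →ₗ[ℂ] (Ω → ℂ)) = 0 := by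
      have h6 : (t ^ 2 - c) • (e : (Fin n → ℂ) →ₗ[ℂ] (Ω → ℂ)) =
          (t ^ 2) • (e : (Fin n → ℂ) →ₗ[ℂ] (Ω → ℂ)) - c • (e : (Fin n → ℂ) →ₗ[ℂ] (Ω → ℂ)) := by
        module
      rw [h6, e2, sub_self]
    rcases smul_eq_zero.mp h4 with h5 | h5
    · exact (sub_eq_zero.mp h5).symm
    · exact absurd h5 hφ0

theorem sum_deg_mul_theta_sq [Fintype (IrrCharacter G)]
    (hR : ∀ (g : G) x y, R (g • x) (g • y) ↔ R x y)
    (hmf : ∀ χ : IrrCharacter G, classInner (permChar G Ω) (χ : G → ℂ) = 0 ∨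
      classInner (permChar G Ω) (χ : G → ℂ) = 1) :
    ∑ χ : IrrCharacter G, (χ : G → ℂ) 1 * classInner (theta (G := G) R) (χ : G → ℂ) ^ 2 =
      ((Finset.univ.filter fun p : Ω × Ω => R p.1 p.2 ∧ R p.2 p.1).card : ℂ) := by
  rw [← theta2_one (G := G) R]
  have h := congrFun (Helper74.classFunction_eq_sum_irr (theta2_isClassFunction (G := G) R hR)) 1
  rw [h]
  simp only [Finset.sum_apply, Pi.smul_apply, smul_eq_mul]
  refine Finset.sum_congr rfl fun χ _ => ?_
  rw [classInner_theta2_eq_sq R hR χ (hmf χ), mul_comm]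

end Cfsg.Agent.Helper54.OrbU
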