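import Mathlib
import Cfsg.Agent.Helper12.OrbitalGen
import Cfsg.Agent.Helper12.PermCharBasics

/-!
# (U1) for helper20 / S0420: quadratic relation for the adjacency operator of an orbital
in the multiplicity-free case (helper54)
-/

set_option autoImplicit false

namespace Cfsg.Agent.Helper54.OrbU

open Cfsg Module LinearMap Cfsg.Agent.Helper12.Orbital Cfsg.Agent.Helper12.OrbitalGen
  Cfsg.Agent.Helper12.PermCharBasics

universe u v

variable {G : Type u} [Group G] [Fintype G] {Ω : Type v} [Fintype Ω] [DecidableEq Ω]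
  [MulAction G Ω] (R : Ω → Ω → Prop) [DecidableRel R]

omit [Fintype G] [Fintype Ω] [DecidableEq Ω] in
/-- An intertwiner `φ ∘ τ g = permRep g ∘ φ` is an invariant of `linHom τ permRep`. -/
theorem mem_invariants_of_comm {U : Type v} [AddCommGroup U] [Module ℂ U]
    (τ : Representation ℂ G U) (φ : U →ₗ[ℂ] (Ω → ℂ))
    (hφ : ∀ g, φ ∘ₗ τ g = permRep ℂ G Ω g ∘ₗ φ) :
    φ ∈ (Representation.linHom τ (permRep ℂ G Ω)).invariants := by
  intro g
  rw [Representation.linHom_apply]
  ext v x
  have := congrArg (fun F => F (τ g⁻¹ v) x) (hφ g)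
  simp only [LinearMap.comp_apply] at this ⊢
  rw [← this, ← Module.End.mul_apply, ← map_mul, mul_inv_cancel, map_one]
  rfl

theorem adj_comp_adj_eq (hR : ∀ (g : G) x y, R (g • x) (g • y) ↔ R x y) (p q : ℂ)
    (h : ∀ χ : G → ℂ, IsIrrCharacter G χ → classInner (permChar G Ω) χ ≠ 0 →
      classInner (permChar G Ω) χ = 1 ∧
        classInner (theta (G := G) R) χ ^ 2 = p * classInner (theta (G := G) R) χ + q) :
    adj R ∘ₗ adj R = p • adj R + q • (LinearMap.id : (Ω → ℂ) →ₗ[ℂ] (Ω → ℂ)) := by
  have hN : adj R ∘ₗ adj R - p • adj R - q • (LinearMap.id : (Ω → ℂ) →ₗ[ℂ] (Ω → ℂ)) = 0 := by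
    refine eq_zero_of_comp_irr (permRep ℂ G Ω) _ ?_
    intro U _ _ _ τ hτ φ hφ
    by_cases hφ0 : φ = 0
    · rw [hφ0, LinearMap.comp_zero]
    have hmem : φ ∈ (Representation.linHom τ (permRep ℂ G Ω)).invariants :=
      mem_invariants_of_comm τ φ hφ
    have hirr : IsIrrCharacter G τ.character := Helper74.isIrrCharacter_of_rep τ hτ
    have hfin := classInner_perm_rep' (Ω := Ω) τ
    have hpos : Module.finrank ℂ (Representation.linHom τ (permRep ℂ G Ω)).invariants ≠ 0 := by
      intro h0
      have : Subsingleton (Representation.linHom τ (permRep ℂ G Ω)).invariants :=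
        Module.finrank_zero_iff.mp h0
      have h1 : (⟨φ, hmem⟩ : (Representation.linHom τ (permRep ℂ G Ω)).invariants) = 0 :=
        Subsingleton.elim _ _
      exact hφ0 (congrArg Subtype.val h1)
    have hne : Cfsg.classInner (permChar G Ω) τ.character ≠ 0 := by
      change Cfsg.classInner (fun g : G => (Nat.card (MulAction.fixedBy Ω g) : ℂ))
        τ.character ≠ 0
      rw [hfin]
      exact_mod_cast hpos
    obtain ⟨h1, hquad⟩ := h _ hirr hne
    have hone : Module.finrank ℂ (Representation.linHom τ (permRep ℂ G Ω)).invariants = 1 := by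
      change Cfsg.classInner (fun g : G => (Nat.card (MulAction.fixedBy Ω g) : ℂ))
        τ.character = 1 at h1
      rw [hfin] at h1
      exact_mod_cast h1
    have e1 := adj_comp_eq_smul R hR τ hone hmem
    set e := classInner (theta (G := G) R) τ.character with he
    have e2 : (adj R ∘ₗ adj R) ∘ₗ φ = (e ^ 2) • φ := by
      rw [LinearMap.comp_assoc, e1, LinearMap.comp_smul, e1, smul_smul, sq]
    rw [LinearMap.sub_comp, LinearMap.sub_comp, e2, LinearMap.smul_comp, e1,
      LinearMap.smul_comp, LinearMap.id_comp, smul_smul, hquad]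
    module
  have h1 := sub_eq_zero.mp hN
  have h2 := sub_eq_iff_eq_add.mp h1
  rw [h2, add_comm]

end Cfsg.Agent.Helper54.OrbU
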