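import Mathlib

set_option autoImplicit false
set_option linter.style.haveILetI false
set_option linter.unusedVariables false

/-!
# Norm arguments for Frobenius-like actions (helper54)

* `pair_prod`: a commutative pairing lemma;
* `exists_fixed_norm`: in a group of class at most two and odd order, the ordered norm of an element
  under an automorphism of finite order is fixed up to a central commutator factor;
* `frob_sum`: the Frobenius sum argument.
-/

namespace Cfsg.Agent.Helper54.FA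

open Finset

section comm

variable {D : Type*} [CommGroup D]

theorem div_iterate_mem (σ : D →* D) (z : D) (j : ℕ) :
    ∃ w : D, z / (σ^[j] z) = w / σ w := by
  induction j with
  | zero => exact ⟨1, by simp⟩
  | succ j ih =>
    obtain ⟨w, hw⟩ := ih
    refine ⟨z * σ w, ?_⟩
    rw [Function.iterate_succ_apply', map_mul]
    have h1 : σ (z / σ^[j] z) = σ (w / σ w) := by rw [hw]
    rw [map_div, map_div] at h1
    -- σ z / σ^[j+1] z = σ w / σ (σ w)
    have h2 : σ (σ^[j] z) = σ z / (σ w / σ (σ w)) := by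
      rw [← h1]; simp
    rw [h2]
    simp only [div_eq_mul_inv, mul_inv_rev, inv_inv]
    have : z * (σ w * (σ (σ w))⁻¹ * (σ z)⁻¹) = z * σ w * ((σ (σ w))⁻¹ * (σ z)⁻¹) := by
      simp only [mul_assoc]
    rw [this]

/-- The pairing lemma: if `γ (n - i) = (σ^[n-i] (γ i))⁻¹` and everything has odd order, then the product of
the `γ i` is of the form `z / σ z`. -/
theorem pair_prod (σ : D →* D) (γ : ℕ → D) (n : ℕ) (h0 : γ 0 = 1)
    (hpair : ∀ i, 0 < i → i < n → γ (n - i) = (σ^[n - i] (γ i))⁻¹)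
    (m : ℕ) (hm : Odd m) (hexp : ∀ d : D, d ^ m = 1) :
    ∃ z : D, ∏ i ∈ range n, γ i = z / σ z := by
  set τ : D →* D := MonoidHom.id D / σ with hτ
  have hτapp : ∀ z, τ z = z / σ z := fun z => rfl
  set c := ∏ i ∈ range n, γ i with hc
  have hpairmem : ∀ i, 0 < i → i < n → γ i * γ (n - i) ∈ τ.range := by
    intro i hi hin
    rw [hpair i hi hin, ← div_eq_mul_inv]
    obtain ⟨w, hw⟩ := div_iterate_mem σ (γ i) (n - i)
    exact ⟨w, by rw [hτapp, hw]⟩
  have hsq : c * c ∈ τ.range := by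
    rcases Nat.eq_zero_or_pos n with hn | hn
    · rw [hc, hn]; simp
    obtain ⟨k, rfl⟩ : ∃ k, n = k + 1 := ⟨n - 1, by omega⟩
    have e1 : c = ∏ i ∈ range k, γ (i + 1) := by
      rw [hc, Finset.prod_range_succ', h0, mul_one]
    have e2 : c = ∏ i ∈ range k, γ (k - 1 - i + 1) := by
      rw [e1]
      exact (Finset.prod_range_reflect (fun i => γ (i + 1)) k).symm
    have e3 : c * c = ∏ i ∈ range k, (γ (i + 1) * γ (k - 1 - i + 1)) := by
      rw [Finset.prod_mul_distrib, ← e1, ← e2]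
    rw [e3]
    apply Subgroup.prod_mem
    intro i hi
    have hik : i < k := Finset.mem_range.mp hi
    have := hpairmem (i + 1) (by omega) (by omega)
    have e4 : k + 1 - (i + 1) = k - 1 - i + 1 := by omega
    rw [e4] at this
    exact this
  obtain ⟨r, hr⟩ := hm
  have hcm : c = (c * c) ^ (r + 1) := by
    have : (c * c) ^ (r + 1) = c ^ m * c := by
      rw [hr, ← pow_two, ← pow_mul, ← pow_succ]
      congr 1
    rw [this, hexp, one_mul]
  have : c ∈ τ.range := by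
    rw [hcm]
    exact Subgroup.pow_mem _ hsq _
  obtain ⟨z, hz⟩ := this
  exact ⟨z, by rw [← hz, hτapp]⟩

end comm

section norm

variable {U : Type*} [Group U]

/-- The ordered norm `u * σ u * ⋯ * σ^(k-1) u`. -/
def nrm (σ : MulAut U) (u : U) : ℕ → U
  | 0 => 1
  | (k + 1) => nrm σ u k * (σ ^ k) u

theorem nrm_zero (σ : MulAut U) (u : U) : nrm σ u 0 = 1 := rfl

theorem nrm_succ (σ : MulAut U) (u : U) (k : ℕ) : nrm σ u (k + 1) = nrm σ u k * (σ ^ k) u := rfl

theorem nrm_succ' (σ : MulAut U) (u : U) (k : ℕ) : nrm σ u (k + 1) = u * σ (nrm σ u k) := by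
  induction k with
  | zero => simp [nrm]
  | succ k ih =>
    calc nrm σ u (k + 1 + 1) = nrm σ u (k + 1) * (σ ^ (k + 1)) u := rfl
      _ = u * σ (nrm σ u k) * (σ ^ (k + 1)) u := by rw [ih]
      _ = u * σ (nrm σ u k * (σ ^ k) u) := by
        rw [map_mul, pow_succ', MulAut.mul_apply, mul_assoc]
      _ = u * σ (nrm σ u (k + 1)) := rfl

open scoped IsMulCommutative in
/-- In a group whose commutators lie in a central `σ`-invariant subgroup `D` of odd exponent, the ordered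
norm of `u` under `σ` (with `σ ^ n` fixing `u`) becomes `σ`-fixed after multiplying by an element of `D`. -/
theorem exists_fixed_norm (σ : MulAut U) (D : Subgroup U)
    (hDc : ∀ d ∈ D, ∀ x : U, d * x = x * d)
    (hDcomm : ∀ x y : U, x⁻¹ * y * x * y⁻¹ ∈ D)
    (hDσ : ∀ d ∈ D, σ d ∈ D)
    (u : U) (n : ℕ) (hσn : (σ ^ n) u = u)
    (m : ℕ) (hm : Odd m) (hexp : ∀ d ∈ D, d ^ m = 1) :
    ∃ z ∈ D, σ (nrm σ u n * z) = nrm σ u n * z := by
  haveI : IsMulCommutative ↥D := ⟨⟨fun a b => Subtype.ext (hDc a a.2 b)⟩⟩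
  set κ : U → U := fun x => u⁻¹ * x * u * x⁻¹ with hκ
  have hκD : ∀ x, κ x ∈ D := fun x => hDcomm u x
  have hκmul : ∀ x y, κ (x * y) = κ x * κ y := by
    intro x y
    have h1 := hDc (κ y) (hκD y) x⁻¹
    calc κ (x * y) = u⁻¹ * x * u * (κ y * x⁻¹) := by simp only [hκ]; group
      _ = u⁻¹ * x * u * (x⁻¹ * κ y) := by rw [h1]
      _ = κ x * κ y := by simp only [hκ]; group
  set σD : ↥D →* ↥D :=
    { toFun := fun d => ⟨σ d, hDσ d d.2⟩
      map_one' := by apply Subtype.ext; simp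
      map_mul' := fun a b => by apply Subtype.ext; simp } with hσD
  have hσDiter : ∀ (j : ℕ) (d : ↥D), ((σD^[j] d : ↥D) : U) = (σ ^ j) (d : U) := by
    intro j
    induction j with
    | zero => intro d; simp
    | succ j ih =>
      intro d
      rw [Function.iterate_succ_apply', pow_succ', MulAut.mul_apply, ← ih]
      rfl
  set γ : ℕ → ↥D := fun i => ⟨κ ((σ ^ i) u), hκD _⟩ with hγ
  have hprod : ∀ k : ℕ, ((∏ i ∈ range k, γ i : ↥D) : U) = κ (nrm σ u k) := by
    intro k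
    induction k with
    | zero => simp [nrm, hκ]
    | succ k ih =>
      rw [Finset.prod_range_succ, Subgroup.coe_mul, ih, nrm_succ, hκmul]
  have h0 : γ 0 = 1 := by
    apply Subtype.ext
    simp [hγ, hκ]
  have hpair : ∀ i, 0 < i → i < n → γ (n - i) = (σD^[n - i] (γ i))⁻¹ := by
    intro i hi hin
    apply Subtype.ext
    rw [Subgroup.coe_inv, hσDiter]
    set w := (σ ^ (n - i)) u with hw
    have e1 : (σ ^ (n - i)) ((γ i : ↥D) : U) = w⁻¹ * u * w * u⁻¹ := by
      show (σ ^ (n - i)) (u⁻¹ * (σ ^ i) u * u * ((σ ^ i) u)⁻¹) = _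
      have e2 : (σ ^ (n - i)) ((σ ^ i) u) = u := by
        rw [← MulAut.mul_apply, ← pow_add]
        have : n - i + i = n := by omega
        rw [this, hσn]
      simp only [map_mul, map_inv, e2, ← hw]
    rw [e1]
    show u⁻¹ * w * u * w⁻¹ = _
    set d := w⁻¹ * u * w * u⁻¹ with hd
    have hdD : d ∈ D := hDcomm w u
    have h1 := hDc d hdD (u * w⁻¹)
    apply eq_inv_of_mul_eq_one_left
    calc u⁻¹ * w * u * w⁻¹ * d = u⁻¹ * w * ((u * w⁻¹) * d) := by group
      _ = u⁻¹ * w * (d * (u * w⁻¹)) := by rw [h1]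
      _ = 1 := by rw [hd]; group
  have hexp' : ∀ d : ↥D, d ^ m = 1 := fun d => Subtype.ext (by simpa using hexp d d.2)
  obtain ⟨z, hz⟩ := pair_prod σD γ n h0 hpair m hm hexp'
  have hz' : κ (nrm σ u n) = (z : U) * (σ (z : U))⁻¹ := by
    rw [← hprod, hz, div_eq_mul_inv, Subgroup.coe_mul, Subgroup.coe_inv]
    rfl
  set N := nrm σ u n with hN
  have hσN : σ N = u⁻¹ * N * u := by
    have h1 : nrm σ u (n + 1) = N * u := by rw [nrm_succ, hσn]
    have h2 := nrm_succ' σ u n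
    rw [h1] at h2
    have h3 : σ N = u⁻¹ * (u * σ N) := by group
    rw [h3, ← h2]; group
  refine ⟨z, z.2, ?_⟩
  have h3 : u⁻¹ * N * u = (z : U) * (σ (z : U))⁻¹ * N := by
    have : κ N = u⁻¹ * N * u * N⁻¹ := rfl
    rw [← hz', this]; group
  have h4 := hDc _ (hDσ z z.2) N
  have h5 := hDc z z.2 N
  rw [map_mul, hσN, h3]
  calc (z : U) * (σ (z : U))⁻¹ * N * σ (z : U) = (z : U) * (σ (z : U))⁻¹ * (N * σ (z : U)) := by group
    _ = (z : U) * (σ (z : U))⁻¹ * (σ (z : U) * N) := by rw [h4]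
    _ = (z : U) * N := by group
    _ = N * z := h5

end norm

section frob

variable {Γ V : Type*} [Group Γ] [CommGroup V]

theorem pow_conj_mem {K : Subgroup Γ} {a : Γ} (hnorm : ∀ k ∈ K, a * k * a⁻¹ ∈ K) (i : ℕ) :
    ∀ k ∈ K, a ^ i * k * (a ^ i)⁻¹ ∈ K := by
  induction i with
  | zero => intro k hk; simpa using hk
  | succ i ih =>
    intro k hk
    have := hnorm _ (ih k hk)
    have e : a ^ (i + 1) * k * (a ^ (i + 1))⁻¹ = a * (a ^ i * k * (a ^ i)⁻¹) * a⁻¹ := by
      rw [pow_succ']; group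
    rw [e]; exact this

/-- The Frobenius sum argument: if the norm of `⟨a⟩` (of length `n`) and the norm of `K` both kill `V`,
`a` normalizes `K` and the powers `a ^ i`, `0 < i < n`, act on `K` without fixed points, then `V` has
exponent dividing `|K|`. -/
theorem frob_sum (φ : Γ →* MulAut V) (K : Subgroup Γ) [Fintype K] (a : Γ) (n : ℕ) (hn : 0 < n)
    (hnorm : ∀ k ∈ K, a * k * a⁻¹ ∈ K)
    (hfix : ∀ i, 0 < i → i < n → ∀ k ∈ K, a ^ i * k = k * a ^ i → k = 1)
    (hN : ∀ v : V, ∏ i ∈ Finset.range n, φ (a ^ i) v = 1)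
    (hK : ∀ v : V, ∏ k : K, φ (k : Γ) v = 1) (v : V) :
    v ^ Fintype.card K = 1 := by
  classical
  have h1 : ∏ x : K, ∏ i ∈ Finset.range n, φ ((x : Γ) * a ^ i * (x : Γ)⁻¹) v = 1 := by
    apply Finset.prod_eq_one
    intro x _
    have h2 : ∀ i, φ ((x : Γ) * a ^ i * (x : Γ)⁻¹) v
        = φ (x : Γ) (φ (a ^ i) (φ (x : Γ)⁻¹ v)) := by
      intro i
      simp [map_mul]
    simp_rw [h2]
    rw [← map_prod, hN, map_one]
  rw [Finset.prod_comm] at h1
  rw [Finset.prod_eq_single_of_mem 0 (Finset.mem_range.mpr hn)] at h1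
  · simpa using h1
  · intro i hi hne
    have hin : i < n := Finset.mem_range.mp hi
    have hi0 : 0 < i := Nat.pos_of_ne_zero hne
    have hmem : ∀ x : K, (x : Γ) * a ^ i * (x : Γ)⁻¹ * (a ^ i)⁻¹ ∈ K := by
      intro x
      have h3 := pow_conj_mem hnorm i (x : Γ)⁻¹ (K.inv_mem x.2)
      have e : (x : Γ) * a ^ i * (x : Γ)⁻¹ * (a ^ i)⁻¹ = x * (a ^ i * (x : Γ)⁻¹ * (a ^ i)⁻¹) := by
        group
      rw [e]
      exact K.mul_mem x.2 h3
    let s : K → K := fun x => ⟨(x : Γ) * a ^ i * (x : Γ)⁻¹ * (a ^ i)⁻¹, hmem x⟩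
    have hs : Function.Injective s := by
      intro x x' hxx'
      have e : (x : Γ) * a ^ i * (x : Γ)⁻¹ * (a ^ i)⁻¹ = (x' : Γ) * a ^ i * (x' : Γ)⁻¹ * (a ^ i)⁻¹ :=
        congrArg Subtype.val hxx'
      have e3 : (x : Γ) * a ^ i * (x : Γ)⁻¹ = (x' : Γ) * a ^ i * (x' : Γ)⁻¹ := mul_right_cancel e
      have e2 : a ^ i * ((x' : Γ)⁻¹ * x) = ((x' : Γ)⁻¹ * x) * a ^ i := by
        calc a ^ i * ((x' : Γ)⁻¹ * x)
            = (x' : Γ)⁻¹ * ((x' : Γ) * a ^ i * (x' : Γ)⁻¹) * x := by group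
          _ = (x' : Γ)⁻¹ * ((x : Γ) * a ^ i * (x : Γ)⁻¹) * x := by rw [e3]
          _ = ((x' : Γ)⁻¹ * x) * a ^ i := by group
      have h4 := hfix i hi0 hin ((x' : Γ)⁻¹ * x) (K.mul_mem (K.inv_mem x'.2) x.2) e2
      rw [inv_mul_eq_one] at h4
      exact Subtype.ext h4.symm
    have hsb : Function.Bijective s := hs.bijective_of_finite
    have h5 : ∀ x : K, φ ((x : Γ) * a ^ i * (x : Γ)⁻¹) v = φ ((s x : K) : Γ) (φ (a ^ i) v) := by
      intro x
      show _ = φ ((x : Γ) * a ^ i * (x : Γ)⁻¹ * (a ^ i)⁻¹) (φ (a ^ i) v)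
      rw [← MulAut.mul_apply, ← map_mul]
      congr 2
      group
    simp_rw [h5]
    rw [hsb.prod_comp (fun k : K => φ (k : Γ) (φ (a ^ i) v))]
    exact hK _

end frob

end Cfsg.Agent.Helper54.FA
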