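import Cfsg.Agent.S1403
import Cfsg.Agent.S1414
import Cfsg.Agent.S1416
import Cfsg.Agent.S1417
import Cfsg.Agent.S1418
import Cfsg.Agent.Helper23.BG13E
import Cfsg.Agent.Helper63.BG13C
import Cfsg.Agent.Helper71.BG13W2
import Cfsg.Agent.Helper23.BG13G

/-!
# B-G section 14, step (K1) of helper70's reduction (board #3506 / #3585), piece [P4]

`M` maximal, `E` a complement of `M_σ`, `p ∈ τ₁(M)`, `P ≤ E` of order `p` with
`C_{M_σ}(P) ≠ 1`, `H` maximal over `N_G(P)`: then `p ∈ σ(H)`.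

The only non-landed input is `StepI G` (B-G 13.6, `cent_cent_Msigma_tau1_uniq`), taken as a
statement-shaped hypothesis in helper70's exact form (#3620).
-/

set_option autoImplicit false
set_option linter.unusedVariables false
set_option linter.unusedSectionVars false
set_option linter.style.haveILetI false

namespace Cfsg.Agent.Helper54.BG14K1

open Cfsg Cfsg.Agent.Helper29 Cfsg.Agent.Helper29.BG10 Cfsg.Agent.Helper29.BG11
open Cfsg.Agent.Helper23.BG13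
open scoped commutatorElement

variable {G : Type*} [Group G] [Finite G]

/-- STEP I of #3506 (= B-G 13.6), statement-shaped (helper70's form, #3620). -/
def StepI (G : Type*) [Group G] : Prop :=
  ∀ (M E : Subgroup G), IsCoatom M → Cfsg.IsComplIn E (Cfsg.sigmaCore M) M →
    ∀ p : ℕ, p ∈ Cfsg.tau1 M → ∀ P : Subgroup G, P ≤ E → Nat.card P = p →
      ∀ X : Subgroup G, X ≤ Cfsg.sigmaCore M ⊓ Subgroup.centralizer (P : Set G) →
        (Nat.card X).Prime → ∀ L : Subgroup G, IsCoatom L →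
          Subgroup.normalizer (X : Set G) ≤ L → L = M

/-- (K1) of #3506, statement-shaped (helper70's form, #3620). -/
def K1 (G : Type*) [Group G] : Prop :=
  ∀ (M E : Subgroup G), IsCoatom M → Cfsg.IsComplIn E (Cfsg.sigmaCore M) M →
    ∀ p : ℕ, p ∈ Cfsg.tau1 M → ∀ P : Subgroup G, P ≤ E → Nat.card P = p →
      Cfsg.sigmaCore M ⊓ Subgroup.centralizer (P : Set G) ≠ ⊥ →
        ∀ H : Subgroup G, IsCoatom H → Subgroup.normalizer (P : Set G) ≤ H → p ∈ Cfsg.sigma H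

/-- a subgroup of prime order inside a nontrivial subgroup -/
theorem exists_card_prime_le {D : Subgroup G} (hD : D ≠ ⊥) :
    ∃ X : Subgroup G, X ≤ D ∧ (Nat.card X).Prime := by
  classical
  have hc : Nat.card D ≠ 1 := fun h => hD (Subgroup.card_eq_one.1 h)
  obtain ⟨t, ht, htd⟩ := Nat.exists_prime_and_dvd hc
  haveI : Fact t.Prime := ⟨ht⟩
  obtain ⟨x, hx⟩ := exists_prime_orderOf_dvd_card' (G := ↥D) t htd
  refine ⟨Subgroup.zpowers (x : G), ?_, ?_⟩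
  · rw [Subgroup.zpowers_le]; exact x.2
  · rw [Nat.card_zpowers, Subgroup.orderOf_coe, hx]; exact ht

/-- a group of prime order `t` is a `t`-group -/
theorem isPGroup_of_card_eq {t : ℕ} [Fact t.Prime] {X : Subgroup G} (hX : Nat.card X = t) :
    IsPGroup t X := IsPGroup.of_card (n := 1) (by rw [hX, pow_one])

theorem ne_bot_of_card_prime {X : Subgroup G} (hX : (Nat.card X).Prime) : X ≠ ⊥ := by
  rintro rfl
  rw [Subgroup.card_bot] at hX
  exact Nat.not_prime_one hX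

/-- **(K1)** from **STEP I** (piece [P4] of #3585). -/
theorem k1 (hG : Cfsg.IsMinSimpleOddOrder G) (hI : StepI G) : K1 G := by
  intro M E hM hE p hp P hPE hPc hD H hH hNP
  classical
  haveI : IsSimpleGroup G := hG.2.1
  have hU : UniquenessThm G := fun K hK hK2 hK3 => Cfsg.Agent.S1403.result hG K hK hK2 hK3
  have hW : Cfsg.Agent.Helper23.BG13.NilpHallSigma G :=
    fun L hL => (Cfsg.Agent.S1414.result hG L hL).2.2.2.1
  have hβ : Cfsg.Agent.Helper64.BG1217D.BetaHall G :=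
    fun L hL => (Cfsg.Agent.S1414.result hG L hL).1
  have hidx : Cfsg.Agent.Helper64.BG1217D.H1414idx G :=
    fun L hL s hs hsL hsβ => ((Cfsg.Agent.S1414.result hG L hL).2.2.2.2 s hs hsL hsβ).2.2
  have h1416 : Cfsg.Agent.Helper23.BG13.H1416 G :=
    fun L hL q _ A hAL hAe hAc => (Cfsg.Agent.S1416.result hG L hL q A ⟨hAL, hAe, hAc⟩).1
  have h1417 : Cfsg.Agent.Helper23.BG13.H1417 G := by
    intro L hL q _ hq A hAL hAe hAc
    have h := Cfsg.Agent.S1417.result hG L hL q hq A ⟨hAL, hAe, hAc⟩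
    exact ⟨h.1, fun P => (h.2.1 P).1, h.2.2.1, h.2.2.2.2.1⟩
  have h1418 : Cfsg.Agent.Helper64.BG1217D.H1418 G := by
    intro L hL E' hE' s _ hs A hAE hAe hAc
    have h := Cfsg.Agent.S1418.result hG L hL E' hE' s hs A ⟨hAE, hAe, hAc⟩
    exact h.2.1.1.trans (le_of_eq h.2.1.2.1)
  have h17 : ∀ L : Subgroup G, IsCoatom L → Cfsg.Agent.Helper64.BG1218.Hyp1217 L :=
    fun L hL => Cfsg.Agent.Helper64.BG1217D.hyp1217_of hG hU h1416 h1417 h1418 hW hβ hidx hL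
  have hpp : p.Prime := hp.1
  haveI : Fact p.Prime := ⟨hpp⟩
  have hpσM : p ∉ Cfsg.sigma M := hp.2.1
  have hPp : IsPGroup p P := isPGroup_of_card_eq hPc
  have hP1 : P ≠ ⊥ := ne_bot_of_card_prime (by rw [hPc]; exact hpp)
  by_contra hpσH
  obtain ⟨hr2, hr1⟩ := (mem_sigma_or_rank_two hG hU hH P hPp hP1 hNP).resolve_left hpσH
  have hτ2 : p ∈ Cfsg.tau2 H := ⟨hpp, hpσH, hr2, hr1⟩
  have hni : ¬ Cfsg.IsIdealPrime p G := (thm_10_5 hG hU H hH p hr2 hr1).1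
  -- `M` and `H` are not conjugate
  have hnc : ∀ g : G, BG10.cj g M ≠ H := by
    rintro g rfl
    exact hr1 (pRankLE_cj hp.2.2.2.2 g)
  have hnc' : ∀ g : G, BG10.cj g H ≠ M := by
    intro g hg
    apply hnc g⁻¹
    rw [← hg, BG10.cj_inv_cj]
  -- `H_σ` is nilpotent, so `σ(M) ∩ σ(H) = ∅`
  obtain ⟨A₀, hA₀H, hA₀e, hA₀c⟩ := exists_elementaryAbelian_sq hr2 hr1
  have hnilH : Group.IsNilpotent ↥(Cfsg.sigmaCore H) :=
    (Cfsg.Agent.S1417.result hG H hH p hτ2 A₀ ⟨hA₀H, hA₀e, hA₀c⟩).1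
  have hdisj : ∀ q : ℕ, q ∈ Cfsg.sigma M → q ∉ Cfsg.sigma H := fun q hqM hqH =>
    not_mem_sigma_of_mem_sigma hG hU hH hM hnc' hnilH hqH hqM
  obtain ⟨⟨hSM, hSpi, hSidx⟩, -, -⟩ := thm_10_2_sigma hG hU M hM
  -- a subgroup `X` of prime order `t` of `D`
  obtain ⟨X, hXD, hXpr⟩ := exists_card_prime_le hD
  obtain ⟨t, ht⟩ : ∃ t : ℕ, Nat.card X = t := ⟨_, rfl⟩
  have htp' : t.Prime := ht ▸ hXpr
  haveI : Fact t.Prime := ⟨htp'⟩
  have hXt : IsPGroup t X := isPGroup_of_card_eq ht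
  have hX1 : X ≠ ⊥ := ne_bot_of_card_prime hXpr
  have hXS : X ≤ Cfsg.sigmaCore M := hXD.trans inf_le_left
  have hXC : X ≤ Subgroup.centralizer (P : Set G) := hXD.trans inf_le_right
  have htM : t ∈ Cfsg.sigma M := hSpi t htp' (ht ▸ Subgroup.card_dvd_of_le hXS)
  have htH : t ∉ Cfsg.sigma H := hdisj t htM
  have hXH : X ≤ H := (hXC.trans (Subgroup.centralizer_le_normalizer _)).trans hNP
  have hPH : P ≤ H := Subgroup.le_normalizer.trans hNP
  have htp : t ≠ p := fun h => hpσM (h ▸ htM)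
  have hPCX : P ≤ Subgroup.centralizer (X : Set G) := le_centralizer_symm hXC
  have hXPd : X ⊓ P = ⊥ :=
    (Subgroup.disjoint_of_coprime_natCard
      (by rw [hPc, ht]; exact (Nat.coprime_primes htp' hpp).2 htp)).eq_bot
  have hPNX : P ≤ Subgroup.normalizer (X : Set G) :=
    hPCX.trans (Subgroup.centralizer_le_normalizer _)
  have hXPc : Nat.card ↥(X ⊔ P) = t * p := by
    rw [Cfsg.Agent.Helper23.card_sup_of_disjoint_of_le_normalizer hXPd hPNX, hPc, ht]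
  have hXPσ : ∀ q : ℕ, q.Prime → q ∣ Nat.card ↥(X ⊔ P) → q ∉ Cfsg.sigma H := by
    intro q hq hd
    rw [hXPc] at hd
    rcases (Nat.Prime.dvd_mul hq).1 hd with h | h
    · rw [(Nat.prime_dvd_prime_iff_eq hq htp').1 h]; exact htH
    · rw [(Nat.prime_dvd_prime_iff_eq hq hpp).1 h]; exact hpσH
  -- a complement `E_H ≥ X P` of `H_σ` and `A = Ω₁(O_p(E_H))`
  obtain ⟨EH, hEH, hXPE⟩ := Cfsg.Agent.Helper71.BGHall.exists_isComplIn_sigmaCore_ge hG hU hH
    (sup_le hXH hPH) hXPσ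
  have hctx := Cfsg.Agent.Helper68.BG12.eCtx_of hG hU hH hEH
  obtain ⟨A, hAE, hAe, hAc⟩ :=
    Cfsg.Agent.Helper71.BGHall.exists_elementaryAbelian_sq_le_compl hctx hpσH hr2 hr1
  have h18 := Cfsg.Agent.S1418.result hG H hH EH hEH p hτ2 A ⟨hAE, hAe, hAc⟩
  have hEHN : EH ≤ Subgroup.normalizer (A : Set G) := h18.1.1
  have hPA : P ≤ A := h18.1.2 P (le_sup_right.trans hXPE) hPc
  have hNAH : ¬ Subgroup.normalizer (A : Set G) ≤ H := h18.2.1.2.2
  have hAp : IsPGroup p A := isPGroup_of_isElementaryAbelian hAe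
  have hA1 : A ≠ ⊥ := fun h => hP1 (eq_bot_iff.2 (h ▸ hPA))
  -- `L` maximal over `N_G(A)`
  have hNtop : Subgroup.normalizer (A : Set G) ≠ ⊤ :=
    Cfsg.Agent.Helper31.bgt_normalizer_ne_top_of_simple hA1 (isPGroup_ne_top hG hAp)
  obtain ⟨L, hL, hNAL⟩ := (eq_top_or_exists_le_coatom _).resolve_left hNtop
  have hAL : A ≤ L := Subgroup.le_normalizer.trans hNAL
  have hXL : X ≤ L := ((le_sup_left.trans hXPE).trans hEHN).trans hNAL
  have hPL : P ≤ L := hPA.trans hAL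
  -- `p ∈ σ(L)`
  have hpL : p ∈ Cfsg.sigma L := by
    by_contra hpσL
    obtain ⟨hr2L, hr1L⟩ := (mem_sigma_or_rank_two hG hU hL A hAp hA1 hNAL).resolve_left hpσL
    have hτ2L : p ∈ Cfsg.tau2 L := ⟨hpp, hpσL, hr2L, hr1L⟩
    obtain ⟨EL, hEL, hAEL⟩ := Cfsg.Agent.Helper71.BGHall.exists_isComplIn_sigmaCore_ge hG hU hL
      hAL (fun q hq hd => by rw [eq_of_prime_dvd_card_pgroup hAp hq hd]; exact hpσL)
    exact (Cfsg.Agent.S1418.result hG L hL EL hEL p hτ2L A ⟨hAEL, hAe, hAc⟩).2.1.2.2 hNAL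
  have hncL : ∀ g : G, BG10.cj g M ≠ L := by
    rintro g rfl
    rw [sigma_cj] at hpL
    exact hpσM hpL
  -- Lemma C: `L'` contains no nontrivial `σ(M)`-subgroup
  have hC : ∀ Y : Subgroup G, Y ≠ ⊥ →
      (∀ r : ℕ, r.Prime → r ∣ Nat.card ↥Y → r ∈ Cfsg.sigma M) → ¬ Y ≤ ⁅L, L⁆ := by
    intro Y hY1 hYσ hYL
    exact hni (Cfsg.Agent.Helper63.BG13C.lemma_13_1c_sigma hG hU (h17 M hM) hp hL hpL
      (fun q hq hqL hqβ => ((Cfsg.Agent.S1414.result hG L hL).2.2.2.2 q hq hqL hqβ).1)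
      hY1 hYσ hYL).1
  have hXσ : ∀ r : ℕ, r.Prime → r ∣ Nat.card ↥X → r ∈ Cfsg.sigma M := by
    intro r hr hd
    rw [ht] at hd
    rw [(Nat.prime_dvd_prime_iff_eq hr htp').1 hd]; exact htM
  have hPsL : P ≤ Cfsg.sigmaCore L := le_sigmaCore_of_isPGroup hG hU hL hpL hPp hPL
  have hPLX : P ≤ Cfsg.sigmaCore L ⊓ Subgroup.centralizer (X : Set G) := le_inf hPsL hPCX
  -- the type of `t` in `L`
  by_cases htσL : t ∈ Cfsg.sigma L
  · exact hC X hX1 hXσ (le_commutator_of_mem_sigma hG hU hL htσL hXt hXL)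
  have htL : t ∣ Nat.card ↥L := ht ▸ Subgroup.card_dvd_of_le hXL
  obtain ⟨EL, hEL, hXEL⟩ := Cfsg.Agent.Helper71.BGHall.exists_isComplIn_sigmaCore_ge hG hU hL
    hXL (fun q hq hd => by
      rw [ht] at hd
      rw [(Nat.prime_dvd_prime_iff_eq hq htp').1 hd]; exact htσL)
  by_cases hr1t : Cfsg.PRankLE t 1 ↥L
  · by_cases hd : t ∣ Nat.card ↥⁅L, L⁆
    · exact hC X hX1 hXσ
        (le_commutator_of_mem_tau3 hG hU hL ⟨htp', htσL, hd, hr1t⟩ hXt hXL)
    · -- `t ∈ τ₁(L)`: STEP I for `(L, t, X)` and `P ≤ C_{L_σ}(X)` gives `H = L`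
      have ht1 : t ∈ Cfsg.tau1 L := ⟨htp', htσL, htL, hd, hr1t⟩
      have e : H = L :=
        hI L EL hL hEL t ht1 X hXEL ht P hPLX (by rw [hPc]; exact hpp) H hH hNP
      exact hNAH (e ▸ hNAL)
  by_cases hr2t : Cfsg.PRankLE t 2 ↥L
  · -- `t ∈ τ₂(L)`: `L` is the only maximal subgroup over `C_G(X)` (S1418), but `C_G(X) ≤ M`
    have hτ2t : t ∈ Cfsg.tau2 L := ⟨htp', htσL, hr2t, hr1t⟩
    have hctxL := Cfsg.Agent.Helper68.BG12.eCtx_of hG hU hL hEL
    obtain ⟨At, hAtE, hAte, hAtc⟩ :=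
      Cfsg.Agent.Helper71.BGHall.exists_elementaryAbelian_sq_le_compl hctxL htσL hr2t hr1t
    have h18t := Cfsg.Agent.S1418.result hG L hL EL hEL t hτ2t At ⟨hAtE, hAte, hAtc⟩
    have hXAt : X ≤ At := h18t.1.2 X hXEL ht
    have hne : Cfsg.sigmaCore L ⊓ Subgroup.centralizer (X : Set G) ≠ ⊥ :=
      fun h => hP1 (eq_bot_iff.2 (h ▸ hPLX))
    obtain ⟨-, huniq⟩ := h18t.2.2 X hXAt ht hne
    have hNXtop : Subgroup.normalizer (X : Set G) ≠ ⊤ :=
      Cfsg.Agent.Helper31.bgt_normalizer_ne_top_of_simple hX1 (isPGroup_ne_top hG hXt)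
    obtain ⟨L', hL', hNXL'⟩ := (eq_top_or_exists_le_coatom _).resolve_left hNXtop
    have e1 : L' = M := hI M E hM hE p hp P hPE hPc X hXD hXpr L' hL' hNXL'
    have hCXM : Subgroup.centralizer (X : Set G) ≤ M :=
      (Subgroup.centralizer_le_normalizer _).trans (e1 ▸ hNXL')
    have e2 : M = L := huniq M hM hCXM
    exact hncL 1 (by rw [BG10.cj_one]; exact e2)
  · exact htσL (alpha_subset_sigma hG hU hL ⟨htp', hr2t⟩)

end Cfsg.Agent.Helper54.BG14K1
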