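import Cfsg.Agent.Helper54.Baer
import Cfsg.Agent.Helper54.PConstrained3
import Cfsg.Agent.S0093
import Cfsg.Agent.S0096
import Cfsg.Agent.S0120
import Cfsg.Agent.S0121
import Cfsg.Agent.Helper65.Cover

set_option autoImplicit false
set_option linter.style.haveILetI false

/-!
# Invariant `p'`-subgroups in groups of characteristic `p` (helper54)

If `Y` has characteristic `p` (`O_{p'}(Y) = 1`, `C_Y(O_p(Y)) ≤ O_p(Y)`), `p` odd, and `A` is a
`p`-subgroup containing every element of order `p` of `C_Y(A)`, then the only `A`-invariant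
`p'`-subgroup of `Y` is the trivial one.
-/

open Cfsg
open scoped commutatorElement

namespace Cfsg.Agent.Helper54

theorem eq_bot_of_charP_of_invariant {Y : Type*} [Group Y] [Finite Y] (p : ℕ) [hp' : Fact p.Prime]
    (hp : p ≠ 2) (hY : CharP p Y) (A K : Subgroup Y) (hAp : IsPGroup p A)
    (hΩ : ∀ x ∈ Subgroup.centralizer (A : Set Y), orderOf x = p → x ∈ A)
    (hK : (Nat.card K).Coprime p) (hAK : A ≤ Subgroup.normalizer (K : Set Y)) : K = ⊥ := by
  have hQp : IsPGroup p (pCore p Y) := Cfsg.Agent.Lib.isPGroup_pCore p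
  have hQn : (pCore p Y).Normal := inferInstance
  obtain ⟨H₀, hchar, h1, h2, h3⟩ := Cfsg.Agent.S0093.result (P := ↥(pCore p Y)) hQp
  set H : Subgroup Y := H₀.map (pCore p Y).subtype with hH
  have hHn : H.Normal := ConjAct.normal_of_characteristic_of_normal
  have hHQ : H ≤ pCore p Y := by
    rintro _ ⟨x, _, rfl⟩
    exact x.2
  have hHp : IsPGroup p H := hQp.to_le hHQ
  -- class two
  have hHcl : ∀ x ∈ H, ∀ y ∈ H, ∀ z ∈ H, ⁅x, y⁆ * z = z * ⁅x, y⁆ := by
    rintro _ ⟨x, hx, rfl⟩ _ ⟨y, hy, rfl⟩ _ ⟨z, hz, rfl⟩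
    have h4 : ⁅x, y⁆ ∈ ⁅H₀, (⊤ : Subgroup ↥(pCore p Y))⁆ :=
      Subgroup.commutator_mem_commutator hx (Subgroup.mem_top y)
    have h5 := (Subgroup.mem_inf.mp (h2 h4)).2
    have h6 := (Subgroup.mem_centralizer_iff.mp h5) z hz
    have h7 := congrArg (pCore p Y).subtype h6
    simp only [map_mul, map_commutatorElement] at h7
    exact h7.symm
  have hHcl2 : ⁅commutator ↥H, (⊤ : Subgroup ↥H)⁆ = ⊥ := by
    rw [Subgroup.commutator_eq_bot_iff_le_centralizer, commutator_def, Subgroup.commutator_le]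
    intro g₁ _ g₂ _
    rw [Subgroup.mem_centralizer_iff]
    intro z _
    apply Subtype.ext
    have := hHcl g₁ g₁.2 g₂ g₂.2 z z.2
    show (z : Y) * H.subtype ⁅g₁, g₂⁆ = H.subtype ⁅g₁, g₂⁆ * (z : Y)
    rw [map_commutatorElement]
    exact this.symm
  -- `E = Ω₁(H)`
  let E : Subgroup Y :=
    { carrier := {x | x ∈ H ∧ x ^ p = 1}
      one_mem' := ⟨H.one_mem, one_pow p⟩
      mul_mem' := by
        rintro x y ⟨hx, hxp⟩ ⟨hy, hyp⟩
        refine ⟨H.mul_mem hx hy, ?_⟩
        have hmem : (⟨x, hx⟩ * ⟨y, hy⟩ : ↥H) ∈ Subgroup.closure {t : ↥H | t ^ p = 1} := by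
          apply Subgroup.mul_mem
          · apply Subgroup.subset_closure
            show (⟨x, hx⟩ : ↥H) ^ p = 1
            apply Subtype.ext; simpa using hxp
          · apply Subgroup.subset_closure
            show (⟨y, hy⟩ : ↥H) ^ p = 1
            apply Subtype.ext; simpa using hyp
        have := Cfsg.Agent.S0096.result hp hHp hHcl2 _ hmem
        have := congrArg Subtype.val this
        simpa using this
      inv_mem' := by
        rintro x ⟨hx, hxp⟩
        exact ⟨H.inv_mem hx, by rw [inv_pow, hxp, inv_one]⟩ }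
  have hEmem : ∀ x, x ∈ E ↔ x ∈ H ∧ x ^ p = 1 := fun x => Iff.rfl
  have hEH : E ≤ H := fun x hx => hx.1
  haveI hEn : E.Normal := ⟨fun x hx g => by
    rw [hEmem] at hx ⊢
    exact ⟨hHn.conj_mem x hx.1 g, by rw [conj_pow, hx.2]; simp⟩⟩
  have hEp : IsPGroup p E := hHp.to_le hEH
  have hEcl : ∀ x ∈ E, ∀ y ∈ E, ∀ z ∈ E, ⁅x, y⁆ * z = z * ⁅x, y⁆ :=
    fun x hx y hy z hz => hHcl x (hEH hx) y (hEH hy) z (hEH hz)
  -- fixed points of `A` on `E` are fixed by `K`
  have hfix : ∀ x ∈ E, (∀ a ∈ A, a * x = x * a) → ∀ k ∈ K, k * x = x * k := by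
    intro x hx hxA k hk
    by_cases hx1 : x = 1
    · rw [hx1, mul_one, one_mul]
    have hord : orderOf x = p := orderOf_eq_prime hx.2 hx1
    have hxA' : x ∈ A := hΩ x (Subgroup.mem_centralizer_iff.mpr hxA) hord
    have h4 : x * k * x⁻¹ * k⁻¹ ∈ K :=
      K.mul_mem ((Subgroup.mem_normalizer_iff.mp (hAK hxA') k).mp hk) (K.inv_mem hk)
    have h5 : x * k * x⁻¹ * k⁻¹ ∈ E := by
      have h6 : k * x⁻¹ * k⁻¹ ∈ E := hEn.conj_mem _ (E.inv_mem hx) k
      have h7 := E.mul_mem hx h6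
      have h8 : x * k * x⁻¹ * k⁻¹ = x * (k * x⁻¹ * k⁻¹) := by group
      rw [h8]; exact h7
    have h9 := Cfsg.Agent.Helper49.eq_one_of_mem_pGroup_of_coprime hEp h5
      (orderOf_coprime_of_mem hK h4)
    have h10 := mul_inv_eq_one.mp h9
    exact (mul_inv_eq_iff_eq_mul.mp h10).symm
  have hKE := commute_of_fixed_class2 p hp E A K hEp hEcl hAp hK hAK hfix
  -- now `K` centralizes `H`, then `O_p(Y)`
  rw [eq_bot_iff]
  intro k hk
  rw [Subgroup.mem_bot]
  have hkcop : (orderOf k).Coprime p := orderOf_coprime_of_mem hK hk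
  have hα : (MulAut.conjNormal k : MulAut ↥H) = 1 := by
    apply Cfsg.Agent.S0120.result hp hHp
    · exact Nat.Coprime.coprime_dvd_left (orderOf_map_dvd (MulAut.conjNormal (H := H)) k) hkcop
    · intro x hxp
      apply Subtype.ext
      rw [MulAut.conjNormal_apply]
      have hxE : (x : Y) ∈ E := ⟨x.2, by
        have := congrArg Subtype.val hxp
        simpa using this⟩
      rw [hKE k hk x hxE, mul_inv_cancel_right]
  have hβ : (MulAut.conjNormal k : MulAut ↥(pCore p Y)) = 1 := by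
    apply Cfsg.Agent.S0121.result hQp H₀ hchar h1 h2 h3
    · exact Nat.Coprime.coprime_dvd_left
        (orderOf_map_dvd (MulAut.conjNormal (H := pCore p Y)) k) hkcop
    · intro x hx
      apply Subtype.ext
      rw [MulAut.conjNormal_apply]
      have hxH : (x : Y) ∈ H := ⟨x, hx, rfl⟩
      have := congrArg (fun f => ((f ⟨(x : Y), hxH⟩ : ↥H) : Y)) hα
      simpa [MulAut.conjNormal_apply] using this
  have hkQ : k ∈ pCore p Y := by
    apply hY.2
    rw [Subgroup.mem_centralizer_iff]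
    intro u hu
    have := congrArg (fun f => ((f ⟨u, hu⟩ : ↥(pCore p Y)) : Y)) hβ
    simp only [MulAut.conjNormal_apply, MulAut.one_apply] at this
    exact (mul_inv_eq_iff_eq_mul.mp this).symm
  exact Cfsg.Agent.Helper49.eq_one_of_mem_pGroup_of_coprime hQp hkQ hkcop

end Cfsg.Agent.Helper54
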