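import Mathlib

set_option autoImplicit false
set_option linter.style.haveILetI false
set_option linter.unusedSectionVars false

/-!
# A lower bound for the index of an invariant subgroup (helper54)

For an endomorphism `s` with `s ^ p = 1` of an elementary abelian `p`-group `A`, an `s`-invariant
subgroup `C` missing the norm `x · s x ⋯ s^(p-1) x` of some `x` has index at least `p ^ p`
(`1 + s + ⋯ + s^(p-1) = (s - 1)^(p-1)` in characteristic `p`, so `s - 1` has nilpotency index `p`
on `A / C`).  Used for the quotient `Z_p ≀ Z_p` of a `p`-group.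
-/

namespace Cfsg.Agent.Helper54

open Polynomial in
/-- In characteristic `p`, `1 + X + ⋯ + X^(p-1) = (X - 1)^(p-1)`. -/
theorem geom_sum_X_eq (p : ℕ) [hp : Fact p.Prime] :
    (∑ i ∈ Finset.range p, (X : (ZMod p)[X]) ^ i) = (X - 1) ^ (p - 1) := by
  have h1 : (∑ i ∈ Finset.range p, (X : (ZMod p)[X]) ^ i) * (X - 1) = X ^ p - 1 :=
    geom_sum_mul X p
  have h2 : ((X : (ZMod p)[X]) - 1) ^ p = X ^ p - 1 := by
    rw [sub_pow_char, one_pow]
  have h3 : ((X : (ZMod p)[X]) - 1) ^ (p - 1) * (X - 1) = X ^ p - 1 := by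
    rw [← pow_succ, Nat.sub_add_cancel hp.out.one_le, h2]
  have h4 : (X : (ZMod p)[X]) - 1 ≠ 0 := by
    have := X_sub_C_ne_zero (1 : ZMod p)
    simpa using this
  exact mul_right_cancel₀ h4 (h1.trans h3.symm)

theorem card_quotient_ge_of_norm_notMem {p : ℕ} [hp : Fact p.Prime] {M : Type*} [AddCommGroup M]
    [Module (ZMod p) M] [Finite M]
    (σ : Module.End (ZMod p) M) (hσ : σ ^ p = 1) (C : Submodule (ZMod p) M)
    (hC : ∀ c ∈ C, σ c ∈ C)
    (x : M) (hx : (∑ i ∈ Finset.range p, σ ^ i) x ∉ C) : p ^ p * Nat.card C ≤ Nat.card M := by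
  classical
  set τ : Module.End (ZMod p) M := σ - 1 with hτ
  have hsum : (∑ i ∈ Finset.range p, σ ^ i) = τ ^ (p - 1) := by
    have := congrArg (Polynomial.aeval σ) (geom_sum_X_eq p)
    simpa [map_sum, map_pow, map_sub] using this
  have hτp : τ ^ p = 0 := by
    have h2 : ((Polynomial.X : Polynomial (ZMod p)) - 1) ^ p = Polynomial.X ^ p - 1 := by
      rw [sub_pow_char, one_pow]
    have := congrArg (Polynomial.aeval σ) h2
    simp only [map_pow, map_sub, Polynomial.aeval_X, map_one] at this
    rw [hτ, this, hσ, sub_self]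
  have hCτ : C ≤ C.comap τ := by
    intro c hc
    show τ c ∈ C
    rw [hτ, LinearMap.sub_apply, Module.End.one_apply]
    exact C.sub_mem (hC c hc) hc
  set τq : Module.End (ZMod p) (M ⧸ C) := C.mapQ C τ hCτ with hτq
  have hpow : ∀ k : ℕ, ∀ m : M, (τq ^ k) (C.mkQ m) = C.mkQ ((τ ^ k) m) := by
    intro k
    induction k with
    | zero => intro m; simp
    | succ k ih =>
      intro m
      rw [pow_succ, Module.End.mul_apply, pow_succ, Module.End.mul_apply, ← ih]
      congr 1
  have hτqp : τq ^ p = 0 := by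
    apply LinearMap.ext
    intro w
    obtain ⟨m, rfl⟩ := C.mkQ_surjective w
    rw [hpow, hτp]; simp
  have hne : (τq ^ (p - 1)) (C.mkQ x) ≠ 0 := by
    rw [hpow, ← hsum]
    intro h
    rw [Submodule.mkQ_apply, Submodule.Quotient.mk_eq_zero] at h
    exact hx h
  have hdim : p ≤ Module.finrank (ZMod p) (M ⧸ C) := by
    by_contra hlt
    push Not at hlt
    have h1 : LinearMap.ker (τq ^ p) ≤ LinearMap.ker (τq ^ Module.finrank (ZMod p) (M ⧸ C)) :=
      Module.End.ker_pow_le_ker_pow_finrank τq p
    have h2 : C.mkQ x ∈ LinearMap.ker (τq ^ p) := by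
      rw [hτqp]; simp
    have h3 := h1 h2
    rw [LinearMap.mem_ker] at h3
    apply hne
    have h4 : p - 1 = (p - 1 - Module.finrank (ZMod p) (M ⧸ C)) +
        Module.finrank (ZMod p) (M ⧸ C) := by omega
    rw [h4, pow_add, Module.End.mul_apply, h3, map_zero]
  have hcard : Nat.card (M ⧸ C) = p ^ Module.finrank (ZMod p) (M ⧸ C) := by
    have := Module.natCard_eq_pow_finrank (K := ZMod p) (V := M ⧸ C)
    rwa [Nat.card_zmod] at this
  have hmul : Nat.card M = Nat.card (M ⧸ C) * Nat.card C := by
    have := AddSubgroup.card_eq_card_quotient_mul_card_addSubgroup C.toAddSubgroup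
    exact this
  rw [hmul, hcard]
  exact Nat.mul_le_mul_right _ (Nat.pow_le_pow_right hp.out.pos hdim)

theorem exists_addHom_ne_zero {p : ℕ} [hp : Fact p.Prime] {M : Type*} [AddCommGroup M]
    [Module (ZMod p) M] {n : M} (hn : n ≠ 0) : ∃ f : M →+ ZMod p, f n ≠ 0 := by
  obtain ⟨f, hf⟩ := Module.Projective.exists_dual_ne_zero (ZMod p) hn
  exact ⟨f.toAddMonoidHom, hf⟩

/-- additive form: an endomorphism `s` with `s ^ p = 1` of an `𝔽_p`-space, an invariant subgroup `C`
and a vector whose norm `x + s x + ⋯ + s^(p-1) x` is not in `C`: then `C` has index `≥ p ^ p`. -/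
theorem card_ge_of_sum_notMem {p : ℕ} [hp : Fact p.Prime] {M : Type*} [AddCommGroup M]
    [Module (ZMod p) M] [Finite M] (s : M →+ M) (hs : ∀ a, s^[p] a = a) (C : AddSubgroup M)
    (hC : ∀ c ∈ C, s c ∈ C) (x : M) (hx : ∑ i ∈ Finset.range p, s^[i] x ∉ C) :
    p ^ p * Nat.card C ≤ Nat.card M := by
  have hσk : ∀ k : ℕ, ∀ m : M, ((s.toZModLinearMap p : Module.End (ZMod p) M) ^ k) m = s^[k] m := by
    intro k m
    rw [Module.End.pow_apply]
    rfl
  have key := card_quotient_ge_of_norm_notMem (p := p) (s.toZModLinearMap p : Module.End (ZMod p) M)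
    (by
      apply LinearMap.ext
      intro m
      rw [hσk, hs]; rfl)
    (AddSubgroup.toZModSubmodule p C)
    (fun c hc => hC c hc)
    x
    (by
      rw [LinearMap.sum_apply]
      have : ∑ i ∈ Finset.range p, ((s.toZModLinearMap p : Module.End (ZMod p) M) ^ i) x =
          ∑ i ∈ Finset.range p, s^[i] x :=
        Finset.sum_congr rfl (fun i _ => hσk i x)
      rw [this]
      exact hx)
  exact key

section group

variable {A : Type*} [CommGroup A] [Finite A] {p : ℕ} [hp : Fact p.Prime]

/-- a hyperplane avoiding a given nontrivial element of an elementary abelian group -/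
theorem exists_index_prime_notMem (hA : ∀ a : A, a ^ p = 1) {n : A} (hn : n ≠ 1) :
    ∃ B : Subgroup A, n ∉ B ∧ B.index = p := by
  letI : Module (ZMod p) (Additive A) := AddCommGroup.zmodModule (fun a => by
    show Additive.ofMul ((Additive.toMul a) ^ p) = 0
    rw [hA]; rfl)
  have hn' : Additive.ofMul n ≠ 0 := fun h => hn (by simpa using h)
  obtain ⟨f, hf⟩ := exists_addHom_ne_zero (p := p) hn'
  let g : A →* Multiplicative (ZMod p) := AddMonoidHom.toMultiplicativeRight f
  have hg : ∀ a : A, g a = Multiplicative.ofAdd (f (Additive.ofMul a)) := fun a => rfl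
  refine ⟨g.ker, ?_, ?_⟩
  · rw [MonoidHom.mem_ker, hg]
    intro h
    exact hf (by simpa using h)
  · rw [Subgroup.index_ker]
    haveI : Fact (Nat.card (Multiplicative (ZMod p))).Prime := by
      rw [Nat.card_eq_fintype_card, Fintype.card_multiplicative, ZMod.card]; exact hp
    have htop : g.range = ⊤ := by
      rcases Subgroup.eq_bot_or_eq_top_of_prime_card g.range with h | h
      · exfalso
        have : g n ∈ g.range := ⟨n, rfl⟩
        rw [h, Subgroup.mem_bot, hg] at this
        exact hf (by simpa using this)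
      · exact h
    rw [htop, Subgroup.card_top, Nat.card_eq_fintype_card, Fintype.card_multiplicative, ZMod.card]

/-- If `s` is an endomorphism of the elementary abelian `p`-group `A` with `s ^ p = 1`, `C` is an
`s`-invariant subgroup and the norm `x · s x ⋯ s^(p-1) x` of some `x` is not in `C`, then `C` has
index at least `p ^ p`. -/
theorem card_ge_of_prod_notMem (hA : ∀ a : A, a ^ p = 1) (s : A →* A)
    (hs : ∀ a, s^[p] a = a) (C : Subgroup A) (hC : ∀ c ∈ C, s c ∈ C) (x : A)
    (hx : ∏ i ∈ Finset.range p, s^[i] x ∉ C) : p ^ p * Nat.card C ≤ Nat.card A := by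
  letI : Module (ZMod p) (Additive A) := AddCommGroup.zmodModule (fun a => by
    show Additive.ofMul ((Additive.toMul a) ^ p) = 0
    rw [hA]; rfl)
  have hiter : ∀ k : ℕ, ∀ m : Additive A,
      (MonoidHom.toAdditive s)^[k] m = Additive.ofMul (s^[k] (Additive.toMul m)) := by
    intro k
    induction k with
    | zero => intro m; rfl
    | succ k ih =>
      intro m
      rw [Function.iterate_succ_apply', ih, Function.iterate_succ_apply']
      rfl
  have key := card_ge_of_sum_notMem (p := p) (M := Additive A) (MonoidHom.toAdditive s)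
    (by intro a; rw [hiter, hs]; rfl)
    (Subgroup.toAddSubgroup C)
    (fun c hc => hC _ hc)
    (Additive.ofMul x)
    (by
      have : ∑ i ∈ Finset.range p, (MonoidHom.toAdditive s)^[i] (Additive.ofMul x) =
          Additive.ofMul (∏ i ∈ Finset.range p, s^[i] x) := by
        rw [ofMul_prod]
        apply Finset.sum_congr rfl
        intro i _
        rw [hiter]; rfl
      rw [this]
      exact hx)
  have h1 : Nat.card (Additive A) = Nat.card A := Nat.card_congr Additive.toMul
  have h2 : Nat.card (Subgroup.toAddSubgroup C) = Nat.card C :=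
    Nat.card_congr (Equiv.subtypeEquiv Additive.toMul (fun m => Iff.rfl))
  rw [h1, h2] at key
  exact key

end group

end Cfsg.Agent.Helper54
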