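import Mathlib
import Cfsg.Agent.Helper1.FpfCyclic

/-!
# The "Singer key" lemma (helper54)

`W` an abelian `r`-subgroup of `N_G(A)`, `A ≠ 1` abelian, `R ≤ W` cyclic acting irreducibly and
nontrivially on `A`, with `C_W(A) ≤ R`.  Then `W` contains no elementary abelian subgroup of order
`r ^ 2`.  (`W / C_W(A)` is an abelian group all of whose non-identity elements act without fixed
points on `A`, hence is cyclic.)
-/

set_option autoImplicit false

namespace Cfsg.Agent.Helper54.Singer

open scoped IsMulCommutative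

variable {G : Type*} [Group G]

theorem normalizerMonoidHom_coe (A : Subgroup G) (n : ↥(Subgroup.normalizer (A : Set G))) (a : ↥A) :
    ((A.normalizerMonoidHom n a : ↥A) : G) = (n : G) * a * (n : G)⁻¹ := rfl

/-- In a cyclic group there are at most `r` solutions of `x ^ r = 1`; so if `y` has order `r`, every
such solution is a power of `y`. -/
theorem mem_zpowers_of_pow_eq_one_of_isCyclic {T : Type*} [Group T] [Finite T] [IsCyclic T]
    {r : ℕ} (hr : r.Prime) {y x : T} (hy : orderOf y = r) (hx : x ^ r = 1) :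
    x ∈ Subgroup.zpowers y := by
  classical
  haveI : Fintype T := Fintype.ofFinite T
  have hle : (Finset.univ.filter fun a : T => a ^ r = 1).card ≤ r :=
    IsCyclic.card_pow_eq_one_le hr.pos
  -- the powers of `y` already give `r` solutions
  have hsub : (Finset.univ.filter fun a : T => a ∈ Subgroup.zpowers y) ⊆
      (Finset.univ.filter fun a : T => a ^ r = 1) := by
    intro a ha
    rw [Finset.mem_filter] at ha ⊢
    refine ⟨Finset.mem_univ _, ?_⟩
    obtain ⟨k, rfl⟩ := Subgroup.mem_zpowers_iff.mp ha.2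
    rw [← zpow_natCast, ← zpow_mul, mul_comm, zpow_mul, zpow_natCast, ← hy, pow_orderOf_eq_one,
      one_zpow]
  have hcard : (Finset.univ.filter fun a : T => a ∈ Subgroup.zpowers y).card = r := by
    rw [← hy, ← Nat.card_zpowers, Nat.card_eq_fintype_card, Fintype.card_subtype]
  have heq := Finset.eq_of_subset_of_card_le hsub (by rw [hcard]; exact hle)
  have : x ∈ (Finset.univ.filter fun a : T => a ^ r = 1) := by
    rw [Finset.mem_filter]; exact ⟨Finset.mem_univ _, hx⟩
  rw [← heq, Finset.mem_filter] at this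
  exact this.2

theorem singer_key [Finite G] {r : ℕ} [hr : Fact r.Prime] (A W R U : Subgroup G)
    (hAcomm : ∀ a ∈ A, ∀ b ∈ A, a * b = b * a) (hA1 : A ≠ ⊥)
    (hWA : W ≤ Subgroup.normalizer (A : Set G))
    (hWcomm : ∀ x ∈ W, ∀ y ∈ W, x * y = y * x) (hWr : IsPGroup r W)
    (hRW : R ≤ W) (hUW : U ≤ W)
    (hirr : ∀ Y : Subgroup G, Y ≤ A → R ≤ Subgroup.normalizer (Y : Set G) → Y = ⊥ ∨ Y = A)
    (hRnt : ¬ R ≤ Subgroup.centralizer (A : Set G))
    (hC : W ⊓ Subgroup.centralizer (A : Set G) ≤ R)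
    (hRcyc : IsCyclic R)
    (hU : ∀ u ∈ U, u ^ r = 1) (hUcard : r ^ 2 ≤ Nat.card U) : False := by
  classical
  have hrp : r.Prime := hr.out
  haveI : IsMulCommutative A := ⟨⟨fun a b => Subtype.ext (hAcomm a a.2 b b.2)⟩⟩
  haveI : Nontrivial A := by
    rw [Subgroup.nontrivial_iff_ne_bot]; exact hA1
  let φ : ↥W →* MulAut ↥A := A.normalizerMonoidHom.comp (Subgroup.inclusion hWA)
  have hφ : ∀ (w : ↥W) (a : ↥A), ((φ w a : ↥A) : G) = (w : G) * a * (w : G)⁻¹ := fun w a => rfl
  -- kernel of the action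
  have hker : ∀ w : ↥W, φ w = 1 ↔ (w : G) ∈ Subgroup.centralizer (A : Set G) := by
    intro w
    constructor
    · intro h
      rw [Subgroup.mem_centralizer_iff]
      intro a ha
      have := congrArg (fun f : MulAut ↥A => ((f ⟨a, ha⟩ : ↥A) : G)) h
      simp only [hφ, MulAut.one_apply] at this
      calc a * (w : G) = (w : G) * a * (w : G)⁻¹ * (w : G) := by rw [this]
        _ = (w : G) * a := by group
    · intro h
      ext a
      rw [hφ, MulAut.one_apply]
      have := (Subgroup.mem_centralizer_iff.mp h) a a.2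
      rw [← this]; group
  let T : Subgroup (MulAut ↥A) := φ.range
  haveI : Finite ↥T := by
    have : Finite ↥W := inferInstance
    exact Finite.of_surjective (fun w : ↥W => (⟨φ w, w, rfl⟩ : ↥T))
      (by rintro ⟨_, w, rfl⟩; exact ⟨w, rfl⟩)
  haveI : IsMulCommutative ↥T := by
    refine ⟨⟨?_⟩⟩
    rintro ⟨_, w₁, rfl⟩ ⟨_, w₂, rfl⟩
    apply Subtype.ext
    change φ w₁ * φ w₂ = φ w₂ * φ w₁
    rw [← map_mul, ← map_mul]
    congr 1
    exact Subtype.ext (hWcomm w₁ w₁.2 w₂ w₂.2)
  -- fixed-point-freeness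
  have hfpf : ∀ t : ↥T, t ≠ 1 → ∀ a : ↥A, (T.subtype t) a = a → a = 1 := by
    rintro ⟨_, w, rfl⟩ ht a hfix
    change φ w a = a at hfix
    have hwc : (w : G) ∉ Subgroup.centralizer (A : Set G) := by
      intro h
      apply ht
      apply Subtype.ext
      exact (hker w).mpr h
    -- the fixed points of `w` in `A`
    let Y : Subgroup G := A ⊓ Subgroup.centralizer ({(w : G)} : Set G)
    have hYn : R ≤ Subgroup.normalizer (Y : Set G) := by
      intro x hx
      have hxA : x ∈ Subgroup.normalizer (A : Set G) := hWA (hRW hx)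
      have hxw : Commute x (w : G) := hWcomm x (hRW hx) w w.2
      have hstep : ∀ y : G, y ∈ Subgroup.normalizer (A : Set G) → Commute y (w : G) →
          ∀ g ∈ Y, y * g * y⁻¹ ∈ Y := by
        intro y hyA hyw g hg
        refine Subgroup.mem_inf.mpr ⟨(Subgroup.mem_normalizer_iff.mp hyA g).mp hg.1, ?_⟩
        rw [Subgroup.mem_centralizer_singleton_iff]
        have hgw : Commute g (w : G) := Subgroup.mem_centralizer_singleton_iff.mp hg.2
        exact ((hyw.mul_left hgw).mul_left hyw.inv_left)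
      rw [Subgroup.mem_normalizer_iff]
      intro g
      constructor
      · exact hstep x hxA hxw g
      · intro hg
        have hx' : x⁻¹ ∈ Subgroup.normalizer (A : Set G) := Subgroup.inv_mem _ hxA
        have := hstep x⁻¹ hx' hxw.inv_left _ hg
        simpa [mul_assoc] using this
    rcases hirr Y inf_le_left hYn with hY | hY
    · have : (a : G) ∈ Y := by
        refine Subgroup.mem_inf.mpr ⟨a.2, ?_⟩
        rw [Subgroup.mem_centralizer_singleton_iff]
        have := congrArg (fun b : ↥A => (b : G)) hfix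
        simp only [hφ] at this
        calc (a : G) * (w : G) = (w : G) * a * (w : G)⁻¹ * (w : G) := by rw [this]
          _ = (w : G) * a := by group
      rw [hY, Subgroup.mem_bot] at this
      exact Subtype.ext this
    · exfalso
      apply hwc
      rw [Subgroup.mem_centralizer_iff]
      intro g hg
      have : g ∈ Y := by rw [hY]; exact hg
      exact (Subgroup.mem_centralizer_singleton_iff.mp this.2)
  haveI hTcyc : IsCyclic ↥T := Cfsg.Agent.Helper1.isCyclic_of_fpf_of_comm T.subtype hfpf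
  -- an element of `R` acting nontrivially
  obtain ⟨x, hxR, hxc⟩ : ∃ x ∈ R, x ∉ Subgroup.centralizer (A : Set G) := by
    by_contra h
    push Not at h
    exact hRnt h
  let xw : ↥W := ⟨x, hRW hxR⟩
  have hφx : φ xw ≠ 1 := fun h => hxc ((hker xw).mp h)
  -- its order is a positive power of `r`
  obtain ⟨k, hk⟩ := hWr xw
  have hφxk : (φ xw) ^ r ^ k = 1 := by rw [← map_pow, hk, map_one]
  obtain ⟨m, hmk, hm⟩ := (Nat.dvd_prime_pow hrp).mp (orderOf_dvd_of_pow_eq_one hφxk)
  have hm1 : m ≠ 0 := by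
    intro h0
    rw [h0, pow_zero, orderOf_eq_one_iff] at hm
    exact hφx hm
  have hrdvd : r ∣ orderOf (φ xw) := by
    rw [hm]; exact dvd_pow_self r hm1
  have hord0 : orderOf (φ xw) ≠ 0 := by
    rw [hm]; exact pow_ne_zero _ hrp.ne_zero
  set n := orderOf (φ xw) / r with hn
  have hy : orderOf ((φ xw) ^ n) = r := orderOf_pow_orderOf_div hord0 hrdvd
  let yT : ↥T := ⟨(φ xw) ^ n, ⟨xw ^ n, by rw [map_pow]⟩⟩
  have hyT : orderOf yT = r := by
    rw [← hy, ← Subgroup.orderOf_coe]
  -- every element of `U` lies in `R`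
  have hUR : U ≤ R := by
    intro u hu
    let uw : ↥W := ⟨u, hUW hu⟩
    let uT : ↥T := ⟨φ uw, uw, rfl⟩
    have huT : uT ^ r = 1 := by
      apply Subtype.ext
      change (φ uw) ^ r = 1
      rw [← map_pow]
      have : uw ^ r = 1 := Subtype.ext (hU u hu)
      rw [this, map_one]
    have hmem := mem_zpowers_of_pow_eq_one_of_isCyclic hrp hyT huT
    obtain ⟨j, hj⟩ := Subgroup.mem_zpowers_iff.mp hmem
    have hj' : ((φ xw) ^ n) ^ j = φ uw := by
      have := congrArg (fun t : ↥T => (t : MulAut ↥A)) hj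
      simpa using this
    have hj'' : φ ((xw ^ n) ^ j) = φ uw := by
      rw [map_zpow, map_pow]; exact hj'
    have hkerm : φ (uw * ((xw ^ n) ^ j)⁻¹) = 1 := by
      rw [map_mul, map_inv, hj'', mul_inv_cancel]
    have h1 : ((uw * ((xw ^ n) ^ j)⁻¹ : ↥W) : G) ∈ W ⊓ Subgroup.centralizer (A : Set G) :=
      Subgroup.mem_inf.mpr ⟨(uw * ((xw ^ n) ^ j)⁻¹ : ↥W).2, (hker _).mp hkerm⟩
    have h2 := hC h1
    have h3 : ((xw ^ n) ^ j : ↥W) = (⟨(x ^ n) ^ j, W.zpow_mem (W.pow_mem (hRW hxR) n) j⟩ : ↥W) := by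
      apply Subtype.ext
      simp [xw]
    have h4 : (x ^ n) ^ j ∈ R := R.zpow_mem (R.pow_mem hxR n) j
    have h5 : u * ((x ^ n) ^ j)⁻¹ ∈ R := by
      have : ((uw * ((xw ^ n) ^ j)⁻¹ : ↥W) : G) = u * ((x ^ n) ^ j)⁻¹ := by
        simp [uw, xw]
      rwa [this] at h2
    have := R.mul_mem h5 h4
    simpa using this
  -- so `U` is cyclic of exponent `r`
  haveI : IsCyclic ↥(U.subgroupOf R) := by
    haveI := hRcyc
    infer_instance
  have hcardU : Nat.card ↥U = Nat.card ↥(U.subgroupOf R) :=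
    (Nat.card_congr (Subgroup.subgroupOfEquivOfLe hUR).toEquiv).symm
  haveI : Fintype ↥(U.subgroupOf R) := Fintype.ofFinite _
  have hle : (Finset.univ.filter fun a : ↥(U.subgroupOf R) => a ^ r = 1).card ≤ r :=
    IsCyclic.card_pow_eq_one_le hrp.pos
  have hall : (Finset.univ.filter fun a : ↥(U.subgroupOf R) => a ^ r = 1) = Finset.univ := by
    apply Finset.filter_true_of_mem
    rintro ⟨⟨a, haR⟩, haU⟩ -
    apply Subtype.ext
    apply Subtype.ext
    exact hU a haU
  rw [hall, Finset.card_univ, ← Nat.card_eq_fintype_card, ← hcardU] at hle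
  have : r < r ^ 2 := by
    have := hrp.one_lt
    nlinarith
  omega

end Cfsg.Agent.Helper54.Singer
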