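import Mathlib
import Cfsg.Prelude.Def_OddOrderLocal
import Cfsg.Agent.Helper29.BG11A
import Cfsg.Agent.Helper21.PRank
import Cfsg.Agent.Helper22.BGCor107
import Cfsg.Agent.Helper68.BG12A
import Cfsg.Agent.Helper31.CoprimeHyp
import Cfsg.Agent.Helper54.SingerKey

/-!
# The "Singer case" of B-G Lemma 12.13 (statement S1421) is impossible (helper54)

`A` elementary abelian of order `p ^ 2`, maximal among elementary abelian `p`-subgroups of `G`, all
Sylow `p`-subgroups of `G` abelian, `C_G(A) ≤ E`, `R` a cyclic maximal `r`-subgroup of `E`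
normalizing `A`, and some `z ∈ R` of order `r` centralizing `A`.  Then `R` normalizes a subgroup of
order `p` of `A`.

Black boxes (statement-shaped hypotheses): S1403 (`UniquenessThm`), S1409, S1414, S1417 (a)-(d).
The proof looks at a maximal subgroup `L ⊇ N_G(⟨z⟩)`.
-/

set_option autoImplicit false
set_option linter.style.haveILetI false
set_option linter.unusedSectionVars false
set_option linter.unusedVariables false

namespace Cfsg.Agent.Helper54.Singer

open Cfsg Cfsg.Agent.Helper29.BG10 Cfsg.Agent.Helper29.BG11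

universe u

/-- S1409, the rank part -/
def H1409 (G : Type u) [Group G] : Prop :=
  ∀ (L : Subgroup G), IsCoatom L → ∀ (q : ℕ) [Fact q.Prime], q ∉ Cfsg.sigma L →
    ∀ X : Subgroup G, Nat.card X = q → Subgroup.normalizer (X : Set G) ≤ L →
      Cfsg.PRankLE q 2 L ∧ ¬ Cfsg.PRankLE q 1 L

/-- S1414, the normal `q`-complement of `M_σ` -/
def H1414 (G : Type u) [Group G] : Prop :=
  ∀ (L : Subgroup G), IsCoatom L → ∀ q : ℕ, q.Prime → q ∣ Nat.card L → q ∉ Cfsg.beta L →
    Cfsg.HasNormalPComplement q ↥(Cfsg.sigmaCore L)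

/-- S1417 (a), (b) first part, (c), (d) -/
def H1417 (G : Type u) [Group G] : Prop :=
  ∀ (L : Subgroup G), IsCoatom L → ∀ (q : ℕ) [Fact q.Prime], q ∈ Cfsg.tau2 L →
    ∀ B : Subgroup G, B ≤ L → Cfsg.IsElementaryAbelian q B → Nat.card B = q ^ 2 →
      Group.IsNilpotent (Cfsg.sigmaCore L) ∧
      (∀ P : Sylow q L, IsMulCommutative (P : Subgroup L)) ∧
      L ≤ Subgroup.normalizer ((Cfsg.sigmaCore L ⊔ B : Subgroup G) : Set G) ∧
      Cfsg.sigmaCore L ⊓ Subgroup.centralizer (B : Set G) = ⊥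

variable {G : Type u} [Group G] [Finite G]

/-! ### `Ω₁` of an abelian Sylow subgroup -/

section omega

variable {p : ℕ} [hp : Fact p.Prime]
  (hSyl : ∀ S : Sylow p G, IsMulCommutative (S : Subgroup G))
  {A : Subgroup G} (hAea : Cfsg.IsElementaryAbelian p A)
  (hAmax : ∀ B : Subgroup G, Cfsg.IsElementaryAbelian p B → A ≤ B → B = A)

include hSyl hAea hAmax

/-- in a `p`-subgroup containing `A`, the elements of order dividing `p` lie in `A` -/
theorem mem_of_pow_eq_one {Q : Subgroup G} (hQ : IsPGroup p Q) (hAQ : A ≤ Q) {x : G}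
    (hx : x ∈ Q) (hxp : x ^ p = 1) : x ∈ A := by
  obtain ⟨S, hS⟩ := hQ.exists_le_sylow
  haveI := hSyl S
  have hc : ∀ a ∈ (S : Subgroup G), ∀ b ∈ (S : Subgroup G), a * b = b * a := fun a ha b hb =>
    setLike_mul_comm ha hb
  let B : Subgroup G :=
    { carrier := {y | y ∈ (S : Subgroup G) ∧ y ^ p = 1}
      mul_mem' := by
        rintro a b ⟨ha, hap⟩ ⟨hb, hbp⟩
        refine ⟨Subgroup.mul_mem _ ha hb, ?_⟩
        have : Commute a b := hc a ha b hb
        rw [this.mul_pow, hap, hbp, one_mul]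
      one_mem' := ⟨Subgroup.one_mem _, one_pow _⟩
      inv_mem' := by
        rintro a ⟨ha, hap⟩
        exact ⟨Subgroup.inv_mem _ ha, by rw [inv_pow, hap, inv_one]⟩ }
  have hB : Cfsg.IsElementaryAbelian p B :=
    ⟨⟨⟨fun a b => Subtype.ext (hc a a.2.1 b b.2.1)⟩⟩, fun a ha => ha.2⟩
  have hAB : A ≤ B := fun a ha => ⟨hS (hAQ ha), hAea.2 a ha⟩
  have hBA := hAmax B hB hAB
  have : x ∈ B := ⟨hS hx, hxp⟩
  rwa [hBA] at this

/-- the normalizer of a `p`-subgroup containing `A` normalizes `A` -/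
theorem normalizer_le_normalizer {Q : Subgroup G} (hQ : IsPGroup p Q) (hAQ : A ≤ Q) :
    Subgroup.normalizer (Q : Set G) ≤ Subgroup.normalizer (A : Set G) := by
  have key : ∀ n ∈ Subgroup.normalizer (Q : Set G), ∀ a ∈ A, n * a * n⁻¹ ∈ A := by
    intro n hn a ha
    have h1 : n * a * n⁻¹ ∈ Q := (Subgroup.mem_normalizer_iff.mp hn a).mp (hAQ ha)
    apply mem_of_pow_eq_one hSyl hAea hAmax hQ hAQ h1
    rw [conj_pow, hAea.2 a ha, mul_one, mul_inv_cancel]
  intro n hn
  rw [Subgroup.mem_normalizer_iff]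
  intro a
  constructor
  · exact key n hn a
  · intro h
    have := key n⁻¹ (Subgroup.inv_mem _ hn) _ h
    simpa [mul_assoc] using this

/-- `G` has `p`-rank `2` -/
theorem card_le_of_isElementaryAbelian (hAcard : Nat.card A = p ^ 2) {B : Subgroup G}
    (hB : Cfsg.IsElementaryAbelian p B) : Nat.card B ≤ p ^ 2 := by
  have hAp : IsPGroup p A := isPGroup_of_isElementaryAbelian hAea
  obtain ⟨S, hS⟩ := hAp.exists_le_sylow
  have hBp : IsPGroup p B := isPGroup_of_isElementaryAbelian hB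
  have hidx : ¬ p ∣ (S : Subgroup G).relIndex ⊤ := by
    rw [Subgroup.relIndex_top_right]; exact S.not_dvd_index
  obtain ⟨a, -, ha⟩ := Cfsg.Agent.Helper84.exists_conj_le_of_relIndex (⊤ : Subgroup G)
    (S : Subgroup G) B le_top S.isPGroup' hidx le_top hBp
  have hle : cj a B ≤ A := by
    intro x hx
    have hx' := mem_cj.1 hx
    have h1 := ha _ hx'
    have e : a * (a⁻¹ * x * a) * a⁻¹ = x := by group
    rw [e] at h1
    apply mem_of_pow_eq_one hSyl hAea hAmax S.isPGroup' hS h1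
    have h2 := hB.2 _ hx'
    have e2 : x ^ p = a * (a⁻¹ * x * a) ^ p * a⁻¹ := by
      rw [← conj_pow, e]
    rw [e2, h2]; group
  have := Subgroup.card_le_of_le hle
  rwa [card_cj, hAcard] at this

end omega

/-! ### the final contradiction, inside a maximal subgroup `L` -/

theorem singer_finish {r : ℕ} [hr : Fact r.Prime] {A R E L N U0 : Subgroup G}
    (hAcomm : ∀ a ∈ A, ∀ b ∈ A, a * b = b * a) (hA1 : A ≠ ⊥)
    (hirr : ∀ Y : Subgroup G, Y ≤ A → R ≤ Subgroup.normalizer (Y : Set G) → Y = ⊥ ∨ Y = A)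
    (hRnt : ¬ R ≤ Subgroup.centralizer (A : Set G))
    (hRcyc : IsCyclic R) (hRr : IsPGroup r R)
    (hCAE : Subgroup.centralizer (A : Set G) ≤ E) (hRE : R ≤ E)
    (hRmax : ∀ Q : Subgroup G, R ≤ Q → Q ≤ E → IsPGroup r Q → Q ≤ R)
    (hNL : N ≤ L) (hNA : N ≤ Subgroup.normalizer (A : Set G)) (hRN : R ≤ N)
    (hidx : ¬ r ∣ N.relIndex L)
    (hsylab : ∀ P : Sylow r L, IsMulCommutative (P : Subgroup L))
    (hU0L : U0 ≤ L) (hU0comm : ∀ a ∈ U0, ∀ b ∈ U0, a * b = b * a)
    (hU0exp : ∀ a ∈ U0, a ^ r = 1) (hU0card : r ^ 2 ≤ Nat.card U0) : False := by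
  obtain ⟨W, hRW, hWN⟩ := exists_isSylowIn_ge hRN hRr
  have hWL : IsSylowIn r W L := by
    refine ⟨hWN.1.trans hNL, hWN.2.1, ?_⟩
    rw [← Subgroup.relIndex_mul_relIndex W N L hWN.1 hNL]
    intro hd
    rcases (Nat.Prime.dvd_mul hr.out).1 hd with h | h
    · exact hWN.2.2 h
    · exact hidx h
  obtain ⟨P, hP⟩ := Cfsg.Agent.Helper29.BG11.IsSylowIn.exists_sylow hWL
  haveI hPc := hsylab P
  have hWcomm : ∀ x ∈ W, ∀ y ∈ W, x * y = y * x := by
    rw [← hP]
    rintro _ ⟨x, hx, rfl⟩ _ ⟨y, hy, rfl⟩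
    have : x * y = y * x := setLike_mul_comm (s := (P : Subgroup L)) hx hy
    rw [← map_mul, ← map_mul, this]
  have hU0r : IsPGroup r U0 := by
    intro x
    refine ⟨1, ?_⟩
    apply Subtype.ext
    rw [pow_one, Subgroup.coe_pow, Subgroup.coe_one]
    exact hU0exp x x.2
  obtain ⟨a, haL, ha⟩ := Cfsg.Agent.Helper84.exists_conj_le_of_relIndex L W U0 hWL.1 hWL.2.1
    hWL.2.2 hU0L hU0r
  have hUW : cj a U0 ≤ W := by
    intro x hx
    have := ha _ (mem_cj.1 hx)
    have e : a * (a⁻¹ * x * a) * a⁻¹ = x := by group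
    rwa [e] at this
  have hU : ∀ u ∈ cj a U0, u ^ r = 1 := by
    intro u hu
    have h2 := hU0exp _ (mem_cj.1 hu)
    have e : a * (a⁻¹ * u * a) * a⁻¹ = u := by group
    have e2 : u ^ r = a * (a⁻¹ * u * a) ^ r * a⁻¹ := by
      rw [← conj_pow, e]
    rw [e2, h2]; group
  have hUcard : r ^ 2 ≤ Nat.card (cj a U0) := by rw [card_cj]; exact hU0card
  have hC : W ⊓ Subgroup.centralizer (A : Set G) ≤ R := by
    have hQ : R ⊔ (W ⊓ Subgroup.centralizer (A : Set G)) ≤ R :=
      hRmax _ le_sup_left (sup_le hRE (inf_le_right.trans hCAE))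
        (hWN.2.1.to_le (sup_le hRW inf_le_left))
    exact le_sup_right.trans hQ
  exact singer_key A W R (cj a U0) hAcomm hA1 (hWN.1.trans hNA) hWcomm hWN.2.1 hRW hUW hirr hRnt
    hC hRcyc hU hUcard

/-! ### the main theorem -/

/-- a commutator `x a x⁻¹ a⁻¹`, `x ∈ R` normalizing `A`, `a ∈ A`, `x ∈ S` with `S` normalized by
`a`, lies in `A ⊓ S` -/
theorem le_centralizer_of_inf_eq_bot {A R S : Subgroup G}
    (hRA : R ≤ Subgroup.normalizer (A : Set G)) (hRS : R ≤ S)
    (hAS : A ≤ Subgroup.normalizer (S : Set G)) (hAS0 : A ⊓ S = ⊥) :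
    R ≤ Subgroup.centralizer (A : Set G) := by
  intro x hx
  rw [Subgroup.mem_centralizer_iff]
  intro a ha
  have h1 : x * a * x⁻¹ * a⁻¹ ∈ A :=
    A.mul_mem ((Subgroup.mem_normalizer_iff.mp (hRA hx) a).mp ha) (A.inv_mem ha)
  have h2 : x * a * x⁻¹ * a⁻¹ ∈ S := by
    have h3 : a * x⁻¹ * a⁻¹ ∈ S :=
      (Subgroup.mem_normalizer_iff.mp (hAS ha) _).mp (S.inv_mem (hRS hx))
    have e : x * a * x⁻¹ * a⁻¹ = x * (a * x⁻¹ * a⁻¹) := by group
    rw [e]; exact S.mul_mem (hRS hx) h3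
  have h4 : x * a * x⁻¹ * a⁻¹ ∈ A ⊓ S := ⟨h1, h2⟩
  rw [hAS0, Subgroup.mem_bot] at h4
  calc a * x = (x * a * x⁻¹ * a⁻¹)⁻¹ * (x * a) := by group
    _ = x * a := by rw [h4, inv_one, one_mul]

theorem exists_point_normalized (hG : Cfsg.IsMinSimpleOddOrder G) (hU : UniquenessThm G)
    (h1409 : H1409 G) (h1414 : H1414 G) (h1417 : H1417 G)
    {p : ℕ} [hp : Fact p.Prime] (hSyl : ∀ S : Sylow p G, IsMulCommutative (S : Subgroup G))
    {A : Subgroup G} (hAea : Cfsg.IsElementaryAbelian p A) (hAcard : Nat.card A = p ^ 2)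
    (hAmax : ∀ B : Subgroup G, Cfsg.IsElementaryAbelian p B → A ≤ B → B = A)
    {E : Subgroup G} (hCAE : Subgroup.centralizer (A : Set G) ≤ E)
    {r : ℕ} [hr : Fact r.Prime] (hrp : r ≠ p) {R : Subgroup G} (hRr : IsPGroup r R)
    (hRcyc : IsCyclic R) (hRE : R ≤ E)
    (hRmax : ∀ Q : Subgroup G, R ≤ Q → Q ≤ E → IsPGroup r Q → Q ≤ R)
    (hRA : R ≤ Subgroup.normalizer (A : Set G)) {z : G} (hzR : z ∈ R) (hz : orderOf z = r)
    (hzA : z ∈ Subgroup.centralizer (A : Set G)) :
    ∃ Y : Subgroup G, Y ≤ A ∧ Nat.card Y = p ∧ R ≤ Subgroup.normalizer (Y : Set G) := by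
  by_contra hno
  push Not at hno
  have hpp : p.Prime := hp.out
  have hrr : r.Prime := hr.out
  haveI : IsSimpleGroup G := hG.2.1
  have hAp : IsPGroup p A := isPGroup_of_isElementaryAbelian hAea
  have hAcomm : ∀ a ∈ A, ∀ b ∈ A, a * b = b * a := fun a ha b hb => by
    have := hAea.1.is_comm.comm (⟨a, ha⟩ : A) ⟨b, hb⟩
    exact congrArg Subtype.val this
  have hp_lt : p < p ^ 2 := by
    have := hpp.one_lt
    nlinarith
  have hA1 : A ≠ ⊥ := by
    intro h
    rw [h, Subgroup.card_bot] at hAcard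
    have := hpp.one_lt
    omega
  -- irreducibility
  have hirr : ∀ Y : Subgroup G, Y ≤ A → R ≤ Subgroup.normalizer (Y : Set G) → Y = ⊥ ∨ Y = A := by
    intro Y hYA hYR
    have hd : Nat.card Y ∣ p ^ 2 := hAcard ▸ Subgroup.card_dvd_of_le hYA
    obtain ⟨k, hk2, hk⟩ := (Nat.dvd_prime_pow hpp).mp hd
    interval_cases k
    · left
      exact Subgroup.card_eq_one.mp (by simpa using hk)
    · exact absurd hYR (hno Y hYA (by simpa using hk))
    · right
      exact Subgroup.eq_of_le_of_card_ge hYA (by rw [hk, hAcard])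
  -- `R` acts nontrivially
  have hRnt : ¬ R ≤ Subgroup.centralizer (A : Set G) := by
    intro hRC
    have hpA : p ∣ Nat.card A := by rw [hAcard]; exact dvd_pow_self p (by norm_num)
    obtain ⟨a, ha⟩ := exists_prime_orderOf_dvd_card' p hpA
    have hYA : Subgroup.zpowers (a : G) ≤ A := (Subgroup.zpowers_le).mpr a.2
    apply hno (Subgroup.zpowers (a : G)) hYA
    · rw [Nat.card_zpowers, Subgroup.orderOf_coe, ha]
    · exact hRC.trans ((Subgroup.centralizer_le hYA).trans
        (Subgroup.centralizer_le_normalizer _))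
  -- the maximal subgroup `L`
  set X : Subgroup G := Subgroup.zpowers z with hXdef
  have hXcard : Nat.card X = r := by rw [Nat.card_zpowers, hz]
  have hX1 : X ≠ ⊥ := by
    intro h
    rw [h, Subgroup.card_bot] at hXcard
    exact hrr.one_lt.ne hXcard
  have hXr : IsPGroup r X := IsPGroup.of_card (n := 1) (by rw [hXcard, pow_one])
  have hNtop : Subgroup.normalizer (X : Set G) ≠ ⊤ :=
    Cfsg.Agent.Helper31.bgt_normalizer_ne_top_of_simple hX1 (isPGroup_ne_top hG hXr)
  obtain ⟨L, hL, hNL⟩ := (eq_top_or_exists_le_coatom _).resolve_left hNtop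
  have hCX : Subgroup.centralizer (X : Set G) ≤ L :=
    (Subgroup.centralizer_le_normalizer _).trans hNL
  have hAL : A ≤ L := by
    refine le_trans ?_ hCX
    rw [Subgroup.le_centralizer_iff]
    exact (Subgroup.zpowers_le).mpr hzA
  have hRL : R ≤ L := by
    refine le_trans ?_ hCX
    rw [Subgroup.le_centralizer_iff]
    refine (Subgroup.zpowers_le).mpr ?_
    rw [Subgroup.mem_centralizer_iff]
    intro x hx
    letI := hRcyc.commGroup
    have := mul_comm (⟨x, hx⟩ : R) ⟨z, hzR⟩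
    exact congrArg Subtype.val this
  -- `p`-rank of `L`
  have hrank : ∀ B : Subgroup G, Cfsg.IsElementaryAbelian p B → Nat.card B ≤ p ^ 2 :=
    fun B hB => card_le_of_isElementaryAbelian hSyl hAea hAmax hAcard hB
  have hp2L : Cfsg.PRankLE p 2 L := by
    by_contra h
    rw [Cfsg.Agent.Helper21.not_prankLE_iff] at h
    obtain ⟨E', hE'L, hc, he, hcard⟩ := h
    have := hrank E' ⟨⟨⟨fun a b => Subtype.ext (hc a a.2 b b.2)⟩⟩, he⟩
    omega
  have hp1L : ¬ Cfsg.PRankLE p 1 L := by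
    rw [Cfsg.Agent.Helper21.not_prankLE_iff]
    exact ⟨A, hAL, hAcomm, hAea.2, by rw [hAcard, pow_one]; exact hp_lt⟩
  have hpβ : p ∉ Cfsg.beta L := fun h => h.1.2 hp2L
  have hpL : p ∣ Nat.card L :=
    (by rw [hAcard]; exact dvd_pow_self p (by norm_num) : p ∣ Nat.card A).trans
      (Subgroup.card_dvd_of_le hAL)
  -- `L_σ`
  obtain ⟨⟨hσL, hσprimes, -⟩, -, -⟩ := thm_10_2_sigma hG hU L hL
  have hσnorm : L ≤ Subgroup.normalizer ((Cfsg.sigmaCore L : Subgroup G) : Set G) := by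
    intro l hl
    rw [Subgroup.mem_normalizer_iff]
    intro s
    constructor
    · exact fun hs => Cfsg.Agent.Helper68.BG12.conj_mem_sigmaCore hl hs
    · intro hs
      have := Cfsg.Agent.Helper68.BG12.conj_mem_sigmaCore (L.inv_mem hl) hs
      simpa [mul_assoc] using this
  have hcop_of : ∀ q : ℕ, q.Prime → q ∉ Cfsg.sigma L → ¬ q ∣ Nat.card (Cfsg.sigmaCore L) :=
    fun q hq hqσ hd => hqσ (hσprimes q hq hd)
  have hAσ0 : p ∉ Cfsg.sigma L → A ⊓ Cfsg.sigmaCore L = ⊥ := by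
    intro hpσ
    apply (Subgroup.disjoint_of_coprime_natCard ?_).eq_bot
    rw [hAcard]
    exact Nat.Coprime.pow_left 2 ((Nat.Prime.coprime_iff_not_dvd hpp).2 (hcop_of p hpp hpσ))
  by_cases hrσ : r ∈ Cfsg.sigma L
  · -- `r ∈ σ(L)`
    have hRσ : R ≤ Cfsg.sigmaCore L := le_sigmaCore_of_isPGroup hG hU hL hrσ hRr hRL
    by_cases hpσ : p ∈ Cfsg.sigma L
    · -- (A1)
      have hAσ : A ≤ Cfsg.sigmaCore L := le_sigmaCore_of_isPGroup hG hU hL hpσ hAp hAL
      obtain ⟨P, N, hNn, hNc⟩ := h1414 L hL p hpp hpL hpβ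
      have hNidx : N.index = Nat.card (P : Subgroup ↥(Cfsg.sigmaCore L)) :=
        hNc.symm.index_eq_card
      have hNcard : ¬ p ∣ Nat.card N := by
        rw [← hNc.index_eq_card]
        exact P.not_dvd_index
      have hcop : (N.index).Coprime r := by
        rw [hNidx]
        obtain ⟨k, hk⟩ := IsPGroup.iff_card.mp P.isPGroup'
        rw [hk]
        exact Nat.Coprime.pow_left k ((Nat.coprime_primes hpp hrr).2 (Ne.symm hrp))
      have hRN : R.subgroupOf (Cfsg.sigmaCore L) ≤ N :=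
        le_of_index_coprime N hcop _ hRr.comap_subtype
      -- pass to the image of `N` in `G`
      have hRN' : R ≤ N.map (Cfsg.sigmaCore L).subtype := by
        intro x hx
        exact ⟨⟨x, hRσ hx⟩, hRN (Subgroup.mem_subgroupOf.mpr hx), rfl⟩
      have hAN : A ≤ Subgroup.normalizer ((N.map (Cfsg.sigmaCore L).subtype : Subgroup G) : Set G) := by
        have key : ∀ a ∈ A, ∀ y ∈ N.map (Cfsg.sigmaCore L).subtype,
            a * y * a⁻¹ ∈ N.map (Cfsg.sigmaCore L).subtype := by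
          rintro a ha _ ⟨y, hy, rfl⟩
          refine ⟨⟨a, hAσ ha⟩ * y * ⟨a, hAσ ha⟩⁻¹, hNn.conj_mem y hy _, ?_⟩
          simp
        intro a ha
        rw [Subgroup.mem_normalizer_iff]
        intro y
        constructor
        · exact key a ha y
        · intro h
          have := key a⁻¹ (A.inv_mem ha) _ h
          simpa [mul_assoc] using this
      have hAN0 : A ⊓ N.map (Cfsg.sigmaCore L).subtype = ⊥ := by
        apply (Subgroup.disjoint_of_coprime_natCard ?_).eq_bot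
        rw [hAcard, Subgroup.card_map_of_injective (Subgroup.subtype_injective _)]
        exact Nat.Coprime.pow_left 2 ((Nat.Prime.coprime_iff_not_dvd hpp).2 hNcard)
      exact hRnt (le_centralizer_of_inf_eq_bot hRA hRN' hAN hAN0)
    · -- `p ∉ σ(L)`, `r ∈ σ(L)`
      exact hRnt (le_centralizer_of_inf_eq_bot hRA hRσ (hAL.trans hσnorm) (hAσ0 hpσ))
  · -- `r ∈ τ₂(L)`
    obtain ⟨hr2, hr1⟩ := h1409 L hL r hrσ X hXcard hNL
    have hrτ2 : r ∈ Cfsg.tau2 L := ⟨hrr, hrσ, hr2, hr1⟩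
    have hr1' := hr1
    rw [Cfsg.Agent.Helper21.not_prankLE_iff] at hr1'
    obtain ⟨U0, hU0L, hU0c, hU0e, hU0card⟩ := hr1'
    rw [pow_one] at hU0card
    have hU0ea : Cfsg.IsElementaryAbelian r U0 :=
      ⟨⟨⟨fun a b => Subtype.ext (hU0c a a.2 b b.2)⟩⟩, hU0e⟩
    have hU0le : Nat.card U0 ≤ r ^ 2 := by
      by_contra hlt
      push Not at hlt
      apply (Cfsg.Agent.Helper21.not_prankLE_iff (p := r) (n := 2) L).mpr ?_ hr2
      exact ⟨U0, hU0L, hU0c, hU0e, hlt⟩
    have hU0card2 : Nat.card U0 = r ^ 2 := by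
      obtain ⟨k, hk⟩ := IsPGroup.iff_card.mp (isPGroup_of_isElementaryAbelian hU0ea)
      rw [hk] at hU0card hU0le ⊢
      have hk1 : 1 < k := by
        by_contra h
        push Not at h
        have : r ^ k ≤ r ^ 1 := Nat.pow_le_pow_right hrr.pos h
        rw [pow_one] at this
        omega
      have hk2 : k ≤ 2 := by
        by_contra h
        push Not at h
        have : r ^ 2 < r ^ k := Nat.pow_lt_pow_right hrr.one_lt h
        omega
      have : k = 2 := by omega
      rw [this]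
    obtain ⟨hnil, hsylab, -, -⟩ := h1417 L hL r hrτ2 U0 hU0L hU0ea hU0card2
    by_cases hpσ : p ∈ Cfsg.sigma L
    · -- (A2)
      have hAσ : A ≤ Cfsg.sigmaCore L := le_sigmaCore_of_isPGroup hG hU hL hpσ hAp hAL
      obtain ⟨Qp, hAQ, hQp⟩ := exists_isSylowIn_ge hAσ hAp
      have hLQ : L ≤ Subgroup.normalizer (Qp : Set G) :=
        hσnorm.trans (IsSylowIn.normalizer_le_of_isNilpotent hQp hnil)
      have hLA : L ≤ Subgroup.normalizer (A : Set G) :=
        hLQ.trans (normalizer_le_normalizer hSyl hAea hAmax hQp.2.1 hAQ)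
      refine singer_finish (N := L) (L := L) hAcomm hA1 hirr hRnt hRcyc hRr hCAE hRE hRmax le_rfl hLA
        hRL ?_ hsylab hU0L hU0c hU0e hU0card2.ge
      rw [Subgroup.relIndex_self]
      exact hrr.not_dvd_one
    · -- (B)
      have hpτ2 : p ∈ Cfsg.tau2 L := ⟨hpp, hpσ, hp2L, hp1L⟩
      obtain ⟨-, -, hLK, hCL⟩ := h1417 L hL p hpτ2 A hAL hAea hAcard
      have hA0 := hAσ0 hpσ
      set NA : Subgroup G := L ⊓ Subgroup.normalizer (A : Set G) with hNAdef
      have hNAL : NA ≤ L := inf_le_left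
      have hANA : A ≤ NA := le_inf hAL Subgroup.le_normalizer
      -- `N_L(A) ∩ L_σ = 1`
      have hNσ : NA ⊓ Cfsg.sigmaCore L = ⊥ := by
        rw [eq_bot_iff]
        intro x hx
        have hxc : Subgroup.zpowers x ≤ Subgroup.centralizer (A : Set G) := by
          apply le_centralizer_of_inf_eq_bot (S := Cfsg.sigmaCore L)
          · exact (Subgroup.zpowers_le).mpr hx.1.2
          · exact (Subgroup.zpowers_le).mpr hx.2
          · exact hAL.trans hσnorm
          · exact hA0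
        have : x ∈ Cfsg.sigmaCore L ⊓ Subgroup.centralizer (A : Set G) :=
          ⟨hx.2, hxc (Subgroup.mem_zpowers x)⟩
        rwa [hCL] at this
      -- Frattini
      have hcardK : Nat.card ((Cfsg.sigmaCore L ⊔ A : Subgroup G)) =
          Nat.card A * Nat.card (Cfsg.sigmaCore L) := by
        have := Cfsg.Agent.Helper31.card_sup_mul_card_inf' A (Cfsg.sigmaCore L) (hAL.trans hσnorm)
        rw [hA0, Subgroup.card_bot, mul_one, sup_comm] at this
        exact this
      have hAK : IsSylowIn p A (Cfsg.sigmaCore L ⊔ A) := by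
        refine ⟨le_sup_right, hAp, ?_⟩
        have h1 := Cfsg.Agent.Helper31.relIndex_mul_card' (H := A)
          (K := Cfsg.sigmaCore L ⊔ A) le_sup_right
        rw [hcardK, mul_comm] at h1
        have h2 : A.relIndex (Cfsg.sigmaCore L ⊔ A) = Nat.card (Cfsg.sigmaCore L) :=
          Nat.eq_of_mul_eq_mul_left Nat.card_pos h1
        rw [h2]
        exact hcop_of p hpp hpσ
      have hKL : Cfsg.sigmaCore L ⊔ A ≤ L := sup_le hσL hAL
      have hFr : L ≤ NA ⊔ Cfsg.sigmaCore L := by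
        intro l hl
        have hle : cj l A ≤ Cfsg.sigmaCore L ⊔ A := by
          intro x hx
          have hx' := mem_cj.1 hx
          have h1 := (Subgroup.mem_normalizer_iff.mp (hLK hl) _).mp
            ((le_sup_right : A ≤ Cfsg.sigmaCore L ⊔ A) hx')
          have e : l * (l⁻¹ * x * l) * l⁻¹ = x := by group
          rwa [e] at h1
        have hS' : IsSylowIn p (cj l A) (Cfsg.sigmaCore L ⊔ A) :=
          isSylowIn_of_card_eq hAK hle (isPGroup_cj hAp) (card_cj _ _)
        obtain ⟨n, hnK, hn⟩ := hAK.exists_cj_eq hS'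
        rw [← cj_mul] at hn
        have hnl : n * l ∈ NA := ⟨L.mul_mem (hKL hnK) hl, mem_normalizer_of_cj_eq hn⟩
        have hn' : n ∈ NA ⊔ Cfsg.sigmaCore L :=
          (sup_le le_sup_right (hANA.trans le_sup_left) :
            Cfsg.sigmaCore L ⊔ A ≤ NA ⊔ Cfsg.sigmaCore L) hnK
        have e : l = n⁻¹ * (n * l) := by group
        rw [e]
        exact Subgroup.mul_mem _ (Subgroup.inv_mem _ hn') (Subgroup.mem_sup_left hnl)
      have hsup : NA ⊔ Cfsg.sigmaCore L = L := le_antisymm (sup_le hNAL hσL) hFr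
      have hidx : ¬ r ∣ NA.relIndex L := by
        have h1 := Cfsg.Agent.Helper31.card_sup_mul_card_inf' NA (Cfsg.sigmaCore L)
          (hNAL.trans hσnorm)
        rw [hNσ, Subgroup.card_bot, mul_one, hsup] at h1
        have h2 := Cfsg.Agent.Helper31.relIndex_mul_card' (H := NA) (K := L) hNAL
        rw [h1, mul_comm] at h2
        have h3 : NA.relIndex L = Nat.card (Cfsg.sigmaCore L) :=
          Nat.eq_of_mul_eq_mul_left Nat.card_pos h2
        rw [h3]
        exact hcop_of r hrr hrσ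
      exact singer_finish (N := NA) (L := L) hAcomm hA1 hirr hRnt hRcyc hRr hCAE hRE hRmax hNAL
        inf_le_right (le_inf hRL hRA) hidx hsylab hU0L hU0c hU0e hU0card2.ge

end Cfsg.Agent.Helper54.Singer
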