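import Cfsg.Agent.Helper54.BG1213Singer
import Cfsg.Agent.S1403
import Cfsg.Agent.S1408
import Cfsg.Agent.S1409
import Cfsg.Agent.S1414
import Cfsg.Agent.S1417
import Cfsg.Agent.S1418

/-!
# The "Singer case" of S1421, with the black boxes instantiated by the statements
S1403, S1408, S1409, S1414, S1417, S1418 (helper54).
-/

set_option autoImplicit false

namespace Cfsg.Agent.Helper54.Singer

open Cfsg

/-- Let `p ∈ τ₂(M)` with all Sylow `p`-subgroups of `G` abelian, `A ≤ E` elementary abelian of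
order `p ^ 2`, `r ≠ p` a prime, `R` a cyclic maximal `r`-subgroup of `E` and `z ∈ R` of order `r`
centralizing `A`.  Then `R` normalizes a subgroup of order `p` of `A`. -/
theorem exists_point_normalized_of_tau2 {G : Type*} [Group G] [Finite G]
    (hG : Cfsg.IsMinSimpleOddOrder G) (M : Subgroup G) (hM : IsCoatom M) (E : Subgroup G)
    (hE : Cfsg.IsComplIn E (Cfsg.sigmaCore M) M) (p : ℕ) [Fact p.Prime] (hp : p ∈ Cfsg.tau2 M)
    (hSyl : ∀ S : Sylow p G, IsMulCommutative (S : Subgroup G))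
    (A : Subgroup G) (hA : A ≤ E ∧ Cfsg.IsElementaryAbelian p A ∧ Nat.card A = p ^ 2)
    (r : ℕ) [Fact r.Prime] (hrp : r ≠ p) (R : Subgroup G) (hRr : IsPGroup r R)
    (hRcyc : IsCyclic R) (hRE : R ≤ E)
    (hRmax : ∀ Q : Subgroup G, R ≤ Q → Q ≤ E → IsPGroup r Q → Q ≤ R)
    (z : G) (hzR : z ∈ R) (hz : orderOf z = r)
    (hzA : z ∈ Subgroup.centralizer (A : Set G)) :
    ∃ Y : Subgroup G, Y ≤ A ∧ Nat.card Y = p ∧ R ≤ Subgroup.normalizer (Y : Set G) := by
  have hU : Cfsg.Agent.Helper29.BG10.UniquenessThm G :=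
    fun K hK hK2 hK3 => Cfsg.Agent.S1403.result hG K hK hK2 hK3
  have h1409 : H1409 G := fun L hL q _ hq X hX hNX =>
    (Cfsg.Agent.S1409.result hG L hL q hq X hX hNX).1
  have h1414 : H1414 G := fun L hL q hq hqL hqβ =>
    ((Cfsg.Agent.S1414.result hG L hL).2.2.2.2 q hq hqL hqβ).2.1
  have h1417 : H1417 G := fun L hL q _ hq B hBL hB hBc => by
    obtain ⟨h1, h2, h3, h4, -, -⟩ := Cfsg.Agent.S1417.result hG L hL q hq B ⟨hBL, hB, hBc⟩
    exact ⟨h1, fun P => (h2 P).1, h3, h4⟩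
  have hAmax := (Cfsg.Agent.S1408.result hG M hM p hp.2.1 hp.2.2.1 hp.2.2.2).2 A
    (hA.1.trans hE.1) hA.2.1 hA.2.2
  obtain ⟨⟨hEA, -⟩, ⟨hC, hME, -⟩, -⟩ := Cfsg.Agent.S1418.result hG M hM E hE p hp A hA
  have hCAE : Subgroup.centralizer (A : Set G) ≤ E := by
    rw [← hME]; exact hC
  exact exists_point_normalized hG hU h1409 h1414 h1417 hSyl hA.2.1 hA.2.2 hAmax hCAE hrp hRr hRcyc
    hRE hRmax (hRE.trans hEA) hzR hz hzA

end Cfsg.Agent.Helper54.Singer
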