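import Mathlib
import Cfsg.Prelude.Def_OddOrderLocal
import Cfsg.Agent.Helper4.RankTwoAut
import Cfsg.Agent.Helper24.Omega
import Cfsg.Agent.Helper46.Amalgam
import Cfsg.Agent.Helper29.BG11A
import Cfsg.Agent.Helper21.PRank
import Cfsg.Agent.Helper50.CyclicSylow
import Cfsg.Agent.Helper22.BGCor107b
import Cfsg.Agent.Helper54.BG1213Singer
import Cfsg.Agent.Helper54.BG1213W2a
import Cfsg.Agent.Helper54.BG128

/-!
# The Sylow `p`-subgroup of `E` is normal in `E`, `p ∈ τ₂(M)` with abelian Sylow subgroups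
(for S1421; helper54)
-/

set_option autoImplicit false
set_option linter.style.haveILetI false
set_option linter.unusedSectionVars false
set_option linter.unusedVariables false

namespace Cfsg.Agent.Helper54.W2

open Cfsg Cfsg.Agent.Helper29.BG10 Cfsg.Agent.Helper29.BG11
open scoped commutatorElement

variable {G : Type*} [Group G] [Finite G]

/-- **Action lemma.** `NS` solvable of odd order normalizes the abelian `q`-group `W` of rank at most
two (`q` odd).  Then every `p`-element (`p ≠ q`) of `NS'` centralizes `W`. -/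
theorem centralizes_of_mem_commutator {q p : ℕ} [hq : Fact q.Prime] (hq2 : q ≠ 2) (hpp : p.Prime)
    (hqp : q ≠ p) {NS W : Subgroup G} (hodd : Odd (Nat.card G)) (hsolv : Group.IsSolvable NS)
    (hWq : IsPGroup q W) (hWcomm : ∀ a ∈ W, ∀ b ∈ W, a * b = b * a)
    (hWrk : Cfsg.PRankLE q 2 W) (hNW : NS ≤ Subgroup.normalizer (W : Set G)) {s : G}
    (hs : s ∈ ⁅NS, NS⁆) (hsp : ∃ k : ℕ, s ^ p ^ k = 1) : ∀ w ∈ W, s * w = w * s := by
  classical
  have hqq : q.Prime := hq.out
  -- `V = Ω₁(W)`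
  let V : Subgroup G :=
    { carrier := {w | w ∈ W ∧ w ^ q = 1}
      mul_mem' := by
        rintro a b ⟨ha, haq⟩ ⟨hb, hbq⟩
        refine ⟨W.mul_mem ha hb, ?_⟩
        have : Commute a b := hWcomm a ha b hb
        rw [this.mul_pow, haq, hbq, one_mul]
      one_mem' := ⟨W.one_mem, one_pow _⟩
      inv_mem' := by
        rintro a ⟨ha, haq⟩
        exact ⟨W.inv_mem ha, by rw [inv_pow, haq, inv_one]⟩ }
  have hVW : V ≤ W := fun v hv => hv.1
  have hNV : NS ≤ Subgroup.normalizer (V : Set G) := by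
    apply Cfsg.Agent.Helper46.le_normalizer_of_conj_mem
    intro n hn v hv
    refine ⟨(Subgroup.mem_normalizer_iff.mp (hNW hn) v).mp hv.1, ?_⟩
    rw [conj_pow, hv.2, mul_one, mul_inv_cancel]
  let ψ : ↥NS →* MulAut ↥V := V.normalizerMonoidHom.comp (Subgroup.inclusion hNV)
  have hψ : ∀ (n : ↥NS) (v : ↥V), ((ψ n v : ↥V) : G) = (n : G) * v * (n : G)⁻¹ := fun n v => rfl
  haveI hfin : Finite ψ.range := Finite.of_surjective ψ.rangeRestrict ψ.rangeRestrict_surjective
  have hoddK : Odd (Nat.card ψ.range) :=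
    Odd.of_dvd_nat hodd ((Subgroup.card_range_dvd ψ).trans (Subgroup.card_subgroup_dvd_card _))
  have hsolvK : Group.IsSolvable ψ.range :=
    Group.isSolvable_of_surjective (f := ψ.rangeRestrict) ψ.rangeRestrict_surjective
  have hexp : ∀ x : ↥V, x ^ q = 1 := fun x => Subtype.ext (by simpa using x.2.2)
  have hVcomm : ∀ x y : ↥V, x * y = y * x := fun x y =>
    Subtype.ext (hWcomm x x.2.1 y y.2.1)
  have hcen : ∀ x y : ↥V, ⁅x, y⁆ ∈ Subgroup.center ↥V := by
    intro x y
    have : ⁅x, y⁆ = 1 := commutatorElement_eq_one_iff_commute.mpr (hVcomm x y)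
    rw [this]; exact Subgroup.one_mem _
  have hrk : Cfsg.PRankLE q 2 ↥V := by
    by_contra h
    rw [Cfsg.Agent.Helper21.not_prankLE_iff] at h
    exact (Cfsg.Agent.Helper21.not_prankLE_iff W).mpr (h.mono hVW) hWrk
  have hker : IsPGroup q (ψ.range.subtype).ker := by
    rintro ⟨k, hk⟩
    refine ⟨0, ?_⟩
    rw [pow_zero, pow_one]
    apply Subtype.ext
    have : ψ.range.subtype k = 1 := hk
    exact Subtype.ext this
  have hcomK : IsPGroup q (commutator ↥ψ.range) :=
    Cfsg.Agent.Helper4.isPGroup_commutator_of_action hq2 hexp hcen hrk hoddK hsolvK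
      ψ.range.subtype hker
  -- `s` comes from the commutator subgroup of `NS`
  rw [← Subgroup.map_subtype_commutator] at hs
  obtain ⟨x, hx, hxs⟩ := hs
  have hxK : ψ.rangeRestrict x ∈ commutator ↥ψ.range := by
    have h1 : (commutator ↥NS).map ψ.rangeRestrict = commutator ↥ψ.range := by
      rw [commutator_def, commutator_def, Subgroup.map_commutator,
        ← MonoidHom.range_eq_map, MonoidHom.range_eq_top.mpr ψ.rangeRestrict_surjective]
    rw [← h1]
    exact ⟨x, hx, rfl⟩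
  obtain ⟨j, hj⟩ := hcomK ⟨_, hxK⟩
  have hj' : (ψ x) ^ q ^ j = 1 := by
    have := congrArg (fun t : ↥(commutator ↥ψ.range) => ((t : ↥ψ.range) : MulAut ↥V)) hj
    simpa using this
  obtain ⟨k, hk⟩ := hsp
  have hk' : (ψ x) ^ p ^ k = 1 := by
    rw [← map_pow]
    have : x ^ p ^ k = 1 := by
      apply Subtype.ext
      rw [Subgroup.coe_pow, Subgroup.coe_one]
      have : (x : G) = s := hxs
      rw [this, hk]
    rw [this, map_one]
  have hψx : ψ x = 1 := by
    have h1 : orderOf (ψ x) ∣ q ^ j := orderOf_dvd_of_pow_eq_one hj'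
    have h2 : orderOf (ψ x) ∣ p ^ k := orderOf_dvd_of_pow_eq_one hk'
    have hcop : (q ^ j).Coprime (p ^ k) :=
      Nat.Coprime.pow _ _ ((Nat.coprime_primes hqq hpp).2 hqp)
    exact orderOf_eq_one_iff.mp (Nat.eq_one_of_dvd_coprimes hcop h1 h2)
  have hxs' : (x : G) = s := hxs
  have hsV : ∀ v ∈ V, s * v = v * s := by
    intro v hv
    have := congrArg (fun f : MulAut ↥V => ((f ⟨v, hv⟩ : ↥V) : G)) hψx
    simp only [hψ, MulAut.one_apply, hxs'] at this
    calc s * v = s * v * s⁻¹ * s := by group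
      _ = v * s := by rw [this]
  -- `Ω₁` theorem
  have hsN : s ∈ Subgroup.normalizer (W : Set G) := by
    rw [← hxs']; exact hNW x.2
  have hcop : (orderOf s).Coprime q := by
    have h2 : orderOf s ∣ p ^ k := orderOf_dvd_of_pow_eq_one hk
    exact Nat.Coprime.coprime_dvd_left h2
      (Nat.Coprime.pow_left k ((Nat.coprime_primes hpp hqq).2 (Ne.symm hqp)))
  apply Cfsg.Agent.Helper24.commute_of_commute_omega hcop W hWq hsN
  intro w hw hcase
  rcases hcase with h | ⟨h, -⟩
  · exact hsV w ⟨hw, h⟩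
  · exact absurd h hq2

/-! ### primary parts of an abelian subgroup -/

/-- the `q`-elements of an (elementwise) abelian subgroup `B` -/
def primaryPart (B : Subgroup G) (hB : ∀ a ∈ B, ∀ b ∈ B, a * b = b * a) (q : ℕ) : Subgroup G where
  carrier := {t | t ∈ B ∧ ∃ j : ℕ, t ^ q ^ j = 1}
  mul_mem' := by
    rintro a b ⟨ha, i, hi⟩ ⟨hb, j, hj⟩
    refine ⟨B.mul_mem ha hb, i + j, ?_⟩
    have : Commute a b := hB a ha b hb
    rw [this.mul_pow, pow_add, pow_mul, hi, one_pow, mul_comm (q ^ i), pow_mul, hj, one_pow, one_mul]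
  one_mem' := ⟨B.one_mem, 0, one_pow _⟩
  inv_mem' := by
    rintro a ⟨ha, i, hi⟩
    exact ⟨B.inv_mem ha, i, by rw [inv_pow, hi, inv_one]⟩

theorem primaryPart_le (B : Subgroup G) (hB : ∀ a ∈ B, ∀ b ∈ B, a * b = b * a) (q : ℕ) :
    primaryPart B hB q ≤ B := fun _ ht => ht.1

theorem isPGroup_primaryPart (B : Subgroup G) (hB : ∀ a ∈ B, ∀ b ∈ B, a * b = b * a) (q : ℕ) :
    IsPGroup q (primaryPart B hB q) := by
  rintro ⟨t, ht⟩
  obtain ⟨j, hj⟩ := ht.2
  exact ⟨j, Subtype.ext (by simpa using hj)⟩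

theorem le_normalizer_primaryPart (B : Subgroup G) (hB : ∀ a ∈ B, ∀ b ∈ B, a * b = b * a) (q : ℕ)
    {X : Subgroup G} (hX : X ≤ Subgroup.normalizer (B : Set G)) :
    X ≤ Subgroup.normalizer ((primaryPart B hB q : Subgroup G) : Set G) := by
  apply Cfsg.Agent.Helper46.le_normalizer_of_conj_mem
  rintro x hx t ⟨ht, j, hj⟩
  refine ⟨(Subgroup.mem_normalizer_iff.mp (hX hx) t).mp ht, j, ?_⟩
  rw [conj_pow, hj, mul_one, mul_inv_cancel]

/-! ### the main theorem -/

theorem normalizer_le_normalizer_centralizer (A : Subgroup G) :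
    Subgroup.normalizer (A : Set G) ≤
      Subgroup.normalizer ((Subgroup.centralizer (A : Set G) : Subgroup G) : Set G) := by
  apply Cfsg.Agent.Helper46.le_normalizer_of_conj_mem
  intro n hn c hc
  rw [Subgroup.mem_centralizer_iff] at hc ⊢
  intro a ha
  have ha' : n⁻¹ * a * n⁻¹⁻¹ ∈ A :=
    (Subgroup.mem_normalizer_iff.mp (Subgroup.inv_mem _ hn) a).mp ha
  have := hc _ ha'
  calc a * (n * c * n⁻¹) = n * ((n⁻¹ * a * n⁻¹⁻¹) * c) * n⁻¹ := by group
    _ = n * (c * (n⁻¹ * a * n⁻¹⁻¹)) * n⁻¹ := by rw [this]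
    _ = n * c * n⁻¹ * a := by group

/-- **W2b**: the Sylow `p`-subgroup `S` of `E` is normal in `E`. -/
theorem sylow_normal_in_E (hG : Cfsg.IsMinSimpleOddOrder G) (hU : UniquenessThm G)
    (hPL : Cfsg.Agent.Helper22.BGCor107.PLenOne G)
    {p : ℕ} [hp : Fact p.Prime] (hSyl : ∀ S : Sylow p G, IsMulCommutative (S : Subgroup G))
    {A E S : Subgroup G} (hAea : Cfsg.IsElementaryAbelian p A) (hAcard : Nat.card A = p ^ 2)
    (hAmax : ∀ B : Subgroup G, Cfsg.IsElementaryAbelian p B → A ≤ B → B = A)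
    (hEA : E ≤ Subgroup.normalizer (A : Set G)) (hCAE : Subgroup.centralizer (A : Set G) ≤ E)
    (hErk : Cfsg.RankLE 2 ↥E)
    (hEab : ∀ (q : ℕ) (Y : Subgroup G), q.Prime → Y ≤ E → IsPGroup q Y →
      ∀ a ∈ Y, ∀ b ∈ Y, a * b = b * a)
    (hE'ab : ∀ a ∈ ⁅E, E⁆, ∀ b ∈ ⁅E, E⁆, a * b = b * a)
    (hSE : S ≤ E) (hSp : IsPGroup p S)
    (hSmax : ∀ Q : Subgroup G, S ≤ Q → Q ≤ E → IsPGroup p Q → Q ≤ S) :
    E ≤ Subgroup.normalizer (S : Set G) := by
  classical
  have hpp : p.Prime := hp.out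
  haveI : IsSimpleGroup G := hG.2.1
  have hodd : Odd (Nat.card G) := hG.1
  have hAp : IsPGroup p A := isPGroup_of_isElementaryAbelian hAea
  have hAcomm : ∀ a ∈ A, ∀ b ∈ A, a * b = b * a := fun a ha b hb => by
    have := hAea.1.is_comm.comm (⟨a, ha⟩ : A) ⟨b, hb⟩
    exact congrArg Subtype.val this
  have hAE : A ≤ E := by
    refine le_trans ?_ hCAE
    intro a ha
    rw [Subgroup.mem_centralizer_iff]
    intro b hb
    exact hAcomm b hb a ha
  have hA1 : A ≠ ⊥ := by
    intro h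
    rw [h, Subgroup.card_bot] at hAcard
    have := hpp.one_lt
    nlinarith
  -- `A ≤ S`
  have hAS : A ≤ S := by
    have hQ : IsPGroup p (S ⊔ A : Subgroup G) :=
      IsPGroup.to_sup_of_normal_right' hSp hAp (hSE.trans hEA)
    exact le_sup_right.trans (hSmax _ le_sup_left (sup_le hSE hAE) hQ)
  have hS1 : S ≠ ⊥ := fun h => hA1 (le_bot_iff.mp (h ▸ hAS))
  -- `S` is a Sylow subgroup of `G`
  obtain ⟨P, hSP⟩ := hSp.exists_le_sylow
  haveI hPab := hSyl P
  have hPS : (P : Subgroup G) = S := by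
    apply le_antisymm _ hSP
    apply hSmax _ hSP _ P.isPGroup'
    refine le_trans ?_ hCAE
    intro x hx
    rw [Subgroup.mem_centralizer_iff]
    intro a ha
    exact setLike_mul_comm (hSP (hAS ha)) hx
  have hScomm : ∀ a ∈ S, ∀ b ∈ S, a * b = b * a := by
    intro a ha b hb
    rw [← hPS] at ha hb
    exact setLike_mul_comm ha hb
  have hS' : S ≤ ⁅Subgroup.normalizer (S : Set G), Subgroup.normalizer (S : Set G)⁆ := by
    have := Cfsg.Agent.Helper22.BGCor107.sylow_le_commutator_normalizer hG hU hPL P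
    rwa [hPS] at this
  have hNSN : Subgroup.normalizer (S : Set G) ≤ Subgroup.normalizer (A : Set G) :=
    Cfsg.Agent.Helper54.Singer.normalizer_le_normalizer hSyl hAea hAmax hSp hAS
  have hNStop : Subgroup.normalizer (S : Set G) ≠ ⊤ :=
    Cfsg.Agent.Helper31.bgt_normalizer_ne_top_of_simple hS1 (isPGroup_ne_top hG hSp)
  have hNSsolv : Group.IsSolvable ↥(Subgroup.normalizer (S : Set G)) := hG.2.2.2 _ hNStop
  have hspow : ∀ s ∈ S, ∃ k : ℕ, s ^ p ^ k = 1 := by
    intro s hs
    obtain ⟨k, hk⟩ := hSp ⟨s, hs⟩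
    exact ⟨k, by simpa using congrArg Subtype.val hk⟩
  set C : Subgroup G := Subgroup.centralizer (A : Set G) with hCdef
  have hNC : Subgroup.normalizer (A : Set G) ≤ Subgroup.normalizer (C : Set G) :=
    normalizer_le_normalizer_centralizer A
  -- Claim 1
  have claim1 : ∀ q : ℕ, q.Prime → q ≠ p → ∀ D : Subgroup G, D ≤ C →
      C ≤ Subgroup.normalizer (D : Set G) → IsPGroup q D → ∀ s ∈ S, ∀ d ∈ D, s * d = d * s := by
    intro q hqq hqp D hDC hCD hDq s hs d hd
    haveI : Fact q.Prime := ⟨hqq⟩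
    by_cases hq2 : q = 2
    · subst hq2
      rw [Cfsg.Agent.Helper54.BG128.eq_one_of_two_group hodd hDq hd, mul_one, one_mul]
    have hDW : D ≤ pCoreOf q C := Cfsg.Agent.Helper46.le_pCoreOf hDC hDq hCD
    have hWq : IsPGroup q (pCoreOf q C) := Cfsg.Agent.Helper46.pCoreOf_isPGroup C
    have hWC : pCoreOf q C ≤ C := Cfsg.Agent.Helper46.pCoreOf_le C
    have hWE : pCoreOf q C ≤ E := hWC.trans hCAE
    have hWcomm := hEab q (pCoreOf q C) hqq hWE hWq
    have hWrk : Cfsg.PRankLE q 2 ↥(pCoreOf q C) := by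
      by_contra h
      rw [Cfsg.Agent.Helper21.not_prankLE_iff] at h
      exact (Cfsg.Agent.Helper21.not_prankLE_iff E).mpr (h.mono hWE) (hErk q hqq)
    have hNW : Subgroup.normalizer (S : Set G) ≤
        Subgroup.normalizer ((pCoreOf q C : Subgroup G) : Set G) := by
      intro n hn
      have hnC : n ∈ Subgroup.normalizer (C : Set G) := hNC (hNSN hn)
      have h1 : C.map (MulAut.conj n).toMonoidHom = C := cj_eq_of_mem_normalizer hnC
      have h2 := Cfsg.Agent.Helper46.pCoreOf_map_equiv (p := q) (MulAut.conj n) C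
      rw [h1] at h2
      exact mem_normalizer_of_cj_eq h2.symm
    exact centralizes_of_mem_commutator hq2 hpp hqp hodd hNSsolv hWq hWcomm hWrk hNW (hS' hs)
      (hspow s hs) d (hDW hd)
  -- `E' ≤ C`
  have hpel : ∀ x ∈ Subgroup.normalizer (A : Set G), (∃ k : ℕ, x ^ p ^ k = 1) →
      x ∈ Subgroup.centralizer (A : Set G) := fun x hx hxp =>
    mem_centralizer_of_pElement hSyl hAp hx hxp
  have hE'C : ⁅E, E⁆ ≤ C := by
    rw [Subgroup.commutator_le]
    intro x hx y hy
    rw [commutatorElement_def]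
    exact commutator_mem_centralizer hG hAea hAcard hpel x (hEA hx) y (hEA hy)
  have hE'E : ⁅E, E⁆ ≤ E := Subgroup.commutator_le_self E
  have hEnE' : E ≤ Subgroup.normalizer ((⁅E, E⁆ : Subgroup G) : Set G) := by
    apply Cfsg.Agent.Helper46.le_normalizer_of_conj_mem
    intro e he d hd
    have h1 : ⁅e, d⁆ ∈ ⁅E, E⁆ := Subgroup.commutator_mem_commutator he (hE'E hd)
    have e1 : e * d * e⁻¹ = ⁅e, d⁆ * d := by rw [commutatorElement_def]; group
    rw [e1]
    exact Subgroup.mul_mem _ h1 hd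
  -- the `p`-part of `E'` lies in `S`
  have hTp : primaryPart ⁅E, E⁆ hE'ab p ≤ S := by
    have hTE : primaryPart ⁅E, E⁆ hE'ab p ≤ E := (primaryPart_le _ _ _).trans hE'E
    have hn := le_normalizer_primaryPart ⁅E, E⁆ hE'ab p hEnE'
    have hQ : IsPGroup p (S ⊔ primaryPart ⁅E, E⁆ hE'ab p : Subgroup G) :=
      IsPGroup.to_sup_of_normal_right' hSp (isPGroup_primaryPart _ _ _) (hSE.trans hn)
    exact le_sup_right.trans (hSmax _ le_sup_left (sup_le hSE hTE) hQ)
  -- `[S, E'] = 1`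
  have key : ∀ (n : ℕ) (d : G), d ∈ ⁅E, E⁆ → orderOf d = n →
      d ∈ Subgroup.centralizer (S : Set G) := by
    intro n
    induction n using Nat.strong_induction_on with
    | _ n ih =>
      intro d hd hdn
      have hn0 : n ≠ 0 := by
        rw [← hdn]; exact (orderOf_pos d).ne'
      by_cases hn1 : n = 1
      · rw [hn1] at hdn
        rw [orderOf_eq_one_iff.1 hdn]
        exact Subgroup.one_mem _
      · obtain ⟨q, hq, hqn⟩ := Nat.exists_prime_and_dvd hn1
        obtain ⟨e, m, hqm, hnem⟩ := Nat.exists_eq_pow_mul_and_not_dvd hn0 q hq.ne_one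
        have he : e ≠ 0 := by
          rintro rfl
          rw [pow_zero, one_mul] at hnem
          rw [hnem] at hqn
          exact hqm hqn
        have hm0 : m ≠ 0 := by
          rintro rfl
          rw [mul_zero] at hnem
          exact hn0 hnem
        have hqe1 : 1 < q ^ e := Nat.one_lt_pow he hq.one_lt
        have h1 : d ^ (q ^ e) ∈ Subgroup.centralizer (S : Set G) := by
          have hord : orderOf (d ^ (q ^ e)) = m := by
            rw [orderOf_pow' d (by positivity), hdn, hnem, Nat.gcd_eq_right (dvd_mul_right _ _),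
              Nat.mul_div_cancel_left _ (by positivity)]
          apply ih m ?_ (d ^ (q ^ e)) (Subgroup.pow_mem _ hd _) hord
          rw [hnem]
          have hmpos : 0 < m := Nat.pos_of_ne_zero hm0
          nlinarith
        have h2 : d ^ m ∈ Subgroup.centralizer (S : Set G) := by
          have hpow : (d ^ m) ^ (q ^ e) = 1 := by
            rw [← pow_mul, mul_comm, ← hnem, ← hdn, pow_orderOf_eq_one]
          have hdm : d ^ m ∈ primaryPart ⁅E, E⁆ hE'ab q := ⟨Subgroup.pow_mem _ hd _, e, hpow⟩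
          rw [Subgroup.mem_centralizer_iff]
          intro s hs
          by_cases hqp : q = p
          · subst hqp
            exact hScomm s hs _ (hTp hdm)
          · exact claim1 q hq hqp (primaryPart ⁅E, E⁆ hE'ab q)
              ((primaryPart_le _ _ _).trans hE'C)
              (hCAE.trans (le_normalizer_primaryPart ⁅E, E⁆ hE'ab q hEnE'))
              (isPGroup_primaryPart _ _ _) s hs _ hdm
        have hcop : (q ^ e).Coprime m :=
          Nat.Coprime.pow_left _ ((Nat.Prime.coprime_iff_not_dvd hq).2 hqm)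
        exact Cfsg.Agent.Helper50.mem_of_pow_mem_of_coprime hcop h1 h2
  -- conclusion
  apply Cfsg.Agent.Helper46.le_normalizer_of_conj_mem
  intro e he s hs
  have hc : ⁅e, s⁆ ∈ ⁅E, E⁆ := Subgroup.commutator_mem_commutator he (hSE hs)
  have hcS := key _ _ hc rfl
  rw [Subgroup.mem_centralizer_iff] at hcS
  have e1 : e * s * e⁻¹ = ⁅e, s⁆ * s := by rw [commutatorElement_def]; group
  have hcomm : Commute (e * s * e⁻¹) s⁻¹ := by
    rw [e1]
    have h3 : Commute ⁅e, s⁆ s := (hcS s hs).symm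
    exact ((h3.mul_left (Commute.refl s))).inv_right
  obtain ⟨k, hk⟩ := hspow s hs
  have hcp : ⁅e, s⁆ ^ p ^ k = 1 := by
    have e2 : ⁅e, s⁆ = (e * s * e⁻¹) * s⁻¹ := by rw [commutatorElement_def]
    rw [e2, hcomm.mul_pow, conj_pow, hk, inv_pow, hk]; group
  have hcT : ⁅e, s⁆ ∈ primaryPart ⁅E, E⁆ hE'ab p := ⟨hc, k, hcp⟩
  rw [e1]
  exact S.mul_mem (hTp hcT) hs

end Cfsg.Agent.Helper54.W2
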