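import Cfsg.Agent.Helper54.ThompsonC
import Cfsg.Agent.Helper54.PLength
import Cfsg.Agent.Helper35.PuigThm
import Cfsg.Agent.Helper31.BGTrans3
import Cfsg.Agent.Helper29.CoprimeCount
import Cfsg.Agent.S1466
import Cfsg.Agent.S1396

set_option autoImplicit false
set_option linter.style.haveILetI false
set_option linter.unusedVariables false
set_option linter.unusedSectionVars false

/-!
# Bender–Glauberman, Lemma 9.1: general tools (helper54)

Type-level and subgroup-level lemmas used in the proof of the first uniqueness lemma of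
Bender–Glauberman, Section 9.
-/

namespace Cfsg.Agent.Helper54.BGU

open Cfsg Cfsg.Agent.Helper54
open Cfsg.Agent.Helper35.PuigRel

/-! ### Type-level lemmas -/

section TypeLevel

variable {L : Type*} [Group L] [Finite L] {p : ℕ}

/-- In a `p`-constrained group, a `p'`-subgroup normalized by a Sylow `p`-subgroup lies in
`O_{p'}`. -/
theorem le_pPrimeCore_of_sylow_le_normalizer [hp : Fact p.Prime] (hL : IsPConstrained p L)
    (P : Sylow p L) (Y : Subgroup L) (hY : (Nat.card Y).Coprime p)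
    (hPY : (P : Subgroup L) ≤ Subgroup.normalizer (Y : Set L)) : Y ≤ pPrimeCore p L := by
  set K := pPrimeCore p L with hK
  set π : L →* L ⧸ K := QuotientGroup.mk' K with hπdef
  have hπ : Function.Surjective π := QuotientGroup.mk'_surjective K
  have hker : π.ker = K := QuotientGroup.ker_mk' K
  obtain ⟨-, hchar⟩ := isPConstrained_iff_charP.mp hL
  set Q := pCore p (L ⧸ K) with hQ
  have hQp : IsPGroup p Q := Cfsg.Agent.Lib.isPGroup_pCore p
  have hQn : Q.Normal := inferInstance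
  have hQP : Q ≤ (P : Subgroup L).map π := by
    have := Cfsg.Agent.Lib.pCore_le_sylow (P.mapSurjective hπ)
    rwa [Sylow.coe_mapSurjective] at this
  -- `Y.map π` is centralized by `Q`
  have hcent : Y.map π ≤ Subgroup.centralizer (Q : Set (L ⧸ K)) := by
    rintro _ ⟨y, hy, rfl⟩
    rw [Subgroup.mem_centralizer_iff]
    intro x hx
    obtain ⟨g, hgP, rfl⟩ := hQP hx
    -- the commutator lies in `Q ⊓ Y.map π = ⊥`
    have h1 : π g * π y * (π g)⁻¹ * (π y)⁻¹ ∈ Q := by
      have : π y * (π g)⁻¹ * (π y)⁻¹ ∈ Q := hQn.conj_mem _ (Subgroup.inv_mem _ hx) _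
      have h2 := Subgroup.mul_mem _ hx this
      have e : π g * (π y * (π g)⁻¹ * (π y)⁻¹) = π g * π y * (π g)⁻¹ * (π y)⁻¹ := by group
      rwa [e] at h2
    have h2 : π g * π y * (π g)⁻¹ * (π y)⁻¹ ∈ Y.map π := by
      have h3 : g * y * g⁻¹ ∈ Y := (Subgroup.mem_normalizer_iff.mp (hPY hgP) y).mp hy
      have h4 : g * y * g⁻¹ * y⁻¹ ∈ Y := Subgroup.mul_mem _ h3 (Subgroup.inv_mem _ hy)
      have := Subgroup.mem_map_of_mem π h4
      simpa using this
    have hdisj : Q ⊓ Y.map π = ⊥ := by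
      apply Disjoint.eq_bot
      apply Subgroup.disjoint_of_coprime_natCard
      obtain ⟨k, hk⟩ := IsPGroup.iff_card.mp hQp
      rw [hk]
      apply Nat.Coprime.pow_left
      apply Nat.Coprime.symm
      exact Nat.Coprime.coprime_dvd_left (Subgroup.card_map_dvd Y π) hY
    have h5 : π g * π y * (π g)⁻¹ * (π y)⁻¹ ∈ Q ⊓ Y.map π := ⟨h1, h2⟩
    rw [hdisj, Subgroup.mem_bot] at h5
    have h6 : π g * π y = π y * π g := by
      have e : π g * π y = (π g * π y * (π g)⁻¹ * (π y)⁻¹) * (π y * π g) := by group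
      rw [e, h5, one_mul]
    exact h6
  have hYQ : Y.map π ≤ Q := hcent.trans hchar
  have hbot : Y.map π = ⊥ := by
    rw [eq_bot_iff]
    intro x hx
    have hdisj : Q ⊓ Y.map π = ⊥ := by
      apply Disjoint.eq_bot
      apply Subgroup.disjoint_of_coprime_natCard
      obtain ⟨k, hk⟩ := IsPGroup.iff_card.mp hQp
      rw [hk]
      apply Nat.Coprime.pow_left
      apply Nat.Coprime.symm
      exact Nat.Coprime.coprime_dvd_left (Subgroup.card_map_dvd Y π) hY
    rw [← hdisj]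
    exact ⟨hYQ hx, hx⟩
  intro y hy
  have h1 : π y ∈ Y.map π := Subgroup.mem_map_of_mem π hy
  rw [hbot, Subgroup.mem_bot] at h1
  rw [← hker]
  exact h1

/-- Frattini for `O_{p',p}`: `L = N_L(S ∩ O_{p',p}(L)) · O_{p'}(L)` for a Sylow `p`-subgroup `S`. -/
theorem normalizer_inf_pPrimePCore_sup_eq_top [hp : Fact p.Prime] (S : Sylow p L) :
    Subgroup.normalizer (((S : Subgroup L) ⊓ pPrimePCore p L : Subgroup L) : Set L) ⊔
      pPrimeCore p L = ⊤ := by
  haveI hUn : (pPrimePCore p L).Normal := by unfold pPrimePCore; infer_instance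
  set U := pPrimePCore p L with hU
  set T := Cfsg.Agent.Helper53.sylowInfNormal S U with hT
  have h1 := map_sylow_pPrimePCore T
  rw [Cfsg.Agent.Helper53.coe_sylowInfNormal, Subgroup.subgroupOf_map_subtype] at h1
  have hUeq : U = ((S : Subgroup L) ⊓ U) ⊔ pPrimeCore p L := by
    conv_lhs => rw [hU]; unfold pPrimePCore
    rw [← h1, Subgroup.comap_map_eq, QuotientGroup.ker_mk']
  have hF := Sylow.normalizer_sup_eq_top T
  rw [Cfsg.Agent.Helper53.coe_sylowInfNormal, Subgroup.subgroupOf_map_subtype] at hF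
  rw [eq_top_iff, ← hF]
  refine sup_le le_sup_left (hUeq.le.trans (sup_le ?_ le_sup_right))
  exact Subgroup.le_normalizer.trans le_sup_left

end TypeLevel

/-! ### Sylow subgroups of subgroups, as subgroups of the ambient group -/

section SylIn

variable {G : Type*} [Group G] [Finite G] {p : ℕ}

/-- `R` is a Sylow `p`-subgroup of the subgroup `H` (as subgroups of `G`). -/
def IsSylIn (p : ℕ) (R H : Subgroup G) : Prop :=
  R ≤ H ∧ IsPGroup p R ∧ ∀ Q : Subgroup G, IsPGroup p Q → R ≤ Q → Q ≤ H → Q = R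

theorem isSylIn_of_sylow [hp : Fact p.Prime] {H : Subgroup G} (S : Sylow p ↥H) :
    IsSylIn p ((S : Subgroup ↥H).map H.subtype) H := by
  refine ⟨Subgroup.map_subtype_le _, S.2.map _, ?_⟩
  intro Q hQ hRQ hQH
  have h1 : (S : Subgroup ↥H) ≤ Q.subgroupOf H := by
    intro x hx
    rw [Subgroup.mem_subgroupOf]
    exact hRQ ⟨x, hx, rfl⟩
  have h2 : Q.subgroupOf H = (S : Subgroup ↥H) := S.3 hQ.comap_subtype h1
  rw [← h2, Subgroup.subgroupOf_map_subtype, inf_of_le_left hQH]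

theorem IsSylIn.exists_sylow [hp : Fact p.Prime] {R H : Subgroup G} (h : IsSylIn p R H) :
    ∃ S : Sylow p ↥H, (S : Subgroup ↥H).map H.subtype = R := by
  obtain ⟨hRH, hRp, hmax⟩ := h
  obtain ⟨S, hS⟩ := (hRp.comap_subtype (K := H)).exists_le_sylow
  refine ⟨S, ?_⟩
  apply hmax _ (S.2.map _) _ (Subgroup.map_subtype_le _)
  intro x hx
  exact ⟨⟨x, hRH hx⟩, hS (show (⟨x, hRH hx⟩ : ↥H) ∈ R.subgroupOf H from hx), rfl⟩

theorem exists_isSylIn_ge [hp : Fact p.Prime] {R H : Subgroup G} (hRH : R ≤ H) (hR : IsPGroup p R) :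
    ∃ P : Subgroup G, R ≤ P ∧ IsSylIn p P H := by
  obtain ⟨S, hS⟩ := (hR.comap_subtype (K := H)).exists_le_sylow
  refine ⟨(S : Subgroup ↥H).map H.subtype, ?_, isSylIn_of_sylow S⟩
  intro x hx
  exact ⟨⟨x, hRH hx⟩, hS (show (⟨x, hRH hx⟩ : ↥H) ∈ R.subgroupOf H from hx), rfl⟩

theorem IsSylIn.mono [hp : Fact p.Prime] {R H H' : Subgroup G} (h : IsSylIn p R H) (hRH' : R ≤ H')
    (hH'H : H' ≤ H) : IsSylIn p R H' :=
  ⟨hRH', h.2.1, fun Q hQ hRQ hQH' => h.2.2 Q hQ hRQ (hQH'.trans hH'H)⟩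

/-- The classical normalizer argument: a Sylow `p`-subgroup `R` of `D ≤ H` with `N_H(R) ≤ D` is a
Sylow `p`-subgroup of `H`. -/
theorem IsSylIn.of_normalizer_le [hp : Fact p.Prime] {R D H : Subgroup G} (h : IsSylIn p R D)
    (hDH : D ≤ H) (hN : Subgroup.normalizer (R : Set G) ⊓ H ≤ D) : IsSylIn p R H := by
  refine ⟨h.1.trans hDH, h.2.1, ?_⟩
  intro Q hQ hRQ hQH
  by_contra hne
  have hlt : R < Q := lt_of_le_of_ne hRQ (Ne.symm hne)
  have h1 := Cfsg.Agent.Helper31.bgt_lt_inf_normalizer_of_lt hQ hlt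
  set R' := Q ⊓ Subgroup.normalizer (R : Set G) with hR'
  have hR'p : IsPGroup p R' := hQ.to_le inf_le_left
  have hR'D : R' ≤ D := by
    intro x hx
    exact hN ⟨hx.2, hQH hx.1⟩
  have := h.2.2 R' hR'p h1.le hR'D
  exact h1.ne this.symm

theorem IsSylIn.card_eq [hp : Fact p.Prime] {R H : Subgroup G} (h : IsSylIn p R H) :
    Nat.card R = p ^ (Nat.card H).factorization p := by
  obtain ⟨S, hS⟩ := h.exists_sylow
  rw [← hS, Subgroup.card_map_of_injective (Subgroup.subtype_injective H)]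
  exact S.card_eq_multiplicity

/-- A `p`-subgroup of `H` has order dividing that of a Sylow `p`-subgroup of `H`. -/
theorem IsSylIn.card_le_of_isPGroup [hp : Fact p.Prime] {R H Q : Subgroup G} (h : IsSylIn p R H)
    (hQ : IsPGroup p Q) (hQH : Q ≤ H) : Nat.card Q ≤ Nat.card R := by
  obtain ⟨P, hQP, hP⟩ := exists_isSylIn_ge hQH hQ
  rw [h.card_eq, ← hP.card_eq]
  exact Subgroup.card_le_of_le hQP

end SylIn

/-! ### Puig's theorem relative to a subgroup -/

section Puig

variable {G : Type*} [Group G] [Finite G] {p : ℕ}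

/-- `Z(L(R))` as a subgroup of `G`. -/
def zl (R : Subgroup G) : Subgroup G := zOf (relUpper R)

theorem zl_le (R : Subgroup G) : zl R ≤ R := inf_le_left.trans (relUpper_le R)

theorem normalizer_le_normalizer_zl (R : Subgroup G) :
    Subgroup.normalizer (R : Set G) ≤ Subgroup.normalizer (zl R : Set G) :=
  (normalizer_le_normalizer_relUpper R).trans (normalizer_le_normalizer_zOf _)

theorem zl_ne_bot [hp : Fact p.Prime] {R : Subgroup G} (hR : IsPGroup p R) (hR1 : R ≠ ⊥) :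
    zl R ≠ ⊥ := by
  haveI : Nontrivial ↥R := (Subgroup.nontrivial_iff_ne_bot R).mpr hR1
  obtain ⟨-, -, ⟨h1, h2⟩, -, -⟩ := Cfsg.Agent.S1466.result (R := ↥R) p hR
  haveI : Nontrivial (Subgroup.center ↥R) := hR.center_nontrivial
  obtain ⟨z, hz⟩ := exists_ne (1 : Subgroup.center ↥R)
  intro hbot
  apply hz
  have hzL : (z : ↥R) ∈ puigSubgroup ↥R := h2 (h1 z.2)
  have hmem : ((z : ↥R) : G) ∈ zl R := by
    refine Subgroup.mem_inf.mpr ⟨?_, ?_⟩
    · rw [← map_puigSubgroup]
      exact ⟨(z : ↥R), hzL, rfl⟩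
    · rw [Subgroup.mem_centralizer_iff]
      intro y hy
      have hyR : y ∈ R := relUpper_le R hy
      have := (Subgroup.mem_center_iff.mp z.2) ⟨y, hyR⟩
      exact congrArg Subtype.val this
  rw [hbot, Subgroup.mem_bot] at hmem
  apply Subtype.ext
  apply Subtype.ext
  simpa using hmem

/-- `O_{p'}(H)` as a subgroup of `G`. -/
def opp (p : ℕ) (H : Subgroup G) : Subgroup G := (pPrimeCore p ↥H).map H.subtype

theorem opp_le (H : Subgroup G) : opp p H ≤ H := Subgroup.map_subtype_le _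

theorem card_opp_coprime (H : Subgroup G) : (Nat.card (opp p H)).Coprime p := by
  unfold opp
  rw [Subgroup.card_map_of_injective (Subgroup.subtype_injective H)]
  exact Cfsg.Agent.Lib.card_pPrimeCore_coprime p

theorem le_normalizer_opp (H : Subgroup G) : H ≤ Subgroup.normalizer (opp p H : Set G) := by
  intro a ha
  apply Subgroup.mem_normalizer_fintype
  rintro _ ⟨m, hm, rfl⟩
  have hN : (pPrimeCore p ↥H).Normal := inferInstance
  exact ⟨⟨a, ha⟩ * m * ⟨a, ha⟩⁻¹, hN.conj_mem m hm _, rfl⟩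

theorem map_zOf_relUpper {H : Subgroup G} (S : Subgroup ↥H) :
    (zOf (relUpper S)).map H.subtype = zl (S.map H.subtype) := by
  have hinj : Function.Injective (H.subtype.comp S.subtype) :=
    (Subgroup.subtype_injective H).comp (Subgroup.subtype_injective S)
  unfold zl
  rw [zOf_map_of_injOn H.subtype S _ (relUpper_le _) hinj, relUpper_map_of_injOn H.subtype _ hinj]

theorem coe_mem_normalizer_map {H : Subgroup G} {X : Subgroup ↥H} {n : ↥H}
    (hn : n ∈ Subgroup.normalizer (X : Set ↥H)) :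
    (n : G) ∈ Subgroup.normalizer ((X.map H.subtype : Subgroup G) : Set G) := by
  apply Subgroup.mem_normalizer_fintype
  rintro _ ⟨m, hm, rfl⟩
  exact ⟨n * m * n⁻¹, (Subgroup.mem_normalizer_iff.mp hn m).mp hm, rfl⟩

/-- **Puig**, relative form: `H = O_{p'}(H) N_H(Z(L(R)))` for `R` a Sylow `p`-subgroup of the
solvable subgroup `H` of odd order. -/
theorem le_opp_sup_normalizer_zl [hp : Fact p.Prime] {H R : Subgroup G}
    (hs : Group.IsSolvable ↥H) (hodd : Odd (Nat.card H)) (hR : IsSylIn p R H) :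
    H ≤ opp p H ⊔ Subgroup.normalizer (zl R : Set G) := by
  obtain ⟨S, hS⟩ := hR.exists_sylow
  have h1 := pPrimeCore_sup_normalizer_zOf hodd S
  intro x hx
  have h2 : (⟨x, hx⟩ : ↥H) ∈ pPrimeCore p ↥H ⊔
      Subgroup.normalizer (zOf (relUpper (S : Subgroup ↥H)) : Set ↥H) := by
    rw [h1]; exact Subgroup.mem_top _
  obtain ⟨k, hk, n, hn, hkn⟩ := Subgroup.mem_sup_of_normal_left.mp h2
  have hx' : x = (k : G) * (n : G) := by
    have := congrArg Subtype.val hkn
    simpa using this.symm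
  rw [hx']
  apply Subgroup.mul_mem_sup
  · exact ⟨k, hk, rfl⟩
  · have := coe_mem_normalizer_map hn
    rwa [map_zOf_relUpper, hS] at this

/-- **Puig**, relative form: if `O_{p'}(H) = 1` then `Z(L(R))` is normal in `H`. -/
theorem le_normalizer_zl_of_opp_eq_bot [hp : Fact p.Prime] {H R : Subgroup G}
    (hs : Group.IsSolvable ↥H) (hodd : Odd (Nat.card H)) (hR : IsSylIn p R H)
    (hO : opp p H = ⊥) : H ≤ Subgroup.normalizer (zl R : Set G) := by
  have := le_opp_sup_normalizer_zl hs hodd hR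
  rwa [hO, bot_sup_eq] at this

end Puig

/-! ### Invariant `p'`-subgroups -/

section Inv

variable {G : Type*} [Group G] [Finite G] {p : ℕ}

theorem mem_primesNotDvd_iff [hp : Fact p.Prime] (q : ℕ) :
    q ∈ Cfsg.primesNotDvd p ↔ q.Prime ∧ q ≠ p := by
  unfold Cfsg.primesNotDvd
  rw [Set.mem_ofPred_eq]
  constructor
  · rintro ⟨hq, hnd⟩
    exact ⟨hq, fun h => hnd (h ▸ dvd_rfl)⟩
  · rintro ⟨hq, hne⟩
    exact ⟨hq, fun hd => hne ((Nat.prime_dvd_prime_iff_eq hq hp.out).mp hd)⟩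

theorem primes_iff_coprime [hp : Fact p.Prime] (Y : Subgroup G) :
    (∀ r : ℕ, r.Prime → r ∣ Nat.card Y → r ∈ Cfsg.primesNotDvd p) ↔ (Nat.card Y).Coprime p := by
  constructor
  · intro hall
    rw [Nat.coprime_comm, hp.out.coprime_iff_not_dvd]
    intro hd
    exact ((mem_primesNotDvd_iff p).mp (hall p hp.out hd)).2 rfl
  · intro hcop r hr hd
    rw [mem_primesNotDvd_iff]
    refine ⟨hr, ?_⟩
    rintro rfl
    exact (hr.coprime_iff_not_dvd.mp hcop.symm) hd

theorem mem_invSubgroups_iff [hp : Fact p.Prime] (B Y : Subgroup G) :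
    Y ∈ Cfsg.invSubgroups ⊤ B (Cfsg.primesNotDvd p) ↔
      (Nat.card Y).Coprime p ∧ B ≤ Subgroup.normalizer (Y : Set G) := by
  unfold Cfsg.invSubgroups
  rw [Set.mem_ofPred_eq, primes_iff_coprime (p := p)]
  exact ⟨fun h => ⟨h.2.1, h.2.2⟩, fun h => ⟨le_top, h.1, h.2⟩⟩

/-- An `A`-invariant `p'`-subgroup (`A` a `p`-group) lies in `T` as soon as all its `A`-invariant
subgroups of prime power order do. -/
theorem le_of_invariant_qsubgroups_le [hp : Fact p.Prime] {A Y T : Subgroup G}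
    (hA : IsPGroup p A) (hY : (Nat.card Y).Coprime p)
    (hAY : A ≤ Subgroup.normalizer (Y : Set G))
    (h : ∀ q : ℕ, q.Prime → ∀ Q : Subgroup G, IsPGroup q Q → Q ≤ Y →
      A ≤ Subgroup.normalizer (Q : Set G) → Q ≤ T) : Y ≤ T := by
  apply TC.le_of_sylow_parts_le
  intro q hq
  haveI : Fact q.Prime := ⟨hq⟩
  have hcop : (Nat.card A).Coprime (Nat.card Y) := by
    obtain ⟨k, hk⟩ := IsPGroup.iff_card.mp hA
    rw [hk]
    exact Nat.Coprime.pow_left k hY.symm
  obtain ⟨Q, -, hQY, hQq, hAQ, hcard⟩ :=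
    Cfsg.Agent.Helper29.exists_invariant_sylow_ge (p := p) (q := q) (R := ⊥) hA hAY hcop
      (bot_le : (⊥ : Subgroup G) ≤ Y) (IsPGroup.of_bot : IsPGroup q (⊥ : Subgroup G))
      (Cfsg.Agent.Helper31.le_normalizer_bot A)
  exact ⟨Q, hQY, h q hq Q hQq hQY hAQ, hcard⟩

end Inv

/-! ### The key consequence of transitivity -/

section Key

variable {G : Type*} [Group G] [Finite G] {p : ℕ}

theorem map_conj_le_of_mem {K Q : Subgroup G} {k : G} (hk : k ∈ K) (hQ : Q ≤ K) :
    Q.map (MulAut.conj k).toMonoidHom ≤ K := by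
  rintro _ ⟨x, hx, rfl⟩
  show k * x * k⁻¹ ∈ K
  exact K.mul_mem (K.mul_mem hk (hQ hx)) (K.inv_mem hk)

/-- If `P` is a Sylow `p`-subgroup of the minimal simple group `G` of odd order, `A ∈ SCN_3(P)`, and
`K` contains every `P`-invariant `p'`-subgroup of `G`, then `K` contains every `A`-invariant
`p'`-subgroup of `G`. -/
theorem invariant_le_of_scn3 [hp : Fact p.Prime] (hG : Cfsg.IsMinSimpleOddOrder G) (P : Sylow p G)
    (A : Subgroup G) (hSCN : Cfsg.IsSCN (P : Subgroup G) A) (hA3 : ¬ Cfsg.PRankLE p 2 ↥A)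
    (K : Subgroup G)
    (hK : ∀ Y : Subgroup G, (Nat.card Y).Coprime p →
      (P : Subgroup G) ≤ Subgroup.normalizer (Y : Set G) → Y ≤ K)
    (Y : Subgroup G) (hY : (Nat.card Y).Coprime p)
    (hAY : A ≤ Subgroup.normalizer (Y : Set G)) : Y ≤ K := by
  have hpp : p.Prime := hp.out
  obtain ⟨hAP, hPA, hPC⟩ := hSCN
  have hAp : IsPGroup p A := P.2.to_le hAP
  have hAcomm : A ≤ Subgroup.centralizer (A : Set G) := by
    intro a ha
    have h1 : a ∈ (P : Subgroup G) ⊓ Subgroup.centralizer (A : Set G) := by rw [hPC]; exact ha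
    exact h1.2
  have hAc : IsMulCommutative A := by
    refine ⟨⟨fun a b => ?_⟩⟩
    apply Subtype.ext
    have := (Subgroup.mem_centralizer_iff.mp (hAcomm b.2)) a a.2
    simpa using this
  have hA1 : ¬ Cfsg.PRankLE p 1 ↥A := by
    intro h
    apply hA3
    intro B hB hBe
    exact (h B hB hBe).trans (Nat.pow_le_pow_right hpp.pos (by norm_num))
  have hAbot : A ≠ ⊥ := by
    rintro rfl
    apply hA3
    intro B _ _
    have h1 : Nat.card B ≤ Nat.card (⊥ : Subgroup G) := Subgroup.card_le_card_group B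
    rw [Subgroup.card_bot] at h1
    exact h1.trans (Nat.one_le_pow _ _ hpp.pos)
  obtain ⟨k, hk⟩ := IsPGroup.iff_card.mp hAp
  have hk0 : k ≠ 0 := by
    rintro rfl
    rw [pow_zero] at hk
    exact hAbot ((Subgroup.card_eq_one).mp hk)
  have hpG : p ∣ Nat.card G := by
    have h1 : p ∣ Nat.card A := by rw [hk]; exact dvd_pow_self p hk0
    exact h1.trans (Subgroup.card_subgroup_dvd_card A)
  have hTH : Cfsg.TransitivityHypothesis A :=
    Cfsg.Agent.S1396.result hG p hpG A hAp hAc (Or.inr ⟨P, ⟨hAP, hPA, hPC⟩, hA1⟩)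
  have hAeq : A ⊓ Subgroup.centralizer (A : Set G) = A := inf_of_le_left hAcomm
  have hZ : ¬ Cfsg.RankLE 2 ↥(A ⊓ Subgroup.centralizer (A : Set G)) := by
    rw [hAeq]
    intro h
    exact hA3 (h p hpp)
  have hPtop : (P : Subgroup G) ≠ ⊤ := by
    intro h
    have hs : IsSimpleGroup G := hG.2.1
    have hsolv : Group.IsSolvable G := by
      haveI : Group.IsNilpotent G := by
        have hPG : IsPGroup p G := by
          intro g
          obtain ⟨j, hj⟩ := P.2 ⟨g, h ▸ Subgroup.mem_top g⟩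
          exact ⟨j, by simpa using congrArg Subtype.val hj⟩
        exact hPG.isNilpotent
      infer_instance
    exact hG.2.2.1 ⟨⟨fun a b => (IsSimpleGroup.comm_iff_isSolvable.mpr hsolv) a b⟩⟩
  have hPπ : ∀ r : ℕ, r.Prime → r ∣ Nat.card (P : Subgroup G) → r ∣ Nat.card A := by
    intro r hr hd
    obtain ⟨j, hj⟩ := IsPGroup.iff_card.mp P.2
    rw [hj] at hd
    have : r = p := (Nat.prime_dvd_prime_iff_eq hr hpp).mp (hr.dvd_of_dvd_pow hd)
    rw [this, hk]
    exact dvd_pow_self p hk0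
  apply le_of_invariant_qsubgroups_le hAp hY hAY
  intro q hq Q hQq hQY hAQ
  by_cases hQbot : Q = ⊥
  · rw [hQbot]; exact bot_le
  haveI : Fact q.Prime := ⟨hq⟩
  have hqp : q ≠ p := by
    rintro rfl
    obtain ⟨j, hj⟩ := IsPGroup.iff_card.mp hQq
    have hj0 : j ≠ 0 := by
      rintro rfl
      rw [pow_zero] at hj
      exact hQbot ((Subgroup.card_eq_one).mp hj)
    have h1 : q ∣ Nat.card Y := by
      have : q ∣ Nat.card Q := by rw [hj]; exact dvd_pow_self q hj0
      exact this.trans (Subgroup.card_dvd_of_le hQY)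
    exact (hq.coprime_iff_not_dvd.mp hY.symm) h1
  have hqA : ¬ q ∣ Nat.card A := by
    rw [hk]
    intro hd
    exact hqp ((Nat.prime_dvd_prime_iff_eq hq hpp).mp (hq.dvd_of_dvd_pow hd))
  have htr : ∀ Q₁ ∈ Cfsg.maxInvSubgroups ⊤ A {q}, ∀ Q₂ ∈ Cfsg.maxInvSubgroups ⊤ A {q},
      ∃ k ∈ Cfsg.piCoreOf (Cfsg.primesNotDvd (Nat.card A)) (Subgroup.centralizer (A : Set G)),
        Q₂ = Q₁.map (MulAut.conj k).toMonoidHom := by
    intro Q₁ h₁ Q₂ h₂
    obtain ⟨c, hc, hce⟩ := Cfsg.Agent.Helper31.bg_transitivity_rank3 hG hTH hZ hq hqA h₁ h₂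
    exact ⟨c, hc, hce.symm⟩
  obtain ⟨Q₀, hQ₀, hPQ₀⟩ := (Cfsg.Agent.Helper31.bg_normal_fixed hG hPtop hPA hPπ htr).1
  obtain ⟨Q₁, hQ₁, hQQ₁⟩ := Cfsg.Agent.Helper31.exists_maxInv_ge
    (Cfsg.Agent.Helper31.mem_invSubgroups_of_isPGroup hq hQq hAQ)
  obtain ⟨c, hc, hce⟩ := htr Q₀ hQ₀ Q₁ hQ₁
  have hcopq : ∀ Z : Subgroup G, IsPGroup q Z → (Nat.card Z).Coprime p := by
    intro Z hZq
    obtain ⟨j, hj⟩ := IsPGroup.iff_card.mp hZq
    rw [hj]
    apply Nat.Coprime.pow_left
    exact (Nat.coprime_primes hq hpp).mpr hqp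
  have hQ₀K : Q₀ ≤ K :=
    hK Q₀ (hcopq Q₀ (Cfsg.Agent.Helper31.isPGroup_of_mem_maxInv hq hQ₀)) hPQ₀
  set C := Cfsg.piCoreOf (Cfsg.primesNotDvd (Nat.card A)) (Subgroup.centralizer (A : Set G))
    with hC
  have hCK : C ≤ K := by
    apply hK
    · rw [Nat.coprime_comm, hpp.coprime_iff_not_dvd]
      intro hd
      have := Cfsg.Agent.Helper31.piCoreOf_primes (Cfsg.primesNotDvd (Nat.card A))
        (Subgroup.centralizer (A : Set G)) p hpp hd
      apply this.2
      rw [hk]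
      exact dvd_pow_self p hk0
    · exact hPA.trans ((Cfsg.Agent.Helper31.normalizer_le_normalizer_centralizer A).trans
        (Cfsg.Agent.Helper31.normalizer_le_normalizer_piCoreOf _ _))
  rw [hce] at hQQ₁
  exact hQQ₁.trans (map_conj_le_of_mem (hCK hc) hQ₀K)

end Key

end Cfsg.Agent.Helper54.BGU
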