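import Mathlib

set_option autoImplicit false
set_option linter.style.haveILetI false

/-!
# Baer's trick (helper54)

A finite group `E` of class at most two in which every element `g` satisfies `g ^ (2 * h) = g`
(for instance a group of odd order `2 * h - 1`) carries a commutative group structure
`x ∘ y = x * y * ⁅y, x⁆ ^ h` with the same identity, inverses and automorphisms.  With it the
norm argument for coprime action on abelian groups extends to `p`-groups of class two, `p` odd.
-/

open scoped commutatorElement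

namespace Cfsg.Agent.Helper54

section class2

variable {E : Type*} [Group E]

/-- class at most two: all commutators are central -/
def Class2 (E : Type*) [Group E] : Prop := ∀ x y z : E, ⁅x, y⁆ * z = z * ⁅x, y⁆

theorem Class2.commutator_mul_left (hcl : Class2 E) (x y z : E) :
    ⁅x * y, z⁆ = ⁅x, z⁆ * ⁅y, z⁆ := by
  have h1 : ⁅x * y, z⁆ = x * ⁅y, z⁆ * x⁻¹ * ⁅x, z⁆ := by
    simp only [commutatorElement_def]; group
  have h2 : x * ⁅y, z⁆ = ⁅y, z⁆ * x := (hcl y z x).symm
  rw [h1, h2, mul_inv_cancel_right, (hcl y z ⁅x, z⁆)]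

theorem Class2.commutator_mul_right (hcl : Class2 E) (x y z : E) :
    ⁅x, y * z⁆ = ⁅x, y⁆ * ⁅x, z⁆ := by
  have h1 : ⁅x, y * z⁆ = ⁅x, y⁆ * (y * ⁅x, z⁆ * y⁻¹) := by
    simp only [commutatorElement_def]; group
  have h2 : y * ⁅x, z⁆ = ⁅x, z⁆ * y := (hcl x z y).symm
  rw [h1, h2, mul_inv_cancel_right]

theorem Class2.mem_center (hcl : Class2 E) (x y : E) : ⁅x, y⁆ ∈ Subgroup.center E :=
  Subgroup.mem_center_iff.mpr (fun g => (hcl x y g).symm)

theorem commutator_eq_one_of_mem_center_right {x z : E} (hz : z ∈ Subgroup.center E) :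
    ⁅x, z⁆ = 1 := by
  rw [commutatorElement_def, Subgroup.mem_center_iff.mp hz x, mul_inv_cancel_right,
    mul_inv_cancel]

theorem commutator_eq_one_of_mem_center_left {x z : E} (hz : z ∈ Subgroup.center E) :
    ⁅z, x⁆ = 1 := by
  rw [commutatorElement_def, ← Subgroup.mem_center_iff.mp hz x, mul_inv_cancel_right,
    mul_inv_cancel]

end class2

/-- data for Baer's trick: class at most two and unique square roots via `g ↦ g ^ h` -/
class BaerData (E : Type*) [Group E] (h : ℕ) : Prop where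
  class2 : Class2 E
  pow_two_mul : ∀ g : E, g ^ (2 * h) = g

/-- the Baer group: `E` with multiplication `x ∘ y = x * y * ⁅y, x⁆ ^ h` -/
structure Baer (E : Type*) (h : ℕ) where
  /-- the underlying element -/
  val : E

namespace Baer

variable {E : Type*} [Group E] {h : ℕ}

omit [Group E] in
@[ext] theorem ext' {x y : Baer E h} (hxy : x.val = y.val) : x = y := by
  cases x; cases y; simp_all

/-- the underlying bijection -/
def equiv (E : Type*) (h : ℕ) : Baer E h ≃ E where
  toFun := Baer.val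
  invFun := Baer.mk
  left_inv _ := rfl
  right_inv _ := rfl

instance [Finite E] : Finite (Baer E h) := Finite.of_equiv E (equiv E h).symm

variable [hB : BaerData E h]

theorem mul_aux (x y z : E) :
    x * y * ⁅y, x⁆ ^ h * z * ⁅z, x * y * ⁅y, x⁆ ^ h⁆ ^ h =
      x * (y * z * ⁅z, y⁆ ^ h) * ⁅y * z * ⁅z, y⁆ ^ h, x⁆ ^ h := by
  have hcl := hB.class2
  have hu : ⁅y, x⁆ ^ h ∈ Subgroup.center E := Subgroup.pow_mem _ (hcl.mem_center y x) h
  have hv : ⁅z, x⁆ ^ h ∈ Subgroup.center E := Subgroup.pow_mem _ (hcl.mem_center z x) h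
  have hw : ⁅z, y⁆ ^ h ∈ Subgroup.center E := Subgroup.pow_mem _ (hcl.mem_center z y) h
  have e1 : ⁅z, x * y * ⁅y, x⁆ ^ h⁆ = ⁅z, x⁆ * ⁅z, y⁆ := by
    rw [hcl.commutator_mul_right, hcl.commutator_mul_right,
      commutator_eq_one_of_mem_center_right hu, mul_one]
  have e2 : ⁅y * z * ⁅z, y⁆ ^ h, x⁆ = ⁅y, x⁆ * ⁅z, x⁆ := by
    rw [hcl.commutator_mul_left, hcl.commutator_mul_left,
      commutator_eq_one_of_mem_center_left hw, mul_one]
  have c1 : Commute ⁅z, x⁆ ⁅z, y⁆ := (hcl z x ⁅z, y⁆)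
  have c2 : Commute ⁅y, x⁆ ⁅z, x⁆ := (hcl y x ⁅z, x⁆)
  rw [e1, e2, c1.mul_pow, c2.mul_pow]
  set u := ⁅y, x⁆ ^ h
  set v := ⁅z, x⁆ ^ h
  set w := ⁅z, y⁆ ^ h
  have hu' := Subgroup.mem_center_iff.mp hu
  have hv' := Subgroup.mem_center_iff.mp hv
  have hw' := Subgroup.mem_center_iff.mp hw
  calc x * y * u * z * (v * w) = x * y * (u * z) * (v * w) := by simp only [mul_assoc]
    _ = x * y * (z * u) * (v * w) := by rw [hu' z]
    _ = x * y * z * (u * (v * w)) := by simp only [mul_assoc]
    _ = x * y * z * (u * v * w) := by simp only [mul_assoc]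
    _ = x * y * z * (w * (u * v)) := by rw [hw' (u * v)]
    _ = x * (y * z * w) * (u * v) := by simp only [mul_assoc]

theorem comm_aux (x y : E) : x * y * ⁅y, x⁆ ^ h = y * x * ⁅x, y⁆ ^ h := by
  have hcl := hB.class2
  have h1 : y * x = x * y * ⁅y, x⁆ := by
    rw [← hcl y x (x * y)]; simp only [commutatorElement_def]; group
  have h2 : ⁅x, y⁆ = ⁅y, x⁆⁻¹ := (commutatorElement_inv y x).symm
  have h3 : ⁅y, x⁆ ^ h * ⁅y, x⁆ ^ h = ⁅y, x⁆ := by
    rw [← pow_add, ← two_mul]; exact hB.pow_two_mul _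
  have h4 : ⁅y, x⁆ * (⁅y, x⁆ ^ h)⁻¹ = ⁅y, x⁆ ^ h := by
    rw [mul_inv_eq_iff_eq_mul, h3]
  rw [h1, h2, inv_pow, mul_assoc (x * y), h4]

instance : CommGroup (Baer E h) where
  mul x y := ⟨x.val * y.val * ⁅y.val, x.val⁆ ^ h⟩
  mul_assoc x y z := by
    ext
    exact mul_aux x.val y.val z.val
  one := ⟨1⟩
  one_mul x := by
    ext
    show 1 * x.val * ⁅x.val, 1⁆ ^ h = x.val
    simp
  mul_one x := by
    ext
    show x.val * 1 * ⁅1, x.val⁆ ^ h = x.val
    simp
  inv x := ⟨x.val⁻¹⟩
  inv_mul_cancel x := by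
    ext
    show x.val⁻¹ * x.val * ⁅x.val, x.val⁻¹⁆ ^ h = 1
    simp [commutatorElement_def]
  mul_comm x y := by
    ext
    exact comm_aux x.val y.val

theorem mul_val (x y : Baer E h) : (x * y).val = x.val * y.val * ⁅y.val, x.val⁆ ^ h := rfl

theorem one_val : (1 : Baer E h).val = 1 := rfl

instance {Γ : Type*} [Group Γ] [MulDistribMulAction Γ E] : MulDistribMulAction Γ (Baer E h) where
  smul g x := ⟨g • x.val⟩
  one_smul x := by ext; exact one_smul Γ x.val
  mul_smul g g' x := by ext; exact mul_smul g g' x.val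
  smul_mul g x y := by
    ext
    show g • (x.val * y.val * ⁅y.val, x.val⁆ ^ h) =
      g • x.val * g • y.val * ⁅g • y.val, g • x.val⁆ ^ h
    simp only [commutatorElement_def, smul_mul', smul_inv', smul_pow']
  smul_one g := by ext; exact smul_one g

theorem smul_val {Γ : Type*} [Group Γ] [MulDistribMulAction Γ E] (g : Γ) (x : Baer E h) :
    (g • x).val = g • x.val := rfl

end Baer

section abelian

variable {Γ V : Type*} [Group Γ] [CommGroup V] [MulDistribMulAction Γ V]

/-- the norm map of a finite subgroup `K` acting on an abelian group -/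
noncomputable def normHom (K : Subgroup Γ) [Fintype K] : V →* V where
  toFun v := ∏ k : K, (k : Γ) • v
  map_one' := by simp
  map_mul' x y := by simp [smul_mul', Finset.prod_mul_distrib]

theorem normHom_apply (K : Subgroup Γ) [Fintype K] (v : V) :
    normHom K v = ∏ k : K, (k : Γ) • v := rfl

theorem normHom_smul_right (K : Subgroup Γ) [Fintype K] {k₀ : Γ} (hk₀ : k₀ ∈ K) (v : V) :
    normHom K (k₀ • v) = normHom K v := by
  rw [normHom_apply, normHom_apply]
  refine Fintype.prod_equiv (Equiv.mulRight (⟨k₀, hk₀⟩ : K)) _ _ (fun k => ?_)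
  simp [mul_smul]

theorem smul_normHom (K : Subgroup Γ) [Fintype K] {k₀ : Γ} (hk₀ : k₀ ∈ K) (v : V) :
    k₀ • normHom K v = normHom K v := by
  rw [normHom_apply, Finset.smul_prod']
  refine Fintype.prod_equiv (Equiv.mulLeft (⟨k₀, hk₀⟩ : K)) _ _ (fun k => ?_)
  simp [mul_smul]

/-- conjugation by a normalizing element, as a permutation of the subgroup -/
def conjEquivOfMemNormalizer (K : Subgroup Γ) {a : Γ} (ha : a ∈ Subgroup.normalizer (K : Set Γ)) : K ≃ K where
  toFun k := ⟨a * k * a⁻¹, (Subgroup.mem_normalizer_iff.mp ha k).mp k.2⟩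
  invFun k := ⟨a⁻¹ * k * a, by
    have := (Subgroup.mem_normalizer_iff.mp ((Subgroup.normalizer (K : Set Γ)).inv_mem ha) k).mp k.2
    simpa using this⟩
  left_inv k := by ext; simp [mul_assoc]
  right_inv k := by ext; simp [mul_assoc]

theorem smul_normHom_of_mem_normalizer (K : Subgroup Γ) [Fintype K] {a : Γ}
    (ha : a ∈ Subgroup.normalizer (K : Set Γ)) (v : V) : a • normHom K v = normHom K (a • v) := by
  rw [normHom_apply, normHom_apply, Finset.smul_prod']
  refine Fintype.prod_equiv (conjEquivOfMemNormalizer K ha) _ _ (fun k => ?_)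
  simp [conjEquivOfMemNormalizer, ← mul_smul]

theorem normHom_of_fixed (K : Subgroup Γ) [Fintype K] (v : V) (hv : ∀ k ∈ K, k • v = v) :
    normHom K v = v ^ Nat.card K := by
  rw [normHom_apply, Nat.card_eq_fintype_card, ← Finset.card_univ, ← Finset.prod_const]
  exact Finset.prod_congr rfl (fun k _ => hv k k.2)

/-- **Coprime action, abelian case.** If a `p`-group `A` normalizes a `p'`-group `K`, both acting
on a finite abelian `p`-group `V`, and every fixed point of `A` is fixed by `K`, then `K` acts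
trivially. -/
theorem smul_eq_of_fixed_abelian [Finite V] (p : ℕ) [hp : Fact p.Prime] (hV : IsPGroup p V)
    (A K : Subgroup Γ) [Finite K] (hA : IsPGroup p A) (hK : (Nat.card K).Coprime p)
    (hAK : A ≤ Subgroup.normalizer (K : Set Γ))
    (hfix : ∀ v : V, (∀ a ∈ A, a • v = v) → ∀ k ∈ K, k • v = v) :
    ∀ k ∈ K, ∀ v : V, k • v = v := by
  classical
  have := Fintype.ofFinite K
  set M : Subgroup V := (normHom K : V →* V).ker with hM
  -- `A` acts on `M`
  let act : MulAction A M :=
    { smul := fun a m => ⟨(a : Γ) • (m : V), by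
        have hm : normHom K (m : V) = 1 := MonoidHom.mem_ker.mp m.2
        show (a : Γ) • (m : V) ∈ (normHom K : V →* V).ker
        rw [MonoidHom.mem_ker, ← smul_normHom_of_mem_normalizer K (hAK a.2), hm, smul_one]⟩
      one_smul := fun m => by ext; exact one_smul Γ (m : V)
      mul_smul := fun a b m => by ext; exact mul_smul (a : Γ) (b : Γ) (m : V) }
  have hsm : ∀ (a : A) (m : M), ((a • m : M) : V) = (a : Γ) • (m : V) := fun _ _ => rfl
  -- `M` is trivial
  have hMbot : M = ⊥ := by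
    by_contra hne
    have hMp : IsPGroup p M := hV.to_subgroup M
    have hdvd : p ∣ Nat.card M := by
      rcases hMp.card_eq_or_dvd with h1 | h1
      · exact absurd (Subgroup.card_eq_one.mp h1) hne
      · exact h1
    have h1fix : (1 : M) ∈ MulAction.fixedPoints A M := by
      intro a; ext; rw [hsm]; simp
    obtain ⟨m, hmfix, hm1⟩ := hA.exists_fixed_point_of_prime_dvd_card_of_fixed_point M hdvd h1fix
    apply hm1
    have hmA : ∀ a ∈ A, a • (m : V) = (m : V) := by
      intro a ha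
      have := congrArg Subtype.val (hmfix ⟨a, ha⟩)
      rwa [hsm] at this
    have hmK := hfix (m : V) hmA
    have hpow : (m : V) ^ Nat.card K = 1 := by
      rw [← normHom_of_fixed K (m : V) hmK]; exact MonoidHom.mem_ker.mp m.2
    obtain ⟨j, hj⟩ := hV (m : V)
    have hord : orderOf (m : V) ∣ Nat.gcd (Nat.card K) (p ^ j) :=
      Nat.dvd_gcd (orderOf_dvd_of_pow_eq_one hpow) (orderOf_dvd_of_pow_eq_one hj)
    rw [Nat.Coprime.gcd_eq_one (Nat.Coprime.pow_right j hK)] at hord
    have : (m : V) = 1 := orderOf_eq_one_iff.mp (Nat.dvd_one.mp hord)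
    ext; rw [this]; rfl
  intro k hk v
  have hmem : v⁻¹ * k • v ∈ M := by
    rw [hM, MonoidHom.mem_ker, map_mul, map_inv, normHom_smul_right K hk, inv_mul_cancel]
  rw [hMbot, Subgroup.mem_bot] at hmem
  exact (inv_mul_eq_one.mp hmem).symm

end abelian

section main

open Baer in
/-- **Coprime action, class two.** Let `E` be a finite `p`-group, `p` odd, of class at most two.
If a `p`-group `A` normalizes a `p'`-group `K`, both acting on `E`, and every fixed point of `A`
is fixed by `K`, then `K` acts trivially on `E`. -/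
theorem smul_eq_of_fixed_class2 {Γ E : Type*} [Group Γ] [Group E] [Finite E]
    [MulDistribMulAction Γ E] (p : ℕ) [hp' : Fact p.Prime] (hp : p ≠ 2) (hE : IsPGroup p E)
    (hcl : Class2 E) (A K : Subgroup Γ) [Finite K] (hA : IsPGroup p A)
    (hK : (Nat.card K).Coprime p) (hAK : A ≤ Subgroup.normalizer (K : Set Γ))
    (hfix : ∀ x : E, (∀ a ∈ A, a • x = x) → ∀ k ∈ K, k • x = x) :
    ∀ k ∈ K, ∀ x : E, k • x = x := by
  obtain ⟨n, hn⟩ := IsPGroup.iff_card.mp hE
  have hodd : Odd (p ^ n) := (hp'.out.odd_of_ne_two hp).pow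
  obtain ⟨h, hh⟩ := hodd
  have h2 : 2 * (h + 1) = p ^ n + 1 := by omega
  haveI : BaerData E (h + 1) := ⟨hcl, fun g => by
    rw [h2, pow_succ, ← hn, pow_card_eq_one', one_mul]⟩
  have hVp : IsPGroup p (Baer E (h + 1)) := by
    apply IsPGroup.of_card (n := n)
    rw [Nat.card_congr (Baer.equiv E (h + 1)), hn]
  have key := smul_eq_of_fixed_abelian (V := Baer E (h + 1)) p hVp A K hA hK hAK
    (fun v hv k hk => Baer.ext' (hfix v.val (fun a ha => congrArg Baer.val (hv a ha)) k hk))
  intro k hk x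
  exact congrArg Baer.val (key k hk ⟨x⟩)

/-- Subgroup form of `smul_eq_of_fixed_class2`, for conjugation on a normal subgroup. -/
theorem commute_of_fixed_class2 {Y : Type*} [Group Y] [Finite Y] (p : ℕ) [Fact p.Prime]
    (hp : p ≠ 2) (E A K : Subgroup Y) [hEn : E.Normal] (hE : IsPGroup p E)
    (hcl : ∀ x ∈ E, ∀ y ∈ E, ∀ z ∈ E, ⁅x, y⁆ * z = z * ⁅x, y⁆)
    (hA : IsPGroup p A) (hK : (Nat.card K).Coprime p)
    (hAK : A ≤ Subgroup.normalizer (K : Set Y))
    (hfix : ∀ x ∈ E, (∀ a ∈ A, a * x = x * a) → ∀ k ∈ K, k * x = x * k) :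
    ∀ k ∈ K, ∀ x ∈ E, k * x = x * k := by
  letI : MulDistribMulAction Y E := MulDistribMulAction.compHom E (MulAut.conjNormal (H := E))
  have hsm : ∀ (g : Y) (x : E), ((g • x : E) : Y) = g * x * g⁻¹ := fun g x => rfl
  have hiff : ∀ (g : Y) (x : E), g • x = x ↔ g * (x : Y) = x * g := by
    intro g x
    rw [Subtype.ext_iff, hsm, mul_inv_eq_iff_eq_mul]
  have hcl' : Class2 E := by
    intro x y z
    apply Subtype.ext
    exact hcl x x.2 y y.2 z z.2
  have key := smul_eq_of_fixed_class2 (Γ := Y) (E := E) p hp hE hcl' A K hA hK hAK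
    (fun x hx k hk => (hiff k x).mpr (hfix x x.2 (fun a ha => (hiff a x).mp (hx a ha)) k hk))
  intro k hk x hx
  exact (hiff k ⟨x, hx⟩).mp (key k hk ⟨x, hx⟩)

end main

end Cfsg.Agent.Helper54
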