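import Mathlib
import Cfsg.Prelude.Def_Local
import Cfsg.Agent.Helper82.CharPWitness
import Cfsg.Agent.Helper21.CharPLocal

/-!
# Characteristic `p` witnesses pass to centralizers of `p`-subgroups (helper82's WANTED #B)

If `K ≤ U` witness that `G / K` has characteristic `p`, `K` is a `p'`-group and `R` is a `p`-subgroup
of `G`, then `C_G(R) / (K ∩ C_G(R))` has characteristic `p` as well.
-/

set_option autoImplicit false

namespace Cfsg.Agent.Helper54

open Cfsg Cfsg.Agent.Helper46

section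

variable {G : Type*} [Group G]

/-- coprime fixed points: if `K` is a normal `p'`-subgroup and `R` a `p`-subgroup, every element of
`G / K` centralizing the image of `R` is the image of an element of `C_G(R)` -/
theorem exists_mem_centralizer_of_mk_mem_centralizer [Finite G] {p : ℕ} [Fact p.Prime]
    (K : Subgroup G) [hK : K.Normal] (hKp : ¬ p ∣ Nat.card K) (R : Subgroup G) (hR : IsPGroup p R)
    (xb : G ⧸ K)
    (hxb : xb ∈ Subgroup.centralizer
      ((R.map (QuotientGroup.mk' K) : Subgroup (G ⧸ K)) : Set (G ⧸ K))) :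
    ∃ x ∈ Subgroup.centralizer (R : Set G), QuotientGroup.mk' K x = xb := by
  obtain ⟨x₀, rfl⟩ := QuotientGroup.mk'_surjective K xb
  have hmem : ∀ (r : R) (k : K), x₀⁻¹ * (r : G) * x₀ * (k : G) * (r : G)⁻¹ ∈ K := by
    intro r k
    have hc := Subgroup.mem_centralizer_iff.1 hxb (QuotientGroup.mk' K (r : G)) ⟨r, r.2, rfl⟩
    have hk : QuotientGroup.mk' K (k : G) = 1 := (QuotientGroup.eq_one_iff _).2 k.2
    have h1 : QuotientGroup.mk' K (x₀⁻¹ * (r : G) * x₀ * (k : G) * (r : G)⁻¹) = 1 := by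
      simp only [map_mul, map_inv, hk, mul_one]
      rw [mul_assoc (QuotientGroup.mk' K x₀)⁻¹, hc]
      group
    exact (QuotientGroup.eq_one_iff _).1 h1
  let _ : MulAction R K :=
    { smul := fun r k => ⟨x₀⁻¹ * (r : G) * x₀ * (k : G) * (r : G)⁻¹, hmem r k⟩
      one_smul := by
        intro k
        apply Subtype.ext
        show x₀⁻¹ * ((1 : R) : G) * x₀ * (k : G) * ((1 : R) : G)⁻¹ = (k : G)
        simp
      mul_smul := by
        intro r s k
        apply Subtype.ext
        show x₀⁻¹ * ((r * s : R) : G) * x₀ * (k : G) * ((r * s : R) : G)⁻¹ =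
          x₀⁻¹ * (r : G) * x₀ * (x₀⁻¹ * (s : G) * x₀ * (k : G) * (s : G)⁻¹) * (r : G)⁻¹
        simp only [Subgroup.coe_mul]
        group }
  obtain ⟨k, hk⟩ := hR.nonempty_fixed_point_of_prime_not_dvd_card K hKp
  refine ⟨x₀ * (k : G), ?_, ?_⟩
  · rw [Subgroup.mem_centralizer_iff]
    intro r hr
    have := hk ⟨r, hr⟩
    have h1 : x₀⁻¹ * r * x₀ * (k : G) * r⁻¹ = (k : G) := congrArg Subtype.val this
    calc r * (x₀ * (k : G)) = x₀ * (x₀⁻¹ * r * x₀ * (k : G) * r⁻¹) * r := by group
      _ = x₀ * (k : G) * r := by rw [h1]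
  · have hk1 : QuotientGroup.mk' K (k : G) = 1 := (QuotientGroup.eq_one_iff _).2 k.2
    rw [map_mul, hk1, mul_one]

/-- helper82's WANTED #B: a witness for characteristic `p` of `G / K` (`K` a `p'`-group) gives a
witness for `C_G(R) / (K ∩ C_G(R))`, for every `p`-subgroup `R` -/
theorem exists_charPWitness_centralizer [Finite G] {p : ℕ} [Fact p.Prime]
    {K U : Subgroup G} (hW : Cfsg.Agent.Helper82.CharPWitness p K U) (hKp : ¬ p ∣ Nat.card K)
    (R : Subgroup G) (hR : IsPGroup p R) :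
    ∃ V : Subgroup ↥(Subgroup.centralizer (R : Set G)),
      Cfsg.Agent.Helper82.CharPWitness p (K.subgroupOf (Subgroup.centralizer (R : Set G))) V := by
  have hKn : K.Normal := hW.normalN
  set C : Subgroup G := Subgroup.centralizer (R : Set G) with hC
  set Rb : Subgroup (G ⧸ K) := R.map (QuotientGroup.mk' K) with hRb
  have hRbp : IsPGroup p Rb := hR.map _
  set X : Subgroup (G ⧸ K) := Subgroup.centralizer (Rb : Set (G ⧸ K)) with hX
  have hchar : Cfsg.Agent.Helper21.CharPIn p X :=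
    Cfsg.Agent.Helper21.charPIn_centralizer_of_top hRbp hW.centralizer_pCore_le
  set O : Subgroup (G ⧸ K) := pCoreOf p X with hO
  have hOX : O ≤ X := pCoreOf_le X
  have hOp : IsPGroup p O := pCoreOf_isPGroup X
  have hXO : X ≤ Subgroup.normalizer (O : Set (G ⧸ K)) := pCoreOf_normalized X
  let φ : ↥C →* G ⧸ K := (QuotientGroup.mk' K).comp C.subtype
  have hφ : ∀ c : ↥C, φ c = QuotientGroup.mk' K (c : G) := fun _ => rfl
  have hφX : ∀ c : ↥C, φ c ∈ X := by
    intro c
    rw [hX, Subgroup.mem_centralizer_iff]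
    rintro _ ⟨r, hr, rfl⟩
    have hcr : r * (c : G) = (c : G) * r := Subgroup.mem_centralizer_iff.1 c.2 r hr
    rw [hφ, ← map_mul, ← map_mul, hcr]
  refine ⟨O.comap φ, ?_⟩
  refine ⟨?_, ?_, ?_, ?_, ?_⟩
  · -- `K ∩ C ≤ V`
    intro c hc
    rw [Subgroup.mem_subgroupOf] at hc
    rw [Subgroup.mem_comap, hφ]
    have h1 : QuotientGroup.mk' K (c : G) = 1 := (QuotientGroup.eq_one_iff _).2 hc
    rw [h1]
    exact O.one_mem
  · -- `K ∩ C` is normal in `C`
    exact hKn.subgroupOf C
  · -- `V` is normal in `C`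
    constructor
    intro v hv c
    rw [Subgroup.mem_comap] at hv ⊢
    rw [map_mul, map_mul, map_inv]
    have := hXO (hφX c)
    rw [Subgroup.mem_normalizer_iff] at this
    exact (this (φ v)).1 hv
  · -- `V / (K ∩ C)` is a `p`-group
    intro v hv
    rw [Subgroup.mem_comap] at hv
    obtain ⟨k, hk⟩ := hOp ⟨φ v, hv⟩
    refine ⟨k, ?_⟩
    rw [Subgroup.mem_subgroupOf, Subgroup.coe_pow]
    have h1 : (φ v) ^ p ^ k = 1 := by
      have := congrArg Subtype.val hk
      simpa using this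
    rw [hφ, ← map_pow] at h1
    exact (QuotientGroup.eq_one_iff _).1 h1
  · -- the centralizer condition
    intro g hg
    rw [Subgroup.mem_comap]
    apply hchar
    refine Subgroup.mem_inf.2 ⟨hφX g, ?_⟩
    rw [Subgroup.mem_centralizer_iff]
    intro yb hyb
    obtain ⟨y, hyC, hy⟩ := exists_mem_centralizer_of_mk_mem_centralizer K hKp R hR yb (hOX hyb)
    have hyV : (⟨y, hyC⟩ : ↥C) ∈ O.comap φ := by
      rw [Subgroup.mem_comap, hφ]
      show QuotientGroup.mk' K y ∈ O
      rw [hy]; exact hyb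
    have h1 := hg ⟨y, hyC⟩ hyV
    rw [Subgroup.mem_subgroupOf] at h1
    have h2 : QuotientGroup.mk' K ((g : G) * y * (g : G)⁻¹ * y⁻¹) = 1 := by
      apply (QuotientGroup.eq_one_iff _).2
      simpa using h1
    rw [map_mul, map_mul, map_mul, map_inv, map_inv, hy, ← hφ] at h2
    -- `φ g * yb * (φ g)⁻¹ * yb⁻¹ = 1`
    have h3 : φ g * yb = yb * φ g := by
      have := mul_inv_eq_one.1 h2
      exact mul_inv_eq_iff_eq_mul.1 this
    exact h3.symm

end

end Cfsg.Agent.Helper54
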