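import Cfsg.Agent.Helper54.PConstrained3
import Cfsg.Agent.Helper25.PGroupBasic
import Cfsg.Prelude.Def_CaseTheorems

set_option autoImplicit false
set_option linter.style.haveILetI false
set_option linter.unusedVariables false

/-!
# Groups all of whose local subgroups have characteristic `p` (helper54)

Internal ("ambient") treatment, via `Cfsg.Agent.Helper49.CharPIn`:

* `charPIn_local`: subgroups between `C_M(T)` and `N_M(T)` of a group `M` of characteristic `p`
  have characteristic `p`;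
* `charPIn_normalizer`: if `C_G(z)` has characteristic `p` for some `z ∈ Z(T)`, so does `N_G(T)`;
* `inf_centralizer_eq_bot_of_relIndex_le_two`: killing `C_X(u)` for a Sylow-invariant `2'`-subgroup.
-/

namespace Cfsg.Agent.Helper54.CT

open Cfsg Cfsg.Agent.Helper49 Cfsg.Agent.Helper54

section basic

variable {G : Type*} [Group G] {p : ℕ}

/-- If `K` is closed under conjugation by elements of `L`, then `L ≤ N_G(K)`. -/
theorem le_normalizer_of_forall_conj {L K : Subgroup G}
    (h : ∀ l ∈ L, ∀ k ∈ K, l * k * l⁻¹ ∈ K) : L ≤ Subgroup.normalizer (K : Set G) := by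
  intro l hl
  rw [Subgroup.mem_normalizer_iff]
  intro k
  constructor
  · exact h l hl k
  · intro hk
    have := h l⁻¹ (L.inv_mem hl) _ hk
    have h2 : l⁻¹ * (l * k * l⁻¹) * l⁻¹⁻¹ = k := by group
    rwa [h2] at this

theorem conj_mem_of_le_normalizer {L K : Subgroup G} (h : L ≤ Subgroup.normalizer (K : Set G))
    {l k : G} (hl : l ∈ L) (hk : k ∈ K) : l * k * l⁻¹ ∈ K :=
  (Subgroup.mem_normalizer_iff.mp (h hl) k).mp hk

/-- `p`-constrained with trivial `p'`-core gives the ambient form of characteristic `p`. -/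
theorem charPIn_of_isPConstrained [Finite G] [Fact p.Prime] (L : Subgroup G)
    (h1 : IsPConstrained p ↥L) (h2 : pPrimeCore p ↥L = ⊥) : CharPIn p L :=
  (charPIn_iff L).mpr (charP_of_isPConstrained h1 h2).2

/-- In a group of characteristic `p`, a normal subgroup of order prime to `p` is trivial. -/
theorem eq_bot_of_charPIn [Finite G] [Fact p.Prime] {L X : Subgroup G} (hL : CharPIn p L)
    (hXL : X ≤ L) (hnorm : ∀ l ∈ L, ∀ x ∈ X, l * x * l⁻¹ ∈ X) (hX : (Nat.card X).Coprime p) :
    X = ⊥ := by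
  rw [eq_bot_iff]
  intro x hx
  rw [Subgroup.mem_bot]
  have hxcop : ∀ y ∈ X, (orderOf y).Coprime p := fun y hy =>
    Nat.Coprime.coprime_dvd_left (Subgroup.orderOf_dvd_natCard X hy) hX
  have hxR : x ∈ coreIn p L := by
    apply hL x (hXL hx)
    intro r hr
    have hrL : r ∈ L := coreIn_le L hr
    -- the commutator lies in `X ⊓ O_p(L)`
    set c : G := x * r * x⁻¹ * r⁻¹ with hc
    have hcR : c ∈ coreIn p L :=
      (coreIn p L).mul_mem (coreIn_conj_mem (hXL hx) hr) ((coreIn p L).inv_mem hr)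
    have hcX : c ∈ X := by
      have h1 : r * x⁻¹ * r⁻¹ ∈ X := hnorm r hrL _ (X.inv_mem hx)
      have : c = x * (r * x⁻¹ * r⁻¹) := by rw [hc]; group
      rw [this]
      exact X.mul_mem hx h1
    have hc1 : c = 1 := eq_one_of_mem_pGroup_of_coprime (coreIn_isPGroup L) hcR (hxcop c hcX)
    have : x * r = c * (r * x) := by rw [hc]; group
    rw [this, hc1, one_mul]
  exact eq_one_of_mem_pGroup_of_coprime (coreIn_isPGroup L) hxR (hxcop x hx)

/-- The ambient form of characteristic `p` gives `p`-constraint and trivial `p'`-core. -/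
theorem isPConstrained_of_charPIn [Finite G] [hp : Fact p.Prime] {L : Subgroup G} (hL : CharPIn p L) :
    IsPConstrained p ↥L ∧ pPrimeCore p ↥L = ⊥ := by
  have h0 : pPrimeCore p ↥L = ⊥ := by
    have hn : (pPrimeCore p ↥L).Normal := inferInstance
    have hX : (pPrimeCore p ↥L).map L.subtype = ⊥ := by
      apply eq_bot_of_charPIn hL
      · rintro _ ⟨y, _, rfl⟩
        exact y.2
      · rintro l hl _ ⟨y, hy, rfl⟩
        refine ⟨⟨l, hl⟩ * y * ⟨l, hl⟩⁻¹, hn.conj_mem y hy ⟨l, hl⟩, ?_⟩
        simp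
      · rw [Subgroup.card_map_of_injective L.subtype_injective]
        exact Cfsg.Agent.Lib.card_pPrimeCore_coprime p
    exact (Subgroup.map_eq_bot_iff_of_injective _ L.subtype_injective).mp hX
  exact ⟨CharP.isPConstrained ⟨h0, (charPIn_iff L).mp hL⟩, h0⟩

/-- `O_p(D)` is invariant under `N_G(D)`. -/
theorem coreIn_conj_mem_of_mem_normalizer {D : Subgroup G} {n r : G}
    (hn : n ∈ Subgroup.normalizer (D : Set G)) (hr : r ∈ coreIn p D) :
    n * r * n⁻¹ ∈ coreIn p D := by
  set R' : Subgroup G := (coreIn p D).map (MulAut.conj n).toMonoidHom with hR'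
  have hn' : n⁻¹ ∈ Subgroup.normalizer (D : Set G) := Subgroup.inv_mem _ hn
  have hle : R' ≤ coreIn p D := by
    apply le_coreIn
    · rintro _ ⟨y, hy, rfl⟩
      exact (Subgroup.mem_normalizer_iff.mp hn y).mp (coreIn_le D hy)
    · rintro d hd _ ⟨y, hy, rfl⟩
      have hd' : n⁻¹ * d * n⁻¹⁻¹ ∈ D := (Subgroup.mem_normalizer_iff.mp hn' d).mp hd
      refine ⟨(n⁻¹ * d * n⁻¹⁻¹) * y * (n⁻¹ * d * n⁻¹⁻¹)⁻¹, coreIn_conj_mem hd' hy, ?_⟩
      simp only [MulEquiv.coe_toMonoidHom, MulAut.conj_apply]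
      group
    · exact (coreIn_isPGroup D).map _
  apply hle
  exact ⟨r, hr, by simp [MulAut.conj_apply]⟩

/-- Subgroups between `C_M(T)` and `N_M(T)` (containing `T` or centralizing `T`) of a subgroup `M`
of characteristic `p` have characteristic `p` (Thompson's `P × Q` lemma). -/
theorem charPIn_local [Finite G] [Fact p.Prime] {M L T : Subgroup G} (hM : CharPIn p M)
    (hTM : T ≤ M) (hT : IsPGroup p T) (hLM : L ≤ M)
    (hLN : L ≤ Subgroup.normalizer (T : Set G))
    (hCL : Subgroup.centralizer (T : Set G) ⊓ M ≤ L)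
    (hcase : T ≤ L ∨ L ≤ Subgroup.centralizer (T : Set G)) : CharPIn p L := by
  apply charPIn_of_forall
  intro c hcL hcR hcop
  -- `c` centralizes `T`
  have hcT : ∀ t ∈ T, c * t = t * c := by
    rcases hcase with h | h
    · have hTR : T ≤ coreIn p L :=
        le_coreIn h (fun l hl t ht => conj_mem_of_le_normalizer hLN hl ht) hT
      exact fun t ht => hcR t (hTR ht)
    · intro t ht
      exact ((Subgroup.mem_centralizer_iff.mp (h hcL)) t ht).symm
  -- `C_R(T) ≤ O_p(L)` for `R = O_p(M)`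
  have hRC : coreIn p M ⊓ Subgroup.centralizer (T : Set G) ≤ coreIn p L := by
    apply le_coreIn
    · intro x hx
      exact hCL ⟨hx.2, coreIn_le M hx.1⟩
    · intro l hl n hn
      refine Subgroup.mem_inf.mpr ⟨coreIn_conj_mem (hLM hl) hn.1, ?_⟩
      rw [Subgroup.mem_centralizer_iff]
      intro t ht
      have hl' : l⁻¹ ∈ Subgroup.normalizer (T : Set G) := Subgroup.inv_mem _ (hLN hl)
      have ht' : l⁻¹ * t * l⁻¹⁻¹ ∈ T := (Subgroup.mem_normalizer_iff.mp hl' t).mp ht
      have hcomm := (Subgroup.mem_centralizer_iff.mp hn.2) _ ht'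
      calc t * (l * n * l⁻¹) = l * ((l⁻¹ * t * l⁻¹⁻¹) * n) * l⁻¹ := by group
        _ = l * (n * (l⁻¹ * t * l⁻¹⁻¹)) * l⁻¹ := by rw [hcomm]
        _ = l * n * l⁻¹ * t := by group
    · exact (coreIn_isPGroup M).to_inf_left
  have hnormR : M ≤ Subgroup.normalizer ((coreIn p M : Subgroup G) : Set G) :=
    le_normalizer_of_forall_conj (fun l hl r hr => coreIn_conj_mem hl hr)
  have hall := Cfsg.Agent.Helper24.thompson_PxQ (coreIn_isPGroup M) hT (hTM.trans hnormR)
    (hnormR (hLM hcL)) hcop hcT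
    (fun u hu hut => hcR u (hRC ⟨hu, Subgroup.mem_centralizer_iff.mpr hut⟩))
  have hcM : c ∈ coreIn p M := hM c (hLM hcL) hall
  exact eq_one_of_mem_pGroup_of_coprime (coreIn_isPGroup M) hcM hcop

/-- If `C_G(z)` has characteristic `p` for some `z ∈ T ∩ Z(T)`, `T` a `p`-subgroup, then `N_G(T)` has
characteristic `p`. -/
theorem charPIn_normalizer [Finite G] [Fact p.Prime] (T : Subgroup G) (hT : IsPGroup p T) (z : G)
    (hzT : z ∈ T) (hzc : ∀ t ∈ T, z * t = t * z)
    (hC : CharPIn p (Subgroup.centralizer ({z} : Set G))) :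
    CharPIn p (Subgroup.normalizer (T : Set G)) := by
  set N : Subgroup G := Subgroup.normalizer (T : Set G) with hN
  set C : Subgroup G := Subgroup.centralizer ({z} : Set G) with hCdef
  have hTN : T ≤ N := Subgroup.le_normalizer
  have hTC : T ≤ C := by
    intro t ht
    rw [hCdef, Subgroup.mem_centralizer_singleton_iff]
    exact (hzc t ht).symm
  -- `H = N_C(T)` has characteristic `p`
  have hH : CharPIn p (C ⊓ N) :=
    charPIn_local hC hTC hT inf_le_left inf_le_right
      (fun x hx => ⟨hx.2, Subgroup.centralizer_le_normalizer _ hx.1⟩) (Or.inl (le_inf hTC hTN))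
  -- `Q = O_p(N)` contains `T`
  have hTQ : T ≤ coreIn p N :=
    le_coreIn hTN (fun l hl t ht => conj_mem_of_le_normalizer le_rfl hl ht) hT
  set D : Subgroup G := N ⊓ Subgroup.centralizer ((coreIn p N : Subgroup G) : Set G) with hD
  have hDH : D ≤ C ⊓ N := by
    intro d hd
    refine Subgroup.mem_inf.mpr ⟨?_, hd.1⟩
    rw [hCdef, Subgroup.mem_centralizer_singleton_iff]
    exact ((Subgroup.mem_centralizer_iff.mp hd.2) z (hTQ hzT)).symm
  have hND : N ≤ Subgroup.normalizer (D : Set G) := by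
    apply le_normalizer_of_forall_conj
    intro n hn d hd
    refine Subgroup.mem_inf.mpr ⟨N.mul_mem (N.mul_mem hn hd.1) (N.inv_mem hn), ?_⟩
    rw [Subgroup.mem_centralizer_iff]
    intro q hq
    have hq' : n⁻¹ * q * n⁻¹⁻¹ ∈ coreIn p N := coreIn_conj_mem (N.inv_mem hn) hq
    have hcomm := (Subgroup.mem_centralizer_iff.mp hd.2) _ hq'
    calc q * (n * d * n⁻¹) = n * ((n⁻¹ * q * n⁻¹⁻¹) * d) * n⁻¹ := by group
      _ = n * (d * (n⁻¹ * q * n⁻¹⁻¹)) * n⁻¹ := by rw [hcomm]
      _ = n * d * n⁻¹ * q := by group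
  have hDchar : CharPIn p D :=
    charPIn_of_normalized hH hDH (((coreIn_le (C ⊓ N)).trans inf_le_right).trans hND)
  have hDQ : coreIn p D ≤ coreIn p N :=
    le_coreIn ((coreIn_le D).trans inf_le_left)
      (fun n hn r hr => coreIn_conj_mem_of_mem_normalizer (hND hn) hr) (coreIn_isPGroup D)
  intro c hcN hcQ
  have hcD : c ∈ D := by
    refine Subgroup.mem_inf.mpr ⟨hcN, ?_⟩
    rw [Subgroup.mem_centralizer_iff]
    intro q hq
    exact (hcQ q hq).symm
  exact hDQ (hDchar c hcD (fun r hr => hcQ r (hDQ hr)))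

/-- If `M` has characteristic `p` and contains `C_G(t)` for a `p`-element `t`, then `C_G(t)` has
characteristic `p`. -/
theorem charPIn_centralizer_of_le [Finite G] [Fact p.Prime] {M : Subgroup G} (hM : CharPIn p M)
    {t : G} (ht : IsPGroup p (Subgroup.zpowers t))
    (hle : Subgroup.centralizer ({t} : Set G) ≤ M) :
    CharPIn p (Subgroup.centralizer ({t} : Set G)) := by
  have heq : Subgroup.centralizer ({t} : Set G) =
      Subgroup.centralizer ((Subgroup.zpowers t : Subgroup G) : Set G) := by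
    ext g
    rw [mem_centralizer_zpowers_iff, Subgroup.mem_centralizer_singleton_iff]
  have htC : t ∈ Subgroup.centralizer ({t} : Set G) := by
    rw [Subgroup.mem_centralizer_singleton_iff]
  apply charPIn_local hM (T := Subgroup.zpowers t) _ ht hle
  · rw [heq]; exact Subgroup.centralizer_le_normalizer _
  · rw [← heq]; exact inf_le_left
  · right; exact heq.le
  · rw [Subgroup.zpowers_le]
    exact hle htC

end basic

section twoLocal

variable {G : Type*} [Group G]

/-- Every 2-local subgroup of a finite group lies in a maximal 2-local subgroup. -/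
theorem exists_isMaximalTwoLocal_ge [Finite G] {N : Subgroup G} (hN : IsTwoLocal N) :
    ∃ M : Subgroup G, IsMaximalTwoLocal M ∧ N ≤ M := by
  have hfin : ({M : Subgroup G | IsTwoLocal M ∧ N ≤ M} : Set (Subgroup G)).Finite :=
    Set.toFinite _
  obtain ⟨M, hM⟩ := hfin.exists_maximal ⟨N, hN, le_rfl⟩
  refine ⟨M, ⟨hM.prop.1, ?_⟩, hM.prop.2⟩
  intro N' hN' hMN'
  exact le_antisymm (hM.le_of_ge ⟨hN', hM.prop.2.trans hMN'⟩ hMN') hMN'

/-- The centralizer of an involution is a 2-local subgroup. -/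
theorem isTwoLocal_centralizer {t : G} (ht : orderOf t = 2) :
    IsTwoLocal (Subgroup.centralizer ({t} : Set G)) := by
  have ht1 : t ≠ 1 := by
    intro h
    rw [h, orderOf_one] at ht
    omega
  have htt : t * t = 1 := by
    have := pow_orderOf_eq_one t
    rwa [ht, pow_two] at this
  refine ⟨Subgroup.zpowers t, ?_, ?_, ?_⟩
  · apply IsPGroup.of_card (n := 1)
    rw [Nat.card_zpowers, ht, pow_one]
  · intro h
    apply ht1
    have : t ∈ (⊥ : Subgroup G) := h ▸ Subgroup.mem_zpowers t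
    exact Subgroup.mem_bot.mp this
  · apply le_antisymm
    · have heq : Subgroup.centralizer ({t} : Set G) =
          Subgroup.centralizer ((Subgroup.zpowers t : Subgroup G) : Set G) := by
        ext g
        rw [mem_centralizer_zpowers_iff, Subgroup.mem_centralizer_singleton_iff]
      rw [heq]
      exact Subgroup.centralizer_le_normalizer _
    · intro g hg
      rw [Subgroup.mem_centralizer_singleton_iff]
      have h1 : g * t * g⁻¹ ∈ Subgroup.zpowers t :=
        (Subgroup.mem_normalizer_iff.mp hg t).mp (Subgroup.mem_zpowers t)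
      obtain ⟨k, hk⟩ := Subgroup.mem_zpowers_iff.mp h1
      rcases Int.even_or_odd k with ⟨m, hm⟩ | ⟨m, hm⟩
      · exfalso
        have h2 : t ^ k = 1 := by
          rw [hm, ← two_mul, zpow_mul, zpow_two, htt, one_zpow]
        rw [h2] at hk
        apply ht1
        have : t = g⁻¹ * (g * t * g⁻¹) * g := by group
        rw [this, ← hk]
        group
      · have h2 : t ^ k = t := by
          rw [hm, zpow_add, zpow_mul, zpow_two, htt, one_zpow, one_mul, zpow_one]
        rw [h2] at hk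
        calc g * t = (g * t * g⁻¹) * g := by group
          _ = t * g := by rw [← hk]

end twoLocal

section invert

variable {G : Type*} [Group G]

/-- An involution acting without nontrivial fixed points on a finite subgroup inverts it. -/
theorem conj_eq_inv_of_inf_centralizer_eq_bot [Finite G] {X : Subgroup G} {t : G} (htt : t * t = 1)
    (hnorm : ∀ x ∈ X, t * x * t⁻¹ ∈ X)
    (hfix : X ⊓ Subgroup.centralizer ({t} : Set G) = ⊥) :
    ∀ x ∈ X, t * x * t⁻¹ = x⁻¹ := by
  have htinv : t⁻¹ = t := inv_eq_of_mul_eq_one_right htt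
  let f : X → X := fun x => ⟨(x : G)⁻¹ * (t * x * t⁻¹), X.mul_mem (X.inv_mem x.2) (hnorm x x.2)⟩
  have hinj : Function.Injective f := by
    intro x y hxy
    have h : (x : G)⁻¹ * (t * x * t⁻¹) = (y : G)⁻¹ * (t * y * t⁻¹) := congrArg Subtype.val hxy
    have hw : (y : G) * (x : G)⁻¹ ∈ X ⊓ Subgroup.centralizer ({t} : Set G) := by
      refine Subgroup.mem_inf.mpr ⟨X.mul_mem y.2 (X.inv_mem x.2), ?_⟩
      rw [Subgroup.mem_centralizer_singleton_iff]
      have h1 : (y : G) * (x : G)⁻¹ = (t * y * t⁻¹) * (t * x * t⁻¹)⁻¹ := by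
        have : (t * (x : G) * t⁻¹) = (x : G) * ((y : G)⁻¹ * (t * y * t⁻¹)) := by
          rw [← h]; group
        rw [this]; group
      have h2 : (t * (y : G) * t⁻¹) * (t * x * t⁻¹)⁻¹ = t * ((y : G) * (x : G)⁻¹) * t⁻¹ := by group
      rw [h2] at h1
      calc (y : G) * (x : G)⁻¹ * t = (t * ((y : G) * (x : G)⁻¹) * t⁻¹) * t := by rw [← h1]
        _ = t * ((y : G) * (x : G)⁻¹) := by group
    rw [hfix, Subgroup.mem_bot] at hw
    apply Subtype.ext
    have : (y : G) = (y : G) * (x : G)⁻¹ * x := by group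
    rw [this, hw, one_mul]
  have hsurj : Function.Surjective f := Finite.injective_iff_surjective.mp hinj
  intro x hx
  obtain ⟨y, hy⟩ := hsurj ⟨x, hx⟩
  have hxy : x = (y : G)⁻¹ * (t * y * t⁻¹) := (congrArg Subtype.val hy).symm
  rw [hxy, htinv]
  have h1 : t * ((y : G)⁻¹ * (t * ↑y * t)) * t = t * (y : G)⁻¹ * t * y * (t * t) := by group
  have h2 : ((y : G)⁻¹ * (t * ↑y * t))⁻¹ = t⁻¹ * (y : G)⁻¹ * t⁻¹ * y := by group
  rw [h1, h2, htt, htinv, mul_one]

end invert

section kill

variable {G : Type*} [Group G]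

/-- Let `S` be a Sylow 2-subgroup normalizing the odd-order subgroup `X`, and let `u` be an element
whose centralizer has characteristic 2 and contains a subgroup of index at most 2 of `S`. Then
`C_X(u) = 1`. -/
theorem inf_centralizer_eq_bot_of_card_le [Finite G] (S : Sylow 2 G) {X : Subgroup G}
    (hXodd : Odd (Nat.card X)) (hSX : (S : Subgroup G) ≤ Subgroup.normalizer (X : Set G)) {u : G}
    (hC : CharPIn 2 (Subgroup.centralizer ({u} : Set G)))
    (hidx : Nat.card (S : Subgroup G) ≤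
      2 * Nat.card ↥((S : Subgroup G) ⊓ Subgroup.centralizer ({u} : Set G))) :
    X ⊓ Subgroup.centralizer ({u} : Set G) = ⊥ := by
  set C : Subgroup G := Subgroup.centralizer ({u} : Set G) with hCdef
  set R : Subgroup G := coreIn 2 C with hR
  set S₀ : Subgroup G := (S : Subgroup G) ⊓ C with hS₀
  have hRp : IsPGroup 2 R := coreIn_isPGroup C
  have hRC : R ≤ C := coreIn_le C
  have hXcop : (Nat.card X).Coprime 2 := Nat.coprime_two_right.mpr hXodd
  have hcop : ∀ y ∈ X, (orderOf y).Coprime 2 := fun y hy =>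
    Nat.Coprime.coprime_dvd_left (Subgroup.orderOf_dvd_natCard X hy) hXcop
  -- elements of `Y = C_X(u)` commute with `R ∩ S`
  have hcomm : ∀ y ∈ X ⊓ C, ∀ r ∈ R, r ∈ (S : Subgroup G) → y * r = r * y := by
    intro y hy r hr hrS
    set c : G := y * r * y⁻¹ * r⁻¹ with hc
    have hcR : c ∈ R := R.mul_mem (coreIn_conj_mem hy.2 hr) (R.inv_mem hr)
    have hcX : c ∈ X := by
      have h1 : r * y⁻¹ * r⁻¹ ∈ X := conj_mem_of_le_normalizer hSX hrS (X.inv_mem hy.1)
      have : c = y * (r * y⁻¹ * r⁻¹) := by rw [hc]; group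
      rw [this]
      exact X.mul_mem hy.1 h1
    have hc1 : c = 1 := eq_one_of_mem_pGroup_of_coprime hRp hcR (hcop c hcX)
    have : y * r = c * (r * y) := by rw [hc]; group
    rw [this, hc1, one_mul]
  -- `R S₀` is a 2-group, so it is no larger than `S`
  have hS₀p : IsPGroup 2 S₀ := S.isPGroup'.to_inf_left
  have hnorm : S₀ ≤ Subgroup.normalizer ((R : Subgroup G) : Set G) :=
    le_normalizer_of_forall_conj (fun l hl r hr => coreIn_conj_mem hl.2 hr)
  have hP₁ : IsPGroup 2 ↥(R ⊔ S₀) := hRp.to_sup_of_normal_left' hS₀p hnorm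
  have hcard1 : Nat.card ↥(R ⊔ S₀) ≤ Nat.card (S : Subgroup G) := by
    obtain ⟨Q, hQ⟩ := hP₁.exists_le_sylow
    calc Nat.card ↥(R ⊔ S₀) ≤ Nat.card (Q : Subgroup G) := Subgroup.card_le_of_le hQ
      _ = Nat.card (S : Subgroup G) := by
        rw [Sylow.card_eq_multiplicity, Sylow.card_eq_multiplicity]
  have hS₀pos : 0 < Nat.card S₀ := Nat.card_pos
  have hrel1 : Nat.card S₀ * S₀.relIndex (R ⊔ S₀) = Nat.card ↥(R ⊔ S₀) := by
    have := Subgroup.relIndex_mul_relIndex ⊥ S₀ (R ⊔ S₀) bot_le le_sup_right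
    rwa [Subgroup.relIndex_bot_left, Subgroup.relIndex_bot_left] at this
  have hrel2 : S₀.relIndex (R ⊔ S₀) ≤ 2 := by
    have h1 : Nat.card S₀ * S₀.relIndex (R ⊔ S₀) ≤ Nat.card S₀ * 2 := by
      rw [hrel1, mul_comm]
      exact hcard1.trans hidx
    exact Nat.le_of_mul_le_mul_left h1 hS₀pos
  have hrel3 : S₀.relIndex R ≤ 2 := by
    refine (Subgroup.relIndex_le_of_le_right le_sup_left ?_).trans hrel2
    intro h0
    rw [h0, mul_zero] at hrel1
    exact (Nat.card_pos (α := ↥(R ⊔ S₀))).ne' hrel1.symm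
  have hrel0 : S₀.relIndex R ≠ 0 := by
    unfold Subgroup.relIndex
    exact Subgroup.index_ne_zero_of_finite
  -- two elements of `R` outside `S` differ by an element of `S`
  have hkey : ∀ r ∈ R, ∀ r' ∈ R, r ∉ (S : Subgroup G) → r' ∉ (S : Subgroup G) →
      r⁻¹ * r' ∈ (S : Subgroup G) := by
    intro r hr r' hr' hrS hr'S
    have hcases : S₀.relIndex R = 1 ∨ S₀.relIndex R = 2 := by omega
    rcases hcases with h1 | h2
    · exfalso
      exact hrS ((Subgroup.relIndex_eq_one.mp h1) hr).1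
    · have h2' : (S₀.subgroupOf R).index = 2 := h2
      have hmem := Subgroup.mul_mem_iff_of_index_two h2' (a := (⟨r, hr⟩ : R)⁻¹) (b := ⟨r', hr'⟩)
      have ha : (⟨r, hr⟩ : R)⁻¹ ∉ S₀.subgroupOf R := by
        intro h
        rw [Subgroup.inv_mem_iff, Subgroup.mem_subgroupOf] at h
        exact hrS h.1
      have hb : (⟨r', hr'⟩ : R) ∉ S₀.subgroupOf R := by
        intro h
        rw [Subgroup.mem_subgroupOf] at h
        exact hr'S h.1
      have : (⟨r, hr⟩ : R)⁻¹ * ⟨r', hr'⟩ ∈ S₀.subgroupOf R :=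
        hmem.mpr ⟨fun h => absurd h ha, fun h => absurd h hb⟩
      rw [Subgroup.mem_subgroupOf] at this
      exact this.1
  -- hence `Y` centralizes `R`
  rw [eq_bot_iff]
  intro y hy
  rw [Subgroup.mem_bot]
  have hyR : y ∈ R := by
    apply hC y hy.2
    intro r hr
    by_cases hrS : r ∈ (S : Subgroup G)
    · exact hcomm y hy r hr hrS
    · have hr' : y * r * y⁻¹ ∈ R := coreIn_conj_mem hy.2 hr
      have hr'S : y * r * y⁻¹ ∉ (S : Subgroup G) := by
        intro h
        have h1 := hcomm y hy _ hr' h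
        apply hrS
        have : r = y * r * y⁻¹ := by
          calc r = y⁻¹ * ((y * r * y⁻¹) * y) := by group
            _ = y⁻¹ * (y * (y * r * y⁻¹)) := by rw [h1]
            _ = y * r * y⁻¹ := by group
        rw [this]
        exact h
      have hzS := hkey r hr _ hr' hrS hr'S
      have hzR : r⁻¹ * (y * r * y⁻¹) ∈ R := R.mul_mem (R.inv_mem hr) hr'
      have hcz : Commute y (r⁻¹ * (y * r * y⁻¹)) := hcomm y hy _ hzR hzS
      have hconj : y * r * y⁻¹ = r * (r⁻¹ * (y * r * y⁻¹)) := by group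
      have hzp : ∃ k : ℕ, (r⁻¹ * (y * r * y⁻¹)) ^ (2 ^ k) = 1 := by
        obtain ⟨k, hk⟩ := hRp ⟨_, hzR⟩
        exact ⟨k, by simpa using congrArg Subtype.val hk⟩
      have hz1 : r⁻¹ * (y * r * y⁻¹) = 1 :=
        eq_one_of_conj_eq_mul hconj hcz hzp (hcop y hy.1)
      rw [hz1, mul_one] at hconj
      calc y * r = (y * r * y⁻¹) * y := by group
        _ = r * y := by rw [hconj]
  exact eq_one_of_mem_pGroup_of_coprime hRp hyR (hcop y hy.1)

end kill

section pick

/-- In a finite 2-group `P`, a normal subgroup `E` of exponent 2 and order `> 2` contains a central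
involution `z` of `P` and an involution `u ∉ ⟨z⟩` all of whose conjugates lie in `{u, zu}`. -/
theorem exists_central_and_almost_central {P : Type*} [Group P] [Finite P] (hP : IsPGroup 2 P)
    (E : Subgroup P) [hEn : E.Normal] (hE2 : ∀ e ∈ E, e * e = 1) (hcard : 2 < Nat.card E) :
    ∃ z u : P, z ∈ E ∧ u ∈ E ∧ z ≠ 1 ∧ (∀ s : P, s * z = z * s) ∧ u ≠ 1 ∧ u ≠ z ∧
      ∀ s : P, s * u * s⁻¹ = u ∨ s * u * s⁻¹ = z * u := by
  have hEne : E ≠ ⊥ := by
    intro h
    rw [h, Subgroup.card_bot] at hcard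
    omega
  obtain ⟨z, hzE, hz1, hzc⟩ := Cfsg.Agent.Helper25.exists_mem_center_of_normal_ne_bot hP E hEne
  have hzc' : ∀ s : P, s * z = z * s := fun s => Subgroup.mem_center_iff.mp hzc s
  have hzz : z * z = 1 := hE2 z hzE
  -- powers of `z`
  have hzpow : ∀ x ∈ Subgroup.zpowers z, x = 1 ∨ x = z := by
    rintro _ ⟨k, rfl⟩
    rcases Int.even_or_odd k with ⟨m, hm⟩ | ⟨m, hm⟩
    · left
      show z ^ k = 1
      rw [hm, ← two_mul, zpow_mul, zpow_two, hzz, one_zpow]
    · right
      show z ^ k = z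
      rw [hm, zpow_add, zpow_mul, zpow_two, hzz, one_zpow, one_mul, zpow_one]
  have hZn : (Subgroup.zpowers z).Normal := by
    constructor
    intro n hn g
    have hnc : n ∈ Subgroup.center P := (Subgroup.zpowers_le.mpr hzc) hn
    have : g * n * g⁻¹ = n := by
      rw [Subgroup.mem_center_iff.mp hnc g]; group
    rw [this]; exact hn
  have hZcard : Nat.card (Subgroup.zpowers z) ≤ 2 := by
    rw [Nat.card_zpowers]
    apply Nat.le_of_dvd (by norm_num)
    apply orderOf_dvd_of_pow_eq_one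
    rw [pow_two, hzz]
  -- pass to the quotient
  have hEbar_n : (E.map (QuotientGroup.mk' (Subgroup.zpowers z))).Normal :=
    hEn.map _ (QuotientGroup.mk'_surjective _)
  have hEbar_ne : E.map (QuotientGroup.mk' (Subgroup.zpowers z)) ≠ ⊥ := by
    intro h
    have hle : E ≤ Subgroup.zpowers z := by
      intro e he
      have : (QuotientGroup.mk' (Subgroup.zpowers z)) e ∈
          E.map (QuotientGroup.mk' (Subgroup.zpowers z)) := Subgroup.mem_map_of_mem _ he
      rw [h, Subgroup.mem_bot, QuotientGroup.mk'_apply, QuotientGroup.eq_one_iff] at this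
      exact this
    have := Subgroup.card_le_of_le hle
    omega
  have hQ : IsPGroup 2 (P ⧸ Subgroup.zpowers z) := hP.to_quotient _
  obtain ⟨ū, hūE, hū1, hūc⟩ :=
    Cfsg.Agent.Helper25.exists_mem_center_of_normal_ne_bot hQ _ hEbar_ne
  obtain ⟨u, huE, rfl⟩ := hūE
  have huZ : u ∉ Subgroup.zpowers z := by
    intro h
    apply hū1
    rw [QuotientGroup.mk'_apply, QuotientGroup.eq_one_iff]
    exact h
  refine ⟨z, u, hzE, huE, hz1, hzc', ?_, ?_, ?_⟩
  · intro h
    exact huZ (h ▸ Subgroup.one_mem _)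
  · intro h
    exact huZ (h ▸ Subgroup.mem_zpowers z)
  · intro s
    have hmem : s * u * s⁻¹ * u⁻¹ ∈ Subgroup.zpowers z := by
      rw [← QuotientGroup.eq_one_iff]
      have h1 := Subgroup.mem_center_iff.mp hūc ((QuotientGroup.mk' (Subgroup.zpowers z)) s)
      have h2 : ((s * u * s⁻¹ * u⁻¹ : P) : P ⧸ Subgroup.zpowers z) =
          (QuotientGroup.mk' (Subgroup.zpowers z)) s * (QuotientGroup.mk' (Subgroup.zpowers z)) u *
            ((QuotientGroup.mk' (Subgroup.zpowers z)) s)⁻¹ *
            ((QuotientGroup.mk' (Subgroup.zpowers z)) u)⁻¹ := by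
        simp
      rw [h2, h1]
      group
    rcases hzpow _ hmem with h | h
    · left
      calc s * u * s⁻¹ = (s * u * s⁻¹ * u⁻¹) * u := by group
        _ = u := by rw [h, one_mul]
    · right
      calc s * u * s⁻¹ = (s * u * s⁻¹ * u⁻¹) * u := by group
        _ = z * u := by rw [h]

end pick

end Cfsg.Agent.Helper54.CT
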