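import Cfsg.Agent.Helper78.HKDefs
import Cfsg.Agent.Helper80.HK_KH3

/-!
# Harris–Knörr (S4674), piece L1: covering is compatible with block induction

`covers_of_induced_core` takes the two pieces KH3 (`omega_restrict_of_constituent_inf`) and C1
(`isInducedBlockIn_iff_of_equiv`) as explicit hypotheses, in the instantiated form needed.
-/

set_option autoImplicit false
set_option linter.unusedSectionVars false

namespace Cfsg.Agent.Helper54.HKL1

open Cfsg Cfsg.Agent.Helper78 Cfsg.Agent.Helper16 Cfsg.Agent.Helper15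

universe u

variable {G : Type u} [Group G] [Fintype G] {M : Ideal AlgInt} {p : ℕ}

variable (N : Subgroup G) [hN : N.Normal] [Fintype N]

/-- The isomorphism `↥(H ⊓ N) ≃* ↥((H ⊓ N).subgroupOf N)`. -/
noncomputable def tauInf (H : Subgroup G) : ↥(H ⊓ N) ≃* ↥((H ⊓ N).subgroupOf N) :=
  (Subgroup.subgroupOfEquivOfLe (inf_le_right : H ⊓ N ≤ N)).symm

theorem tauInf_coe (H : Subgroup G) (x : ↥(H ⊓ N)) :
    (((tauInf N H x : ↥((H ⊓ N).subgroupOf N)) : ↥N) : G) = (x : G) := rfl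

/-- Core of L1 with KH3 and C1 as hypotheses (instantiated). -/
theorem covers_of_induced_core [M.IsPrime] (H : Subgroup G) [Fintype ↥H] [Fintype ↥(H ⊓ N)]
    [Fintype ↥((H ⊓ N).subgroupOf N)]
    {c : Set (IrrCharacter ↥H)} {B : Set (IrrCharacter G)} (hind : IsInducedBlock M H c B)
    {e : Set (IrrCharacter ↥(H ⊓ N))} {d : Set (IrrCharacter ↥N)}
    (hed' : IsInducedBlock M ((H ⊓ N).subgroupOf N) (irrMap (tauInf N H) '' e) d)
    {ψ : IrrCharacter ↥H} (hψ : ψ ∈ c) {ξ : IrrCharacter ↥(H ⊓ N)} (hξ : ξ ∈ e)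
    (hKH3 : ∀ {f : G → ℂ}, IsClassFunction G f → (∀ g : G, g ∉ N → f g = 0) →
      omega (ψ : ↥H → ℂ) (fun h : ↥H => f h) =
        omega (ξ : ↥(H ⊓ N) → ℂ) (fun l : ↥(H ⊓ N) => f l)) :
    ∃ χ ∈ B, ∃ θ ∈ d, classInner (fun n : N => (χ : G → ℂ) n) (θ : N → ℂ) ≠ 0 := by
  classical
  have hMp : M.IsPrime := inferInstance
  have hd : IsPBlock M d := hed'.2.1
  have hB : IsPBlock M B := hind.2.1
  obtain ⟨χ, hχ⟩ := isPBlock_nonempty hMp hB
  obtain ⟨θ, hθ⟩ := isPBlock_nonempty hMp hd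
  -- the idempotent
  set O : Set (IrrCharacter ↥N) := conjUnion N d with hO
  set E : ↥N → ℂ := blockCoeff O with hE
  set z : G → ℂ := extendByZero N E with hz
  have hzcl : IsClassFunction G z :=
    isClassFunction_extendByZero N (blockCoeff_conj_of_gStable N (gStable_conjUnion N d))
  have hER : ∀ n : ↥N, MemLocalRing M (E n) := memLocalRing_blockCoeff_conjUnion N hd
  have hzR : ∀ g : G, MemLocalRing M (z g) := memLocalRing_extendByZero N hER
  have hzN : ∀ g : G, g ∉ N → z g = 0 := fun g hg => extendByZero_of_not_mem N E hg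
  -- (1)
  have h1 : MemLocalIdeal M (omega (ψ : ↥H → ℂ) (fun h : ↥H => z h) - omega (χ : G → ℂ) z) :=
    omega_restrict_sub_memLocalIdeal H hind hψ hχ hzcl hzR
  -- (2)
  have h2 : omega (ψ : ↥H → ℂ) (fun h : ↥H => z h) =
      omega (ξ : ↥(H ⊓ N) → ℂ) (fun l : ↥(H ⊓ N) => z l) := hKH3 hzcl hzN
  -- (3)
  have hEcl : IsClassFunction ↥N E := isClassFunction_blockCoeff O
  have h3 : MemLocalIdeal M
      (omega (irrMap (tauInf N H) ξ : ↥((H ⊓ N).subgroupOf N) → ℂ)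
        (fun y : ↥((H ⊓ N).subgroupOf N) => E y) - omega (θ : ↥N → ℂ) E) :=
    omega_restrict_sub_memLocalIdeal ((H ⊓ N).subgroupOf N) hed'
      (Set.mem_image_of_mem _ hξ) hθ hEcl hER
  have h3' : omega (irrMap (tauInf N H) ξ : ↥((H ⊓ N).subgroupOf N) → ℂ)
        (fun y : ↥((H ⊓ N).subgroupOf N) => E y) =
      omega (ξ : ↥(H ⊓ N) → ℂ) (fun l : ↥(H ⊓ N) => z l) := by
    rw [Helper78.omega_irrMap]
    congr 1
    funext l
    show E ((tauInf N H l : ↥((H ⊓ N).subgroupOf N)) : ↥N) = extendByZero N E (l : G)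
    rw [extendByZero_of_mem N E (show (l : G) ∈ N from l.2.2)]
    rfl
  rw [h3'] at h3
  -- (4)
  have h4 : omega (θ : ↥N → ℂ) E = 1 := by
    rw [hE, omega_blockCoeff O θ, if_pos (subset_conjUnion N d hθ)]
  rw [h4] at h3
  rw [h2] at h1
  -- conclusion
  have h5 : MemLocalIdeal M (omega (χ : G → ℂ) z - 1) := by
    have := memLocalIdeal_sub h3 h1
    have heq : (omega (ξ : ↥(H ⊓ N) → ℂ) (fun l : ↥(H ⊓ N) => z l) - 1) -
        (omega (ξ : ↥(H ⊓ N) → ℂ) (fun l : ↥(H ⊓ N) => z l) - omega (χ : G → ℂ) z) =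
        omega (χ : G → ℂ) z - 1 := by ring
    rwa [heq] at this
  have h6 : LiesOver N (χ : G → ℂ) O := by
    by_contra hno
    rw [hz, hE, omega_ext_blockCoeff N χ (gStable_conjUnion N d), if_neg hno, zero_sub] at h5
    exact not_memLocalIdeal_one (by simpa using Helper16.memLocalIdeal_neg h5)
  obtain ⟨θ', hθ', hne⟩ := liesOver_of_liesOver_conjUnion N (irr_isClassFunction χ) h6
  exact ⟨χ, hχ, θ', hθ', hne⟩

/-- L1 with C1 (`isInducedBlockIn_iff_of_equiv`, instantiated) as a hypothesis. -/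
theorem covers_of_induced_of_C1 [Fact p.Prime] (hM : IsPModular p M) (H : Subgroup G)
    [Fintype ↥(H ⊓ N)]
    {c : Set (IrrCharacter ↥H)} {B : Set (IrrCharacter G)} (hind : IsInducedBlock M H c B)
    {e : Set (IrrCharacter ↥(H ⊓ N))} {d : Set (IrrCharacter ↥N)}
    (hed' : IsInducedBlock M ((H ⊓ N).subgroupOf N) (irrMap (tauInf N H) '' e) d)
    (hcov : ∃ ψ ∈ c, ∃ ξ ∈ e, classInner
      (fun l : ↥(H ⊓ N) => (ψ : ↥H → ℂ) (Subgroup.inclusion inf_le_left l))
      (ξ : ↥(H ⊓ N) → ℂ) ≠ 0) :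
    ∃ χ ∈ B, ∃ θ ∈ d, classInner (fun n : N => (χ : G → ℂ) n) (θ : N → ℂ) ≠ 0 := by
  classical
  have hMp : M.IsPrime := IsPModular.isPrime hM
  have : Fintype ↥H := Fintype.ofFinite _
  have : Fintype ↥((H ⊓ N).subgroupOf N) := Fintype.ofFinite _
  obtain ⟨ψ, hψ, ξ, hξ, hne⟩ := hcov
  exact covers_of_induced_core N H hind hed' hψ hξ
    (fun hf hfN => Cfsg.Agent.Helper80.HK.omega_restrict_of_constituent_inf N H ψ ξ hne hf hfN)

end Cfsg.Agent.Helper54.HKL1
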