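import Cfsg.Agent.Helper54.HK_L1
import Cfsg.Agent.Helper93.HK_C1

/-!
# Harris–Knörr (S4674), piece L1, final form (helper78's WANTED board #3520)
-/

set_option autoImplicit false
set_option linter.unusedSectionVars false

namespace Cfsg.Agent.Helper54.HKL1

open Cfsg Cfsg.Agent.Helper78 Cfsg.Agent.Helper16 Cfsg.Agent.Helper15

universe u

variable {G : Type u} [Group G] [Fintype G] {M : Ideal AlgInt} {p : ℕ}

variable (N : Subgroup G) [hN : N.Normal] [Fintype N]

/-- **Piece L1**: covering is compatible with block induction. -/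
theorem covers_of_induced [Fact p.Prime] (hM : IsPModular p M) (H : Subgroup G)
    [Fintype ↥(H ⊓ N)] {c : Set (IrrCharacter ↥H)} {B : Set (IrrCharacter G)}
    (hind : IsInducedBlock M H c B) {e : Set (IrrCharacter ↥(H ⊓ N))}
    {d : Set (IrrCharacter ↥N)} (hed : IsInducedBlockIn M N (H ⊓ N) e d)
    (hcov : ∃ ψ ∈ c, ∃ ξ ∈ e, classInner
      (fun l : ↥(H ⊓ N) => (ψ : ↥H → ℂ) (Subgroup.inclusion inf_le_left l))
      (ξ : ↥(H ⊓ N) → ℂ) ≠ 0) :
    ∃ χ ∈ B, ∃ θ ∈ d, classInner (fun n : N => (χ : G → ℂ) n) (θ : N → ℂ) ≠ 0 :=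
  covers_of_induced_of_C1 N hM H hind
    ((Cfsg.Agent.Helper93.HKC1.isInducedBlockIn_iff_of_equiv ((H ⊓ N).subgroupOf N)
      (tauInf N H) (tauInf_coe N H)).mp hed) hcov

end Cfsg.Agent.Helper54.HKL1
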