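import Mathlib
import Cfsg.Agent.Helper7.M11Out
import Cfsg.Agent.Helper7.M12Chain

/-!
# Element orders in the concrete Mathieu group `M₁₁` (for S3592)

Generic part: the order of a permutation given by a table, computed on the table, and a one-pass
tally of the values of a function on a list.
-/

set_option autoImplicit false

namespace Cfsg.Agent.Helper54.M11Nse

open Cfsg Cfsg.Agent.Helper7

/-- Search for the first `k` (from the current exponent on) with `l ^ k = idT`; `0` if the fuel
runs out. -/
def ordAux (l : List ℕ) : ℕ → List ℕ → ℕ → ℕ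
  | 0, _, _ => 0
  | fuel + 1, cur, k => if cur == idT then k else ordAux l fuel (compT l cur) (k + 1)

/-- The order of a table (`0` if it is larger than `12`). -/
def ordT (l : List ℕ) : ℕ := ordAux l 12 (powT l 1) 1

theorem ordAux_spec (l : List ℕ) : ∀ (fuel k m : ℕ), 0 < k →
    (∀ j, 0 < j → j < k → powT l j ≠ idT) → ordAux l fuel (powT l k) k = m → m ≠ 0 →
    powT l m = idT ∧ 0 < m ∧ ∀ j, 0 < j → j < m → powT l j ≠ idT := by
  intro fuel
  induction fuel with
  | zero =>
    intro k m _ _ h hm
    rw [ordAux] at h
    exact absurd h.symm hm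
  | succ fuel ih =>
    intro k m hk hlt h hm
    rw [ordAux] at h
    split_ifs at h with hc
    · subst h
      exact ⟨by simpa using hc, hk, hlt⟩
    · have hc' : powT l k ≠ idT := by simpa using hc
      refine ih (k + 1) m (Nat.succ_pos k) ?_ (by rw [powT]; exact h) hm
      intro j hj hjk
      rcases Nat.lt_succ_iff_lt_or_eq.mp hjk with h' | h'
      · exact hlt j hj h'
      · rw [h']; exact hc'

theorem ordAux_lt (l : List ℕ) : ∀ (fuel : ℕ) (cur : List ℕ) (k : ℕ),
    ordAux l fuel cur k < k + fuel ∨ ordAux l fuel cur k = 0 := by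
  intro fuel
  induction fuel with
  | zero => intro cur k; right; rw [ordAux]
  | succ fuel ih =>
    intro cur k
    rw [ordAux]
    split_ifs with hc
    · left; omega
    · rcases ih (compT l cur) (k + 1) with h | h
      · left; omega
      · right; exact h

theorem ordT_lt (l : List ℕ) : ordT l < 13 := by
  rcases ordAux_lt l 12 (powT l 1) 1 with h | h
  · exact h
  · rw [ordT, h]; norm_num

theorem orderOf_eq_ordT {l : List ℕ} {g : Equiv.Perm GolayPt} (h : IsTable l g)
    (hne : ordT l ≠ 0) : orderOf g = ordT l := by
  obtain ⟨h1, h2, h3⟩ := ordAux_spec l 12 1 (ordT l) Nat.one_pos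
    (fun j hj hj1 => absurd hj1 (by omega)) rfl hne
  rw [orderOf_eq_iff h2]
  refine ⟨((h.pow (ordT l)).eq_idT_iff).mp h1, fun m hm hm0 hgm => ?_⟩
  exact h3 m hm0 hm (((h.pow m).eq_idT_iff).mpr hgm)

/-- Add one to the `k`-th counter. -/
def bump : ℕ → List ℕ → List ℕ
  | _, [] => []
  | 0, c :: cs => (c + 1) :: cs
  | k + 1, c :: cs => c :: bump k cs

theorem bump_length : ∀ (k : ℕ) (cs : List ℕ), (bump k cs).length = cs.length
  | 0, [] => rfl
  | _ + 1, [] => rfl
  | 0, c :: cs => by simp [bump]
  | k + 1, c :: cs => by simp [bump, bump_length k cs]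

theorem bump_getD : ∀ (k n : ℕ) (cs : List ℕ), k < cs.length →
    (bump k cs).getD n 0 = cs.getD n 0 + if n = k then 1 else 0
  | _, _, [], h => by simp at h
  | 0, 0, c :: cs, _ => by simp [bump]
  | 0, n + 1, c :: cs, _ => by simp [bump]
  | k + 1, 0, c :: cs, _ => by simp [bump]
  | k + 1, n + 1, c :: cs, h => by
    have := bump_getD k n cs (by simpa using h)
    simpa [bump] using this

/-- One-pass tally of the values (below `13`) of `f` on a list. -/
def tally (f : List ℕ → ℕ) : List (List ℕ) → List ℕ
  | [] => List.replicate 13 0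
  | l :: ls => bump (f l) (tally f ls)

theorem tally_length (f : List ℕ → ℕ) : ∀ ls : List (List ℕ), (tally f ls).length = 13
  | [] => by simp [tally]
  | l :: ls => by rw [tally, bump_length, tally_length f ls]

theorem tally_getD (f : List ℕ → ℕ) (hf : ∀ l, f l < 13) (n : ℕ) :
    ∀ ls : List (List ℕ), (tally f ls).getD n 0 = (ls.map f).count n
  | [] => by
    show (List.replicate 13 0).getD n 0 = _
    rw [List.getD_eq_getElem?_getD, List.getElem?_replicate]
    split_ifs <;> rfl
  | l :: ls => by
    rw [tally, bump_getD _ _ _ (by rw [tally_length]; exact hf l), tally_getD f hf n ls,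
      List.map_cons, List.count_cons]
    congr 1
    by_cases h : n = f l
    · rw [if_pos h, if_pos (by rw [h]; exact beq_self_eq_true _)]
    · rw [if_neg h, if_neg (by intro h'; exact h (eq_of_beq h').symm)]

/-- Check that the orders of the tables of `ls` are the entries of `os`. -/
def chkOrds : List (List ℕ) → List ℕ → Bool
  | [], [] => true
  | l :: ls, o :: os => Nat.beq (ordT l) o && chkOrds ls os
  | _, _ => false

theorem map_ordT_of_chkOrds : ∀ (ls : List (List ℕ)) (os : List ℕ), chkOrds ls os = true →
    ls.map ordT = os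
  | [], [], _ => rfl
  | [], _ :: _, h => by simp [chkOrds] at h
  | _ :: _, [], h => by simp [chkOrds] at h
  | l :: ls, o :: os, h => by
    rw [chkOrds, Bool.and_eq_true] at h
    rw [List.map_cons, Nat.eq_of_beq_eq_true h.1, map_ordT_of_chkOrds ls os h.2]

theorem map_drop_of_chk {ls : List (List ℕ)} {a n b : ℕ} {os rest : List ℕ}
    (h : chkOrds ((ls.drop a).take n) os = true) (hb : a + n = b)
    (hrest : (ls.drop b).map ordT = rest) :
    (ls.drop a).map ordT = os ++ rest := by
  have h1 := map_ordT_of_chkOrds _ _ h
  subst hb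
  rw [← List.take_append_drop n (ls.drop a), List.map_append, h1, List.drop_drop, hrest]

end Cfsg.Agent.Helper54.M11Nse
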