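import Mathlib
import Cfsg.Agent.Helper17.CountOrder

/-!
# S3592, piece (A1): the number of Sylow 11-subgroups from the number of elements of order 11
-/

set_option autoImplicit false

namespace Cfsg.Agent.Helper54.M11Nse

open Cfsg.Agent.Helper17

/-- In a group of order `7920`, if the number of elements of order `11` is none of `10`, `120`,
`450`, then there are `144` Sylow 11-subgroups. -/
theorem card_sylow11_of_count {G : Type*} [Group G] [Finite G] (hG : Nat.card G = 7920)
    [Fact (Nat.Prime 11)]
    (h10 : Nat.card {g : G // orderOf g = 11} ≠ 10)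
    (h120 : Nat.card {g : G // orderOf g = 11} ≠ 120)
    (h450 : Nat.card {g : G // orderOf g = 11} ≠ 450) :
    Nat.card (Sylow 11 G) = 144 := by
  have hcard11 : Nat.card G = 11 ^ 1 * 720 := hG.trans (by norm_num)
  have hP : ∀ P : Sylow 11 G, Nat.card (P : Subgroup G) = 11 := by
    intro P
    have := card_sylow_subgroup_of_card_eq (p := 11) (k := 1) (m := 720) hcard11 (by norm_num) P
    simpa using this
  have hcount := card_orderOf_eq_prime (G := G) (p := 11) hP
  have hmod : Nat.card (Sylow 11 G) ≡ 1 [MOD 11] := card_sylow_modEq_one 11 G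
  have hdvd : Nat.card (Sylow 11 G) ∣ 720 := card_sylow_dvd_of_card_eq hcard11 (by norm_num)
  have key : ∀ n ∈ Nat.divisors 720, n % 11 = 1 → n = 1 ∨ n = 12 ∨ n = 45 ∨ n = 144 := by
    decide +kernel
  have hn11 := key _ (Nat.mem_divisors.mpr ⟨hdvd, by norm_num⟩) hmod
  rcases hn11 with h | h | h | h
  · rw [h] at hcount; exact absurd hcount h10
  · rw [h] at hcount; exact absurd hcount h120
  · rw [h] at hcount; exact absurd hcount h450
  · exact h

end Cfsg.Agent.Helper54.M11Nse
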