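import Mathlib
import Cfsg.Agent.Helper54.M11NseA

/-!
# Element orders in the concrete Mathieu group `M₁₁` (for S3592): kernel computation, part 1

The orders of the tables number `0` to `1979` of helper7's `m11Tabs`, checked in chunks of
`220` tables (one kernel computation each, to bound the memory).
-/

set_option autoImplicit false

namespace Cfsg.Agent.Helper54.M11Nse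

open Cfsg Cfsg.Agent.Helper7

/-- Orders of the tables number `0` to `219` of `m11Tabs`. -/
def m11Ords0 : List ℕ := [
  1, 4, 4, 4, 2, 4, 4, 4, 4, 4, 2, 4, 4, 4, 3, 4, 4, 4, 4, 4, 4, 3, 4, 2, 4, 2, 4, 3, 4, 4, 4, 4,
  4, 4, 2, 4, 4, 4, 3, 4, 4, 3, 4, 2, 4, 4, 4, 4, 2, 4, 4, 4, 3, 4, 4, 4, 4, 4, 4, 4, 4, 2, 4, 3,
  2, 4, 4, 4, 3, 4, 4, 4, 2, 2, 8, 2, 2, 8, 8, 8, 8, 4, 5, 8, 4, 3, 5, 4, 4, 4, 4, 8, 8, 5, 3, 5,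
  5, 4, 4, 3, 5, 8, 8, 4, 8, 4, 5, 8, 4, 4, 5, 3, 4, 5, 4, 5, 3, 8, 8, 4, 3, 5, 8, 5, 4, 8, 4, 4,
  4, 4, 5, 8, 8, 4, 5, 3, 3, 5, 8, 5, 4, 8, 4, 4, 4, 3, 4, 2, 4, 4, 4, 4, 8, 8, 5, 4, 4, 5, 3, 3,
  8, 8, 2, 8, 8, 3, 4, 3, 5, 5, 4, 2, 5, 8, 4, 8, 8, 4, 5, 8, 4, 3, 5, 4, 3, 5, 4, 3, 5, 4, 8, 8,
  2, 5, 4, 5, 5, 8, 4, 8, 8, 4, 5, 8, 8, 5, 4, 4, 4, 5, 8, 4, 5, 8, 8, 4, 4, 8, 5, 4]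

/-- Orders of the tables number `220` to `439` of `m11Tabs`. -/
def m11Ords1 : List ℕ := [
  8, 3, 3, 5, 4, 4, 8, 5, 5, 8, 4, 8, 5, 5, 8, 5, 2, 4, 8, 4, 4, 4, 5, 8, 8, 3, 3, 5, 2, 3, 8, 3,
  4, 8, 8, 8, 4, 8, 5, 4, 8, 3, 5, 4, 8, 4, 5, 4, 8, 2, 5, 5, 4, 3, 4, 2, 4, 4, 4, 4, 8, 8, 5, 4,
  8, 5, 4, 4, 8, 4, 5, 4, 8, 2, 5, 5, 4, 4, 8, 5, 5, 4, 8, 8, 2, 5, 8, 5, 5, 4, 8, 4, 4, 4, 4, 4,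
  4, 2, 4, 3, 3, 5, 8, 5, 4, 8, 4, 4, 4, 8, 3, 4, 8, 5, 5, 3, 8, 8, 4, 8, 8, 3, 2, 3, 4, 4, 8, 5,
  5, 4, 8, 8, 8, 8, 3, 4, 4, 5, 5, 3, 2, 5, 8, 5, 5, 4, 8, 4, 8, 8, 3, 4, 4, 5, 5, 3, 8, 4, 5, 4,
  8, 5, 5, 2, 2, 3, 8, 3, 4, 8, 8, 8, 4, 8, 5, 4, 8, 3, 5, 4, 5, 5, 4, 4, 4, 8, 8, 8, 4, 2, 4, 3,
  4, 4, 4, 4, 8, 4, 3, 8, 4, 5, 5, 3, 5, 5, 4, 4, 4, 8, 8, 8, 4, 4, 3, 8, 8, 5, 5, 3]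

/-- Orders of the tables number `440` to `659` of `m11Tabs`. -/
def m11Ords2 : List ℕ := [
  3, 4, 8, 2, 3, 8, 8, 8, 4, 5, 4, 5, 3, 8, 8, 4, 4, 4, 3, 4, 4, 4, 2, 4, 5, 5, 8, 4, 4, 8, 4, 8,
  8, 4, 5, 4, 8, 2, 5, 5, 8, 4, 2, 4, 8, 5, 5, 5, 5, 5, 4, 3, 3, 4, 8, 8, 8, 4, 5, 8, 8, 5, 4, 4,
  4, 3, 8, 3, 2, 8, 8, 8, 8, 4, 5, 4, 8, 2, 5, 5, 4, 8, 5, 4, 8, 3, 3, 5, 5, 4, 4, 5, 4, 8, 8, 8,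
  4, 8, 5, 8, 4, 5, 5, 2, 5, 3, 8, 5, 3, 8, 4, 4, 3, 4, 4, 4, 2, 4, 4, 4, 8, 4, 5, 8, 8, 4, 4, 5,
  3, 5, 4, 5, 4, 4, 8, 8, 8, 4, 2, 4, 8, 5, 5, 5, 5, 4, 8, 3, 5, 4, 4, 8, 3, 3, 4, 5, 5, 8, 8, 4,
  8, 4, 4, 8, 8, 5, 5, 4, 5, 5, 8, 4, 4, 8, 8, 4, 8, 4, 5, 4, 8, 5, 5, 2, 8, 8, 3, 8, 8, 4, 3, 2,
  3, 4, 4, 4, 2, 4, 4, 4, 8, 4, 5, 8, 4, 3, 3, 5, 2, 3, 8, 3, 4, 8, 8, 8, 8, 4, 5, 4]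

/-- Orders of the tables number `660` to `879` of `m11Tabs`. -/
def m11Ords3 : List ℕ := [
  8, 5, 5, 2, 8, 4, 3, 8, 4, 5, 5, 3, 4, 5, 8, 4, 5, 8, 4, 8, 4, 8, 5, 8, 4, 2, 5, 5, 3, 5, 4, 3,
  5, 4, 8, 8, 2, 4, 4, 4, 3, 4, 4, 4, 8, 8, 4, 4, 8, 5, 5, 4, 4, 5, 8, 5, 3, 8, 4, 4, 11, 5, 8, 4,
  8, 6, 11, 5, 3, 6, 3, 3, 6, 3, 6, 6, 4, 11, 6, 8, 5, 11, 5, 8, 6, 8, 5, 11, 5, 11, 4, 8, 6, 11,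
  5, 8, 5, 8, 4, 11, 4, 11, 5, 8, 5, 8, 6, 11, 6, 11, 4, 8, 5, 11, 5, 8, 8, 5, 11, 4, 11, 6, 8, 5,
  5, 11, 5, 8, 4, 11, 6, 8, 3, 8, 8, 4, 4, 5, 4, 5, 3, 5, 5, 11, 11, 8, 8, 11, 8, 11, 6, 8, 11, 5,
  5, 4, 8, 11, 4, 6, 11, 6, 8, 8, 5, 6, 6, 4, 11, 5, 5, 11, 11, 8, 3, 11, 5, 8, 11, 5, 11, 4, 11,
  8, 8, 8, 6, 6, 11, 6, 5, 4, 6, 11, 3, 6, 5, 6, 5, 6, 8, 8, 5, 5, 6, 8, 8, 8, 2, 6, 8, 6, 8, 6,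
  6, 6, 8, 8, 2, 8]

/-- Orders of the tables number `880` to `1099` of `m11Tabs`. -/
def m11Ords4 : List ℕ := [
  6, 8, 8, 8, 6, 6, 8, 2, 8, 6, 6, 6, 8, 8, 2, 8, 8, 2, 2, 2, 8, 8, 2, 8, 8, 6, 6, 6, 8, 8, 2, 8,
  6, 8, 8, 8, 6, 2, 8, 6, 2, 8, 8, 8, 6, 6, 8, 6, 6, 8, 8, 8, 2, 6, 8, 6, 5, 5, 11, 11, 6, 6, 5,
  4, 11, 11, 4, 8, 8, 6, 5, 5, 6, 6, 8, 11, 8, 8, 4, 11, 5, 11, 3, 8, 11, 8, 11, 5, 6, 4, 11, 8,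
  8, 8, 6, 11, 4, 3, 5, 4, 8, 4, 5, 8, 5, 6, 5, 6, 8, 5, 5, 8, 6, 4, 5, 6, 11, 11, 3, 6, 5, 11, 3,
  8, 8, 11, 11, 5, 5, 6, 6, 5, 11, 5, 4, 11, 8, 6, 11, 8, 4, 11, 8, 6, 11, 11, 4, 8, 8, 6, 5, 5,
  5, 11, 3, 8, 8, 11, 11, 5, 5, 4, 4, 8, 5, 4, 8, 3, 8, 8, 11, 4, 11, 8, 6, 6, 11, 8, 11, 11, 5,
  5, 3, 8, 5, 8, 8, 5, 5, 6, 5, 6, 5, 6, 11, 11, 3, 4, 6, 6, 11, 3, 6, 5, 6, 6, 4, 11, 5, 4, 5, 6,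
  11, 5, 6, 11, 4, 6, 8, 8]

/-- Orders of the tables number `1100` to `1319` of `m11Tabs`. -/
def m11Ords5 : List ℕ := [
  8, 11, 11, 6, 8, 8, 8, 11, 4, 11, 6, 6, 8, 5, 3, 5, 4, 8, 4, 4, 11, 11, 11, 8, 5, 8, 3, 5, 8, 6,
  5, 6, 5, 5, 5, 8, 5, 3, 11, 11, 11, 8, 8, 5, 5, 5, 11, 6, 4, 11, 8, 8, 11, 6, 8, 8, 6, 4, 11, 8,
  5, 6, 8, 5, 4, 11, 11, 8, 8, 4, 5, 3, 4, 4, 5, 8, 4, 5, 11, 11, 6, 6, 5, 5, 8, 6, 5, 6, 5, 5, 5,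
  8, 3, 5, 5, 8, 11, 8, 11, 11, 3, 5, 5, 11, 11, 8, 8, 11, 11, 6, 8, 11, 8, 8, 4, 6, 6, 6, 11, 11,
  4, 3, 6, 5, 11, 4, 5, 6, 6, 6, 3, 11, 4, 11, 8, 8, 8, 11, 6, 6, 4, 6, 11, 5, 5, 11, 8, 8, 5, 3,
  8, 11, 8, 5, 11, 11, 6, 5, 8, 8, 6, 5, 5, 5, 3, 11, 5, 5, 11, 11, 8, 8, 8, 8, 8, 6, 4, 11, 11,
  6, 5, 11, 5, 5, 6, 6, 11, 4, 5, 8, 8, 4, 5, 4, 4, 3, 11, 8, 6, 11, 6, 4, 8, 8, 4, 5, 3, 5, 8, 8,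
  4, 4, 8, 8, 6, 11, 11, 4, 5, 5]

/-- Orders of the tables number `1320` to `1539` of `m11Tabs`. -/
def m11Ords6 : List ℕ := [
  5, 5, 4, 6, 11, 5, 6, 11, 11, 5, 8, 11, 3, 8, 5, 11, 5, 11, 6, 6, 3, 4, 11, 6, 8, 6, 5, 6, 5, 8,
  5, 5, 6, 11, 4, 6, 8, 8, 8, 11, 8, 11, 8, 5, 11, 3, 5, 11, 8, 11, 11, 8, 5, 11, 3, 5, 11, 8, 4,
  11, 8, 5, 5, 6, 8, 5, 6, 5, 5, 8, 6, 5, 5, 11, 11, 6, 3, 6, 6, 4, 11, 6, 6, 4, 5, 11, 5, 5, 8,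
  6, 8, 11, 11, 6, 4, 8, 11, 5, 8, 11, 8, 3, 5, 11, 6, 11, 8, 6, 8, 11, 4, 8, 4, 8, 8, 4, 3, 5, 4,
  5, 5, 6, 11, 5, 4, 11, 8, 8, 5, 5, 11, 4, 6, 8, 8, 11, 6, 5, 8, 4, 5, 8, 11, 11, 5, 5, 11, 6, 4,
  8, 8, 11, 11, 8, 5, 11, 8, 5, 6, 4, 11, 8, 6, 11, 8, 4, 5, 5, 6, 6, 3, 3, 3, 3, 6, 6, 4, 5, 11,
  6, 5, 11, 8, 8, 4, 5, 8, 6, 5, 8, 11, 11, 6, 8, 6, 8, 2, 8, 6, 8, 8, 6, 8, 11, 11, 8, 6, 4, 5,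
  6, 4, 11, 3, 6, 6, 11, 5, 11, 5, 3]

/-- Orders of the tables number `1540` to `1759` of `m11Tabs`. -/
def m11Ords7 : List ℕ := [
  11, 8, 8, 11, 4, 11, 11, 8, 8, 6, 6, 8, 6, 5, 5, 8, 6, 8, 5, 5, 5, 8, 11, 11, 4, 5, 8, 6, 11, 5,
  11, 8, 3, 11, 8, 5, 5, 5, 4, 11, 6, 11, 6, 5, 11, 8, 3, 5, 8, 11, 11, 5, 6, 4, 6, 6, 11, 5, 11,
  3, 8, 11, 3, 5, 11, 5, 11, 8, 11, 4, 5, 6, 5, 5, 11, 6, 6, 8, 6, 8, 2, 8, 6, 8, 11, 8, 8, 11, 6,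
  6, 4, 8, 11, 6, 5, 5, 8, 11, 4, 8, 6, 5, 5, 8, 6, 5, 5, 8, 8, 8, 11, 11, 4, 6, 6, 8, 11, 11, 5,
  3, 5, 11, 8, 8, 11, 8, 8, 5, 3, 11, 11, 5, 11, 6, 8, 11, 8, 4, 6, 8, 5, 11, 8, 8, 4, 5, 11, 6,
  3, 6, 4, 11, 5, 11, 6, 6, 6, 8, 6, 8, 2, 8, 6, 8, 6, 5, 5, 8, 6, 5, 5, 8, 4, 8, 6, 11, 8, 6, 11,
  8, 11, 6, 11, 5, 5, 4, 5, 6, 11, 3, 11, 5, 6, 6, 6, 4, 11, 8, 8, 11, 5, 11, 5, 3, 6, 6, 8, 11,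
  8, 4, 11, 8, 5, 5, 6, 8, 5, 5, 6, 8]

/-- Orders of the tables number `1760` to `1979` of `m11Tabs`. -/
def m11Ords8 : List ℕ := [
  2, 8, 6, 8, 6, 8, 6, 8, 11, 6, 11, 4, 5, 5, 5, 6, 11, 6, 6, 11, 8, 8, 8, 4, 8, 5, 5, 4, 11, 11,
  6, 8, 8, 8, 3, 5, 11, 5, 11, 11, 5, 11, 11, 8, 4, 6, 8, 5, 5, 5, 5, 5, 8, 6, 8, 6, 11, 6, 11, 4,
  5, 5, 5, 6, 5, 3, 5, 11, 11, 11, 8, 8, 6, 8, 6, 8, 6, 8, 2, 8, 6, 11, 5, 6, 4, 6, 3, 11, 5, 11,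
  5, 8, 11, 3, 8, 11, 8, 8, 8, 4, 11, 6, 6, 11, 6, 4, 8, 8, 8, 6, 11, 11, 11, 8, 5, 11, 5, 3, 8,
  11, 8, 5, 5, 5, 5, 6, 8, 6, 8, 6, 8, 6, 8, 2, 8, 6, 8, 6, 6, 8, 4, 11, 11, 8, 11, 5, 3, 8, 8, 5,
  11, 11, 8, 11, 8, 6, 6, 4, 11, 8, 6, 6, 6, 4, 11, 3, 11, 5, 5, 8, 8, 11, 6, 4, 11, 5, 6, 5, 4,
  11, 5, 5, 6, 11, 4, 4, 5, 8, 3, 8, 5, 4, 4, 8, 5, 4, 3, 8, 5, 4, 8, 4, 8, 3, 4, 5, 4, 5, 4, 4,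
  8, 3, 8, 5, 4, 5, 4, 8, 5, 4]

set_option maxRecDepth 100000 in
theorem chunk0 : chkOrds ((m11Tabs.drop 0).take 220) m11Ords0 = true := by
  decide +kernel

set_option maxRecDepth 100000 in
theorem chunk1 : chkOrds ((m11Tabs.drop 220).take 220) m11Ords1 = true := by
  decide +kernel

set_option maxRecDepth 100000 in
theorem chunk2 : chkOrds ((m11Tabs.drop 440).take 220) m11Ords2 = true := by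
  decide +kernel

set_option maxRecDepth 100000 in
theorem chunk3 : chkOrds ((m11Tabs.drop 660).take 220) m11Ords3 = true := by
  decide +kernel

set_option maxRecDepth 100000 in
theorem chunk4 : chkOrds ((m11Tabs.drop 880).take 220) m11Ords4 = true := by
  decide +kernel

set_option maxRecDepth 100000 in
theorem chunk5 : chkOrds ((m11Tabs.drop 1100).take 220) m11Ords5 = true := by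
  decide +kernel

set_option maxRecDepth 100000 in
theorem chunk6 : chkOrds ((m11Tabs.drop 1320).take 220) m11Ords6 = true := by
  decide +kernel

set_option maxRecDepth 100000 in
theorem chunk7 : chkOrds ((m11Tabs.drop 1540).take 220) m11Ords7 = true := by
  decide +kernel

set_option maxRecDepth 100000 in
theorem chunk8 : chkOrds ((m11Tabs.drop 1760).take 220) m11Ords8 = true := by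
  decide +kernel

end Cfsg.Agent.Helper54.M11Nse
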