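import Mathlib
import Cfsg.Agent.Helper54.M11NseA

/-!
# Element orders in the concrete Mathieu group `M₁₁` (for S3592): kernel computation, part 2

The orders of the tables number `1980` to `3959` of helper7's `m11Tabs`, checked in chunks of
`220` tables (one kernel computation each, to bound the memory).
-/

set_option autoImplicit false

namespace Cfsg.Agent.Helper54.M11Nse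

open Cfsg Cfsg.Agent.Helper7

/-- Orders of the tables number `1980` to `2199` of `m11Tabs`. -/
def m11Ords9 : List ℕ := [
  3, 8, 5, 4, 8, 3, 4, 4, 4, 5, 8, 5, 3, 8, 5, 4, 4, 4, 5, 8, 4, 3, 4, 4, 8, 5, 8, 5, 2, 8, 2, 8,
  2, 8, 2, 8, 6, 5, 5, 8, 6, 5, 5, 8, 8, 6, 8, 6, 8, 6, 8, 2, 6, 11, 6, 5, 4, 5, 5, 11, 4, 11, 11,
  8, 5, 5, 8, 6, 5, 11, 5, 8, 8, 3, 11, 11, 8, 4, 8, 8, 6, 11, 11, 6, 6, 11, 11, 6, 8, 4, 8, 8, 6,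
  3, 11, 5, 11, 4, 6, 6, 8, 11, 3, 5, 11, 5, 11, 8, 5, 8, 11, 11, 4, 5, 8, 6, 8, 5, 3, 8, 11, 11,
  11, 5, 11, 8, 4, 11, 6, 8, 8, 6, 6, 6, 5, 11, 4, 11, 3, 6, 8, 11, 5, 3, 5, 11, 11, 8, 6, 11, 8,
  6, 8, 8, 11, 4, 6, 11, 6, 5, 5, 5, 4, 11, 5, 5, 6, 8, 5, 5, 6, 8, 6, 8, 6, 8, 2, 8, 6, 8, 4, 2,
  5, 5, 4, 8, 5, 8, 3, 6, 5, 5, 6, 5, 6, 6, 8, 8, 11, 5, 11, 5, 3, 11, 11, 6, 6, 11, 4, 5, 8, 11,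
  5, 11, 6, 4, 11, 11, 8, 6]

/-- Orders of the tables number `2200` to `2419` of `m11Tabs`. -/
def m11Ords10 : List ℕ := [
  5, 11, 6, 8, 5, 11, 8, 8, 8, 6, 3, 8, 6, 11, 8, 11, 6, 8, 6, 5, 5, 8, 11, 8, 11, 6, 11, 8, 8, 4,
  6, 8, 6, 3, 11, 5, 4, 6, 6, 11, 5, 8, 11, 11, 4, 6, 8, 5, 5, 5, 11, 11, 8, 11, 3, 8, 11, 8, 11,
  4, 6, 6, 8, 8, 5, 6, 11, 4, 6, 5, 5, 11, 5, 6, 8, 6, 5, 8, 5, 5, 6, 11, 6, 8, 8, 4, 11, 8, 8,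
  11, 8, 3, 11, 5, 5, 11, 8, 8, 6, 8, 8, 6, 2, 6, 5, 8, 4, 4, 3, 5, 8, 3, 8, 5, 5, 8, 5, 6, 5, 6,
  6, 11, 8, 6, 5, 8, 8, 5, 6, 5, 11, 11, 11, 6, 4, 8, 11, 6, 11, 2, 11, 5, 11, 5, 8, 5, 6, 6, 8,
  5, 11, 8, 8, 6, 4, 11, 6, 5, 11, 11, 11, 6, 8, 8, 6, 11, 4, 8, 8, 11, 6, 11, 3, 6, 8, 8, 5, 3,
  11, 11, 8, 5, 8, 11, 4, 6, 8, 8, 8, 6, 11, 11, 11, 6, 8, 5, 8, 4, 11, 5, 8, 8, 3, 11, 5, 5, 11,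
  11, 11, 4, 6, 8, 8, 8, 11, 6, 4, 11, 11, 6]

/-- Orders of the tables number `2420` to `2639` of `m11Tabs`. -/
def m11Ords11 : List ℕ := [
  6, 5, 6, 3, 8, 5, 6, 5, 5, 5, 6, 8, 5, 4, 4, 8, 5, 3, 8, 4, 5, 11, 5, 5, 6, 4, 11, 6, 5, 8, 6,
  5, 5, 5, 6, 8, 8, 11, 8, 6, 4, 6, 11, 8, 11, 6, 8, 11, 4, 5, 6, 11, 4, 5, 3, 3, 8, 8, 5, 4, 8,
  5, 8, 6, 8, 6, 5, 11, 4, 8, 11, 6, 11, 6, 5, 11, 11, 11, 5, 11, 11, 2, 5, 6, 6, 8, 8, 8, 11, 5,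
  5, 6, 3, 6, 11, 8, 8, 8, 11, 6, 5, 5, 6, 6, 6, 6, 5, 3, 5, 5, 3, 8, 11, 11, 11, 8, 8, 8, 6, 8,
  5, 11, 5, 6, 8, 6, 11, 8, 4, 11, 6, 8, 6, 8, 6, 3, 8, 11, 8, 11, 8, 11, 11, 4, 6, 11, 5, 6, 5,
  8, 4, 8, 2, 5, 4, 5, 11, 8, 11, 6, 5, 6, 4, 11, 5, 6, 8, 8, 5, 11, 11, 8, 6, 3, 11, 8, 8, 8, 11,
  6, 6, 11, 6, 4, 8, 5, 11, 11, 6, 8, 6, 5, 5, 8, 11, 8, 4, 8, 8, 8, 2, 3, 8, 3, 8, 8, 5, 8, 5, 6,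
  6, 11, 5, 4, 5, 6, 6, 11, 11, 5]

/-- Orders of the tables number `2640` to `2859` of `m11Tabs`. -/
def m11Ords12 : List ℕ := [
  4, 11, 6, 5, 11, 11, 8, 6, 11, 5, 8, 5, 8, 11, 6, 8, 11, 5, 11, 6, 5, 4, 5, 6, 5, 4, 11, 6, 3,
  11, 6, 6, 8, 6, 6, 11, 8, 8, 5, 5, 3, 8, 6, 6, 8, 11, 8, 11, 6, 11, 5, 8, 8, 11, 5, 8, 4, 6, 5,
  11, 6, 11, 3, 6, 11, 5, 6, 5, 11, 11, 2, 11, 8, 4, 4, 5, 8, 4, 5, 8, 11, 8, 8, 5, 6, 5, 8, 6, 8,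
  11, 8, 8, 11, 5, 6, 5, 11, 4, 8, 11, 5, 11, 6, 6, 11, 6, 5, 8, 8, 11, 5, 8, 6, 11, 8, 6, 5, 5,
  8, 8, 8, 11, 11, 5, 6, 11, 6, 4, 8, 5, 11, 11, 5, 11, 3, 8, 11, 8, 6, 5, 6, 8, 5, 8, 6, 6, 6, 6,
  6, 3, 6, 2, 8, 5, 4, 4, 4, 8, 5, 8, 3, 5, 8, 8, 11, 5, 11, 11, 5, 4, 5, 4, 2, 8, 5, 8, 5, 4, 5,
  4, 5, 8, 2, 8, 8, 4, 8, 2, 8, 3, 8, 3, 8, 5, 8, 3, 4, 3, 4, 5, 5, 8, 3, 4, 3, 4, 5, 8, 4, 5, 8,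
  5, 8, 3, 4, 4, 4, 4, 2, 4]

/-- Orders of the tables number `2860` to `3079` of `m11Tabs`. -/
def m11Ords13 : List ℕ := [
  4, 4, 3, 4, 8, 4, 8, 5, 8, 5, 4, 4, 4, 8, 5, 8, 5, 4, 4, 8, 11, 4, 6, 11, 5, 6, 8, 11, 5, 11,
  11, 5, 8, 11, 3, 8, 8, 11, 11, 8, 6, 5, 8, 5, 8, 3, 5, 11, 5, 11, 11, 8, 8, 5, 5, 6, 8, 6, 8,
  11, 8, 5, 5, 8, 8, 11, 6, 6, 11, 6, 4, 8, 5, 11, 11, 6, 3, 6, 6, 6, 2, 6, 6, 6, 8, 4, 5, 5, 8,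
  8, 4, 4, 8, 8, 11, 3, 6, 8, 11, 6, 5, 6, 8, 5, 8, 11, 8, 6, 5, 5, 5, 11, 11, 6, 6, 4, 11, 11, 6,
  4, 5, 6, 11, 8, 6, 11, 11, 4, 8, 11, 6, 5, 6, 5, 8, 6, 11, 8, 8, 5, 8, 6, 5, 8, 11, 8, 5, 11, 6,
  5, 6, 11, 4, 5, 5, 11, 8, 4, 3, 2, 8, 8, 3, 8, 8, 2, 8, 4, 8, 3, 8, 3, 4, 4, 4, 4, 4, 3, 4, 2,
  5, 8, 5, 8, 2, 4, 5, 4, 4, 8, 4, 8, 5, 8, 5, 4, 8, 5, 4, 3, 4, 5, 8, 3, 4, 4, 5, 8, 3, 8, 5, 4,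
  8, 5, 4, 5, 8, 2, 4, 5]

/-- Orders of the tables number `3080` to `3299` of `m11Tabs`. -/
def m11Ords14 : List ℕ := [
  5, 8, 5, 8, 4, 4, 4, 8, 8, 3, 8, 5, 4, 3, 4, 5, 3, 5, 11, 11, 11, 8, 8, 5, 8, 6, 8, 11, 4, 8, 6,
  11, 5, 8, 4, 8, 5, 5, 4, 2, 6, 8, 3, 6, 8, 11, 8, 11, 4, 5, 11, 11, 11, 8, 6, 6, 8, 6, 8, 11, 8,
  6, 5, 5, 11, 6, 8, 11, 4, 11, 6, 5, 8, 8, 8, 6, 11, 5, 11, 5, 5, 5, 6, 6, 6, 3, 5, 6, 3, 6, 6,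
  11, 5, 6, 11, 4, 3, 4, 4, 8, 4, 5, 8, 5, 11, 4, 8, 5, 8, 6, 11, 5, 6, 11, 5, 5, 4, 6, 11, 5, 8,
  5, 6, 5, 5, 8, 6, 5, 4, 8, 6, 11, 8, 6, 8, 11, 11, 11, 5, 5, 8, 11, 8, 3, 8, 8, 11, 11, 5, 11,
  3, 5, 4, 6, 11, 8, 8, 11, 8, 6, 6, 3, 5, 6, 5, 6, 6, 5, 2, 8, 4, 8, 5, 5, 4, 5, 8, 6, 6, 8, 4,
  8, 11, 11, 8, 8, 11, 6, 3, 6, 11, 8, 11, 4, 6, 11, 6, 5, 8, 11, 8, 11, 8, 8, 11, 5, 6, 5, 6, 5,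
  4, 11, 11, 6, 11, 8, 5, 11, 5, 6]

/-- Orders of the tables number `3300` to `3519` of `m11Tabs`. -/
def m11Ords15 : List ℕ := [
  6, 8, 8, 8, 11, 8, 3, 5, 5, 11, 11, 8, 8, 5, 11, 6, 8, 8, 6, 5, 8, 8, 6, 5, 5, 5, 6, 5, 8, 4,
  11, 11, 6, 11, 5, 6, 8, 8, 11, 8, 5, 6, 6, 5, 8, 8, 11, 6, 6, 3, 11, 8, 3, 4, 4, 8, 5, 5, 8, 3,
  4, 11, 6, 8, 8, 6, 11, 8, 4, 11, 8, 5, 11, 11, 6, 6, 5, 11, 6, 11, 5, 11, 2, 11, 4, 4, 4, 5, 8,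
  8, 5, 8, 8, 11, 8, 11, 6, 8, 3, 6, 5, 4, 6, 6, 3, 6, 11, 11, 6, 11, 5, 6, 4, 11, 3, 6, 11, 11,
  5, 8, 8, 8, 5, 6, 11, 6, 5, 2, 11, 11, 5, 11, 11, 8, 8, 8, 6, 5, 5, 6, 11, 8, 8, 6, 8, 5, 11, 5,
  11, 8, 8, 5, 6, 6, 8, 5, 4, 11, 8, 6, 11, 5, 6, 11, 11, 11, 2, 11, 11, 5, 6, 5, 8, 8, 8, 6, 11,
  6, 4, 11, 8, 11, 6, 6, 8, 8, 5, 5, 4, 5, 5, 3, 8, 4, 3, 8, 11, 5, 6, 11, 6, 11, 8, 4, 8, 6, 5,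
  6, 5, 5, 8, 5, 8, 8, 11, 6, 3, 8, 11, 6]

/-- Orders of the tables number `3520` to `3739` of `m11Tabs`. -/
def m11Ords16 : List ℕ := [
  5, 8, 11, 8, 6, 8, 6, 5, 11, 4, 8, 8, 6, 11, 6, 8, 8, 8, 6, 8, 8, 6, 2, 6, 11, 8, 5, 11, 3, 11,
  8, 5, 11, 3, 8, 11, 8, 5, 5, 11, 6, 5, 5, 5, 6, 8, 8, 5, 6, 11, 3, 6, 11, 6, 5, 4, 6, 4, 11, 6,
  5, 5, 5, 11, 5, 8, 11, 11, 6, 4, 8, 5, 6, 11, 8, 8, 8, 11, 4, 6, 3, 4, 6, 6, 5, 11, 11, 6, 11,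
  5, 8, 5, 8, 6, 11, 8, 5, 6, 8, 8, 5, 8, 11, 11, 11, 5, 2, 5, 11, 11, 6, 11, 4, 4, 8, 8, 5, 5, 8,
  4, 8, 5, 6, 6, 8, 5, 11, 8, 11, 8, 6, 6, 11, 3, 8, 8, 11, 8, 5, 8, 6, 5, 8, 6, 3, 6, 4, 11, 5,
  6, 6, 11, 4, 5, 8, 2, 4, 5, 8, 5, 8, 5, 8, 4, 4, 5, 8, 4, 5, 8, 4, 8, 4, 4, 5, 8, 3, 8, 2, 8, 3,
  8, 4, 8, 8, 3, 4, 5, 4, 3, 8, 5, 4, 4, 2, 4, 4, 4, 3, 4, 8, 5, 4, 2, 8, 5, 4, 5, 5, 4, 3, 8, 3,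
  8, 5, 4, 4, 5, 8, 5]

/-- Orders of the tables number `3740` to `3959` of `m11Tabs`. -/
def m11Ords17 : List ℕ := [
  8, 4, 4, 3, 4, 11, 11, 6, 8, 6, 8, 8, 5, 5, 6, 8, 5, 8, 6, 5, 11, 11, 2, 11, 11, 5, 6, 5, 8, 11,
  8, 11, 6, 3, 6, 8, 6, 8, 8, 5, 5, 11, 8, 6, 5, 11, 4, 6, 11, 8, 11, 6, 11, 4, 11, 11, 6, 6, 5,
  8, 6, 5, 6, 8, 11, 8, 5, 8, 4, 3, 5, 5, 8, 8, 3, 4, 11, 11, 8, 4, 5, 11, 6, 6, 11, 4, 11, 11, 6,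
  8, 5, 6, 3, 11, 8, 5, 11, 8, 11, 5, 6, 3, 5, 6, 5, 5, 6, 6, 4, 5, 5, 2, 4, 8, 5, 8, 11, 3, 6, 8,
  11, 6, 8, 8, 11, 8, 8, 6, 8, 5, 11, 5, 8, 8, 8, 11, 6, 6, 4, 11, 8, 6, 8, 5, 5, 6, 8, 11, 8, 8,
  8, 3, 6, 11, 6, 11, 8, 4, 8, 8, 6, 6, 11, 11, 5, 6, 8, 11, 6, 8, 5, 8, 5, 5, 11, 11, 8, 3, 8,
  11, 5, 6, 6, 5, 6, 3, 5, 6, 5, 4, 8, 4, 5, 2, 8, 5, 11, 5, 4, 11, 6, 8, 11, 6, 8, 5, 8, 5, 6,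
  11, 11, 8, 8, 11, 6, 5, 6, 11, 11, 4]

set_option maxRecDepth 100000 in
theorem chunk9 : chkOrds ((m11Tabs.drop 1980).take 220) m11Ords9 = true := by
  decide +kernel

set_option maxRecDepth 100000 in
theorem chunk10 : chkOrds ((m11Tabs.drop 2200).take 220) m11Ords10 = true := by
  decide +kernel

set_option maxRecDepth 100000 in
theorem chunk11 : chkOrds ((m11Tabs.drop 2420).take 220) m11Ords11 = true := by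
  decide +kernel

set_option maxRecDepth 100000 in
theorem chunk12 : chkOrds ((m11Tabs.drop 2640).take 220) m11Ords12 = true := by
  decide +kernel

set_option maxRecDepth 100000 in
theorem chunk13 : chkOrds ((m11Tabs.drop 2860).take 220) m11Ords13 = true := by
  decide +kernel

set_option maxRecDepth 100000 in
theorem chunk14 : chkOrds ((m11Tabs.drop 3080).take 220) m11Ords14 = true := by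
  decide +kernel

set_option maxRecDepth 100000 in
theorem chunk15 : chkOrds ((m11Tabs.drop 3300).take 220) m11Ords15 = true := by
  decide +kernel

set_option maxRecDepth 100000 in
theorem chunk16 : chkOrds ((m11Tabs.drop 3520).take 220) m11Ords16 = true := by
  decide +kernel

set_option maxRecDepth 100000 in
theorem chunk17 : chkOrds ((m11Tabs.drop 3740).take 220) m11Ords17 = true := by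
  decide +kernel

end Cfsg.Agent.Helper54.M11Nse
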