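import Mathlib
import Cfsg.Agent.Helper54.M11NseA

/-!
# Element orders in the concrete Mathieu group `M₁₁` (for S3592): kernel computation, part 3

The orders of the tables number `3960` to `5939` of helper7's `m11Tabs`, checked in chunks of
`220` tables (one kernel computation each, to bound the memory).
-/

set_option autoImplicit false

namespace Cfsg.Agent.Helper54.M11Nse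

open Cfsg Cfsg.Agent.Helper7

/-- Orders of the tables number `3960` to `4179` of `m11Tabs`. -/
def m11Ords18 : List ℕ := [
  3, 8, 5, 11, 11, 5, 8, 11, 8, 5, 6, 4, 11, 11, 5, 8, 8, 5, 6, 8, 5, 5, 6, 5, 4, 3, 6, 5, 6, 6,
  11, 11, 4, 11, 8, 6, 8, 6, 11, 8, 4, 6, 8, 11, 8, 8, 6, 11, 8, 8, 6, 8, 8, 2, 6, 6, 6, 6, 5, 4,
  5, 5, 11, 11, 5, 11, 8, 5, 8, 11, 11, 3, 11, 5, 6, 11, 4, 6, 11, 8, 3, 6, 6, 6, 2, 6, 6, 6, 4,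
  11, 11, 6, 11, 6, 5, 8, 11, 11, 5, 8, 3, 11, 8, 5, 4, 5, 5, 4, 8, 8, 4, 8, 11, 5, 11, 8, 3, 5,
  8, 11, 6, 8, 5, 5, 11, 8, 6, 8, 11, 6, 5, 5, 6, 8, 8, 8, 11, 5, 8, 5, 8, 11, 6, 8, 8, 8, 6, 4,
  11, 6, 8, 11, 8, 11, 5, 4, 6, 11, 11, 6, 11, 8, 8, 5, 6, 5, 8, 6, 11, 8, 6, 3, 11, 6, 8, 8, 11,
  2, 11, 6, 11, 5, 11, 5, 8, 5, 5, 3, 4, 4, 3, 8, 5, 6, 5, 6, 5, 8, 8, 5, 6, 6, 8, 11, 5, 5, 8, 8,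
  8, 11, 4, 6, 6, 11, 11, 5, 6, 8, 11, 3]

/-- Orders of the tables number `4180` to `4399` of `m11Tabs`. -/
def m11Ords19 : List ℕ := [
  8, 6, 11, 8, 5, 11, 11, 8, 5, 8, 8, 6, 6, 6, 11, 8, 11, 11, 5, 4, 11, 6, 11, 11, 5, 8, 4, 6, 5,
  6, 11, 4, 11, 5, 5, 6, 4, 8, 8, 8, 2, 3, 8, 3, 5, 6, 5, 11, 6, 8, 8, 8, 5, 11, 6, 5, 11, 6, 5,
  4, 8, 6, 8, 11, 8, 5, 5, 6, 8, 6, 11, 8, 4, 6, 8, 11, 5, 11, 11, 3, 8, 11, 8, 5, 5, 8, 5, 5, 5,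
  6, 8, 6, 4, 11, 5, 5, 6, 5, 11, 6, 4, 4, 4, 8, 3, 5, 8, 5, 6, 3, 4, 5, 11, 11, 6, 6, 5, 8, 5,
  11, 6, 11, 4, 8, 8, 11, 8, 6, 6, 11, 4, 8, 11, 3, 8, 11, 5, 5, 11, 8, 5, 2, 11, 6, 5, 11, 11,
  11, 5, 8, 6, 5, 5, 8, 6, 5, 11, 6, 11, 8, 4, 6, 5, 11, 11, 4, 8, 8, 6, 8, 6, 11, 5, 8, 6, 6, 11,
  11, 11, 4, 6, 11, 8, 11, 8, 8, 6, 3, 8, 3, 5, 5, 4, 4, 3, 8, 8, 6, 6, 5, 5, 8, 11, 8, 8, 6, 8,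
  5, 8, 6, 5, 11, 3, 6, 6, 6, 2, 6, 6, 6]

/-- Orders of the tables number `4400` to `4619` of `m11Tabs`. -/
def m11Ords20 : List ℕ := [
  11, 8, 5, 5, 6, 8, 6, 8, 11, 8, 8, 5, 3, 5, 11, 11, 11, 11, 11, 6, 4, 8, 5, 6, 11, 11, 11, 5, 4,
  6, 6, 8, 6, 6, 5, 5, 11, 8, 8, 8, 8, 5, 5, 4, 4, 8, 4, 8, 11, 8, 8, 11, 3, 11, 5, 5, 8, 11, 11,
  8, 6, 5, 8, 5, 5, 6, 5, 6, 8, 8, 5, 5, 4, 11, 6, 6, 6, 3, 11, 5, 6, 5, 5, 11, 5, 4, 11, 6, 5, 3,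
  8, 11, 11, 8, 11, 5, 11, 5, 5, 8, 3, 8, 11, 11, 5, 11, 4, 8, 6, 11, 5, 8, 5, 4, 8, 8, 5, 4, 4,
  3, 6, 6, 11, 8, 11, 8, 8, 4, 8, 4, 6, 8, 6, 11, 11, 8, 11, 8, 3, 5, 5, 11, 11, 8, 6, 4, 8, 8, 8,
  11, 11, 6, 11, 8, 3, 6, 11, 8, 8, 6, 5, 4, 8, 4, 5, 2, 8, 5, 5, 6, 11, 8, 5, 8, 8, 11, 8, 8, 5,
  8, 5, 6, 6, 11, 6, 3, 5, 6, 5, 6, 6, 5, 4, 6, 5, 11, 11, 8, 11, 6, 11, 11, 11, 5, 6, 8, 4, 6, 4,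
  5, 4, 3, 8, 5, 8, 3, 8, 4, 4, 5]

/-- Orders of the tables number `4620` to `4839` of `m11Tabs`. -/
def m11Ords21 : List ℕ := [
  8, 4, 8, 5, 5, 4, 3, 8, 5, 4, 4, 8, 5, 4, 3, 8, 3, 4, 5, 8, 4, 5, 8, 4, 8, 4, 8, 5, 5, 4, 5, 4,
  5, 8, 2, 8, 8, 5, 4, 5, 8, 2, 4, 5, 4, 4, 2, 4, 4, 4, 3, 4, 8, 4, 8, 2, 8, 3, 8, 3, 3, 4, 4, 8,
  5, 5, 8, 3, 11, 6, 11, 2, 11, 5, 11, 5, 5, 5, 6, 8, 8, 5, 6, 5, 11, 3, 8, 8, 11, 6, 6, 8, 5, 6,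
  5, 11, 8, 8, 6, 8, 8, 5, 6, 8, 8, 6, 5, 11, 11, 6, 6, 11, 5, 4, 8, 11, 11, 11, 11, 4, 5, 6, 6,
  8, 8, 4, 8, 8, 11, 6, 6, 11, 8, 8, 11, 11, 6, 5, 8, 5, 6, 5, 6, 11, 4, 5, 5, 11, 8, 11, 11, 6,
  6, 11, 4, 5, 6, 3, 11, 8, 8, 6, 11, 8, 4, 6, 5, 8, 11, 11, 11, 6, 8, 11, 5, 6, 8, 5, 8, 6, 6, 6,
  5, 4, 5, 11, 11, 5, 3, 8, 8, 8, 3, 4, 8, 2, 6, 5, 8, 6, 11, 8, 8, 5, 4, 5, 11, 3, 6, 6, 6, 11,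
  5, 6, 5, 4, 6, 11, 11, 5]

/-- Orders of the tables number `4840` to `5059` of `m11Tabs`. -/
def m11Ords22 : List ℕ := [
  8, 4, 5, 5, 11, 11, 6, 8, 8, 8, 6, 8, 8, 6, 6, 2, 8, 8, 6, 5, 5, 5, 6, 5, 11, 8, 5, 11, 3, 11,
  8, 5, 4, 11, 6, 6, 8, 8, 8, 11, 8, 11, 8, 6, 4, 8, 11, 6, 11, 5, 3, 8, 5, 11, 11, 8, 8, 11, 6,
  6, 8, 8, 5, 5, 11, 8, 8, 6, 8, 5, 11, 5, 6, 3, 11, 5, 11, 6, 6, 4, 8, 5, 5, 4, 4, 8, 4, 8, 8,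
  11, 6, 8, 11, 5, 8, 5, 3, 8, 8, 6, 8, 11, 6, 11, 11, 6, 5, 11, 6, 6, 3, 4, 8, 5, 6, 6, 8, 8, 11,
  5, 11, 6, 5, 2, 11, 11, 5, 11, 4, 2, 5, 5, 4, 8, 5, 8, 8, 11, 11, 8, 5, 11, 5, 3, 8, 11, 5, 8,
  6, 11, 5, 8, 8, 8, 11, 6, 6, 8, 11, 3, 6, 5, 5, 6, 3, 5, 6, 6, 6, 8, 4, 6, 11, 11, 11, 5, 8, 6,
  8, 11, 8, 6, 5, 5, 4, 11, 6, 6, 8, 11, 8, 8, 6, 4, 11, 11, 11, 6, 5, 8, 11, 4, 6, 8, 6, 11, 8,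
  8, 4, 5, 3, 3, 8, 8, 5, 4, 8, 11, 8, 6]

/-- Orders of the tables number `5060` to `5279` of `m11Tabs`. -/
def m11Ords23 : List ℕ := [
  5, 5, 8, 6, 5, 6, 11, 2, 5, 11, 11, 11, 8, 3, 6, 8, 6, 11, 8, 11, 11, 11, 11, 4, 6, 8, 5, 6, 5,
  6, 5, 6, 8, 5, 8, 5, 6, 5, 8, 8, 5, 6, 8, 11, 5, 6, 4, 11, 11, 6, 11, 8, 5, 8, 5, 4, 4, 8, 4, 8,
  5, 8, 5, 4, 4, 8, 4, 8, 4, 3, 4, 2, 4, 4, 4, 4, 4, 5, 8, 2, 4, 5, 8, 5, 5, 4, 2, 4, 5, 8, 5, 8,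
  8, 3, 8, 3, 8, 4, 8, 2, 5, 8, 3, 4, 5, 4, 4, 8, 4, 3, 8, 5, 8, 3, 4, 5, 5, 4, 5, 8, 3, 4, 3, 8,
  8, 8, 6, 8, 8, 6, 6, 2, 5, 8, 5, 5, 8, 6, 5, 6, 11, 5, 8, 8, 5, 11, 11, 3, 6, 11, 6, 8, 8, 4,
  11, 8, 8, 11, 8, 3, 11, 5, 5, 11, 4, 11, 8, 6, 8, 11, 6, 8, 5, 8, 8, 11, 6, 5, 11, 4, 6, 6, 6,
  11, 11, 5, 4, 3, 11, 5, 6, 11, 5, 5, 4, 6, 5, 6, 8, 5, 8, 6, 8, 11, 4, 2, 5, 5, 4, 8, 5, 8, 11,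
  6, 4, 8, 6, 11, 11, 5]

/-- Orders of the tables number `5280` to `5499` of `m11Tabs`. -/
def m11Ords24 : List ℕ := [
  11, 5, 3, 8, 8, 11, 11, 5, 11, 5, 11, 5, 8, 8, 8, 6, 8, 5, 11, 11, 6, 11, 4, 6, 8, 11, 8, 11, 3,
  8, 6, 6, 6, 8, 4, 11, 8, 6, 8, 11, 3, 6, 5, 5, 6, 5, 6, 6, 5, 8, 8, 11, 5, 6, 11, 8, 8, 5, 8, 6,
  8, 11, 5, 6, 8, 5, 4, 4, 4, 8, 5, 8, 8, 3, 5, 11, 11, 8, 11, 5, 6, 2, 6, 3, 6, 6, 6, 6, 4, 5,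
  11, 11, 11, 6, 6, 8, 5, 8, 4, 6, 11, 11, 11, 6, 5, 8, 8, 11, 11, 11, 5, 3, 5, 8, 6, 8, 8, 5, 11,
  6, 5, 4, 11, 6, 11, 6, 5, 5, 5, 11, 5, 6, 6, 8, 8, 8, 8, 6, 6, 8, 3, 11, 8, 11, 6, 8, 6, 5, 5,
  8, 11, 8, 4, 11, 6, 5, 11, 11, 8, 6, 4, 6, 11, 8, 11, 6, 5, 11, 5, 11, 4, 5, 11, 5, 6, 6, 6, 11,
  11, 8, 8, 5, 8, 5, 3, 8, 8, 8, 3, 2, 8, 4, 11, 11, 6, 4, 5, 8, 11, 6, 4, 5, 3, 3, 8, 4, 5, 8, 5,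
  8, 5, 8, 6, 11, 8, 6, 8, 5, 5, 8]

/-- Orders of the tables number `5500` to `5719` of `m11Tabs`. -/
def m11Ords25 : List ℕ := [
  5, 6, 5, 6, 8, 8, 6, 5, 8, 6, 5, 11, 6, 8, 3, 6, 8, 11, 8, 11, 4, 6, 6, 8, 11, 11, 11, 5, 11, 8,
  8, 4, 8, 6, 6, 11, 6, 11, 5, 11, 2, 11, 5, 11, 11, 4, 6, 8, 8, 8, 11, 6, 8, 11, 8, 6, 11, 6, 4,
  8, 4, 4, 5, 3, 8, 4, 5, 8, 5, 6, 5, 6, 8, 5, 5, 8, 6, 4, 3, 6, 11, 11, 5, 6, 6, 11, 11, 5, 4, 5,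
  5, 6, 6, 8, 4, 11, 5, 11, 5, 8, 8, 8, 3, 11, 5, 5, 11, 11, 8, 5, 5, 11, 11, 11, 8, 3, 8, 6, 8,
  8, 3, 11, 6, 11, 8, 8, 5, 11, 6, 8, 5, 11, 8, 5, 5, 4, 8, 8, 4, 4, 4, 6, 5, 11, 6, 11, 3, 6, 11,
  5, 6, 5, 11, 11, 2, 11, 8, 11, 5, 6, 8, 5, 6, 8, 6, 5, 8, 8, 11, 6, 8, 5, 3, 6, 6, 4, 5, 6, 11,
  11, 5, 8, 8, 6, 5, 11, 11, 8, 8, 8, 8, 4, 6, 11, 11, 6, 4, 5, 5, 5, 4, 8, 2, 8, 11, 8, 8, 11, 8,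
  5, 6, 5, 5, 6, 6, 5, 6, 5, 3, 6]

/-- Orders of the tables number `5720` to `5939` of `m11Tabs`. -/
def m11Ords26 : List ℕ := [
  11, 11, 4, 5, 6, 6, 11, 8, 11, 8, 8, 6, 11, 6, 3, 8, 3, 8, 11, 11, 11, 5, 5, 8, 11, 8, 11, 6, 5,
  6, 4, 11, 6, 5, 8, 6, 11, 8, 8, 5, 5, 5, 8, 6, 8, 6, 8, 11, 6, 8, 11, 3, 8, 8, 11, 6, 8, 11, 11,
  8, 6, 5, 8, 5, 8, 3, 4, 3, 8, 8, 2, 8, 5, 5, 11, 6, 11, 6, 5, 4, 8, 8, 11, 5, 8, 6, 6, 5, 5, 5,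
  6, 11, 11, 5, 4, 6, 5, 11, 11, 6, 11, 8, 4, 6, 6, 11, 4, 6, 8, 11, 11, 5, 5, 11, 6, 8, 5, 8, 8,
  11, 11, 8, 6, 3, 11, 6, 8, 8, 8, 6, 8, 5, 5, 11, 8, 6, 6, 6, 6, 5, 5, 5, 3, 6, 11, 5, 6, 11, 4,
  8, 11, 6, 11, 11, 5, 3, 5, 8, 8, 11, 6, 11, 8, 8, 8, 6, 4, 11, 5, 8, 4, 8, 5, 5, 4, 2, 4, 6, 6,
  11, 11, 11, 8, 5, 11, 8, 5, 6, 8, 11, 5, 8, 6, 6, 6, 6, 6, 2, 6, 3, 11, 5, 5, 8, 6, 8, 6, 8, 5,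
  11, 8, 6, 6, 8, 8, 5, 11, 11, 6, 4]

set_option maxRecDepth 100000 in
theorem chunk18 : chkOrds ((m11Tabs.drop 3960).take 220) m11Ords18 = true := by
  decide +kernel

set_option maxRecDepth 100000 in
theorem chunk19 : chkOrds ((m11Tabs.drop 4180).take 220) m11Ords19 = true := by
  decide +kernel

set_option maxRecDepth 100000 in
theorem chunk20 : chkOrds ((m11Tabs.drop 4400).take 220) m11Ords20 = true := by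
  decide +kernel

set_option maxRecDepth 100000 in
theorem chunk21 : chkOrds ((m11Tabs.drop 4620).take 220) m11Ords21 = true := by
  decide +kernel

set_option maxRecDepth 100000 in
theorem chunk22 : chkOrds ((m11Tabs.drop 4840).take 220) m11Ords22 = true := by
  decide +kernel

set_option maxRecDepth 100000 in
theorem chunk23 : chkOrds ((m11Tabs.drop 5060).take 220) m11Ords23 = true := by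
  decide +kernel

set_option maxRecDepth 100000 in
theorem chunk24 : chkOrds ((m11Tabs.drop 5280).take 220) m11Ords24 = true := by
  decide +kernel

set_option maxRecDepth 100000 in
theorem chunk25 : chkOrds ((m11Tabs.drop 5500).take 220) m11Ords25 = true := by
  decide +kernel

set_option maxRecDepth 100000 in
theorem chunk26 : chkOrds ((m11Tabs.drop 5720).take 220) m11Ords26 = true := by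
  decide +kernel

end Cfsg.Agent.Helper54.M11Nse
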