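import Mathlib
import Cfsg.Agent.Helper54.M11NseA

/-!
# Element orders in the concrete Mathieu group `M₁₁` (for S3592): kernel computation, part 4

The orders of the tables number `5940` to `7919` of helper7's `m11Tabs`, checked in chunks of
`220` tables (one kernel computation each, to bound the memory).
-/

set_option autoImplicit false

namespace Cfsg.Agent.Helper54.M11Nse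

open Cfsg Cfsg.Agent.Helper7

/-- Orders of the tables number `5940` to `6159` of `m11Tabs`. -/
def m11Ords27 : List ℕ := [
  5, 11, 8, 6, 4, 5, 4, 4, 8, 8, 5, 8, 5, 5, 11, 11, 8, 8, 3, 11, 8, 5, 6, 11, 6, 11, 11, 4, 8, 5,
  3, 11, 11, 5, 11, 8, 5, 8, 8, 4, 4, 5, 8, 4, 6, 8, 5, 8, 5, 11, 8, 6, 8, 11, 5, 8, 6, 8, 5, 11,
  11, 6, 4, 11, 6, 3, 6, 5, 3, 6, 6, 11, 5, 11, 4, 6, 6, 8, 5, 8, 11, 5, 8, 6, 8, 3, 11, 8, 6, 8,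
  11, 6, 8, 11, 5, 8, 11, 8, 5, 6, 11, 6, 5, 2, 11, 11, 5, 11, 11, 8, 8, 4, 6, 8, 6, 11, 11, 8, 3,
  5, 5, 8, 11, 11, 6, 8, 11, 4, 11, 8, 8, 6, 6, 6, 3, 11, 11, 4, 5, 6, 5, 11, 6, 5, 11, 4, 5, 6,
  8, 5, 5, 4, 11, 8, 6, 11, 5, 5, 8, 8, 11, 3, 11, 11, 8, 8, 6, 8, 8, 6, 6, 2, 5, 8, 6, 5, 8, 5,
  6, 5, 5, 8, 4, 11, 6, 8, 5, 11, 5, 11, 8, 3, 8, 5, 11, 11, 4, 3, 5, 4, 8, 4, 5, 8, 3, 5, 8, 11,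
  11, 8, 5, 11, 6, 11, 5, 5, 5, 6, 11, 4]

/-- Orders of the tables number `6160` to `6379` of `m11Tabs`. -/
def m11Ords28 : List ℕ := [
  4, 11, 6, 8, 8, 11, 8, 6, 3, 11, 6, 6, 5, 4, 11, 6, 6, 11, 6, 8, 11, 8, 8, 4, 6, 5, 8, 8, 6, 5,
  5, 5, 11, 11, 6, 8, 8, 5, 8, 5, 11, 6, 11, 11, 4, 8, 5, 6, 4, 6, 11, 8, 11, 11, 6, 5, 6, 3, 8,
  8, 8, 11, 6, 11, 4, 6, 11, 8, 8, 8, 6, 11, 8, 8, 6, 5, 8, 5, 11, 6, 5, 4, 8, 4, 5, 5, 8, 2, 11,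
  8, 11, 11, 3, 8, 5, 5, 6, 5, 5, 6, 3, 6, 6, 5, 4, 8, 5, 4, 5, 8, 4, 8, 3, 8, 3, 4, 5, 8, 5, 4,
  4, 5, 4, 3, 8, 3, 8, 5, 4, 4, 4, 4, 4, 3, 4, 2, 5, 8, 2, 8, 5, 4, 5, 4, 8, 5, 8, 5, 4, 4, 4, 3,
  4, 8, 4, 8, 5, 4, 5, 8, 4, 5, 8, 5, 4, 5, 8, 2, 3, 8, 2, 8, 3, 8, 4, 8, 8, 6, 11, 8, 6, 8, 11,
  3, 8, 8, 6, 5, 8, 11, 5, 6, 11, 11, 6, 6, 5, 11, 8, 4, 5, 5, 5, 8, 8, 6, 5, 6, 8, 5, 6, 6, 8, 8,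
  11, 5, 6, 11, 8, 6]

/-- Orders of the tables number `6380` to `6599` of `m11Tabs`. -/
def m11Ords29 : List ℕ := [
  8, 4, 11, 8, 3, 4, 4, 8, 5, 5, 8, 3, 11, 5, 11, 5, 11, 6, 11, 2, 5, 11, 6, 4, 11, 6, 11, 8, 8,
  6, 11, 11, 4, 6, 8, 8, 11, 11, 5, 11, 11, 6, 5, 2, 4, 6, 5, 8, 11, 6, 11, 11, 4, 6, 8, 11, 11,
  11, 6, 5, 5, 5, 6, 8, 5, 5, 6, 8, 11, 8, 8, 8, 6, 6, 5, 5, 8, 5, 8, 6, 8, 11, 5, 6, 4, 3, 5, 5,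
  8, 8, 3, 4, 11, 8, 3, 6, 11, 6, 8, 8, 8, 5, 6, 4, 11, 11, 5, 8, 5, 11, 8, 5, 8, 11, 11, 3, 6, 5,
  11, 3, 4, 11, 6, 6, 8, 11, 8, 8, 6, 6, 4, 11, 5, 6, 5, 6, 5, 8, 8, 5, 6, 4, 8, 8, 11, 8, 6, 11,
  6, 6, 8, 2, 6, 8, 8, 8, 8, 11, 5, 3, 11, 8, 11, 5, 4, 6, 11, 5, 6, 5, 5, 11, 8, 4, 5, 3, 4, 4,
  5, 8, 6, 3, 4, 5, 11, 11, 6, 6, 8, 11, 5, 5, 11, 3, 8, 11, 11, 11, 4, 6, 8, 6, 8, 8, 3, 5, 5,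
  11, 11, 11, 8, 8, 6, 8, 8, 6, 11, 8, 11, 4]

/-- Orders of the tables number `6600` to `6819` of `m11Tabs`. -/
def m11Ords30 : List ℕ := [
  11, 5, 11, 4, 8, 6, 8, 5, 6, 8, 8, 5, 6, 5, 5, 5, 11, 5, 4, 6, 5, 5, 6, 11, 5, 5, 8, 5, 8, 6, 5,
  6, 8, 11, 8, 11, 6, 3, 6, 8, 8, 6, 5, 11, 8, 8, 6, 5, 11, 8, 6, 6, 5, 4, 11, 11, 5, 4, 4, 8, 3,
  5, 8, 3, 11, 11, 5, 11, 11, 2, 5, 6, 6, 11, 6, 8, 8, 8, 11, 4, 8, 5, 5, 6, 8, 6, 8, 11, 11, 8,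
  5, 6, 4, 6, 11, 11, 8, 11, 5, 6, 8, 6, 8, 5, 5, 8, 11, 6, 11, 11, 6, 4, 6, 11, 5, 8, 8, 8, 5,
  11, 8, 8, 8, 11, 6, 6, 4, 11, 11, 11, 8, 4, 5, 11, 6, 6, 5, 4, 8, 4, 2, 5, 8, 5, 6, 6, 3, 5, 5,
  6, 6, 5, 11, 8, 3, 5, 8, 5, 11, 11, 6, 6, 8, 8, 8, 11, 3, 11, 11, 8, 5, 6, 8, 8, 5, 11, 5, 4, 6,
  11, 11, 11, 8, 6, 6, 6, 2, 6, 6, 6, 3, 6, 11, 8, 5, 11, 5, 11, 8, 3, 8, 5, 4, 4, 8, 8, 5, 4, 6,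
  8, 6, 8, 5, 5, 11, 8, 11, 6, 5, 5]

/-- Orders of the tables number `6820` to `7039` of `m11Tabs`. -/
def m11Ords31 : List ℕ := [
  6, 8, 8, 8, 8, 11, 5, 3, 11, 5, 11, 8, 11, 6, 5, 11, 4, 8, 11, 6, 11, 5, 11, 8, 5, 11, 3, 8, 11,
  8, 11, 6, 4, 11, 6, 5, 11, 6, 5, 11, 4, 6, 11, 8, 8, 6, 11, 8, 3, 6, 11, 8, 2, 8, 4, 8, 5, 5, 4,
  5, 6, 5, 6, 6, 3, 5, 5, 6, 8, 11, 6, 6, 11, 4, 8, 8, 8, 5, 8, 5, 6, 11, 11, 8, 8, 5, 6, 8, 8, 5,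
  11, 6, 8, 11, 3, 11, 6, 8, 8, 6, 5, 8, 6, 11, 5, 11, 8, 8, 5, 8, 8, 4, 4, 4, 8, 5, 5, 11, 6, 6,
  3, 11, 4, 6, 6, 11, 11, 11, 2, 5, 11, 5, 5, 5, 8, 8, 6, 6, 8, 11, 8, 6, 11, 5, 8, 8, 6, 5, 6, 6,
  5, 11, 11, 4, 3, 6, 8, 11, 5, 8, 11, 6, 5, 8, 8, 4, 8, 2, 8, 3, 8, 3, 4, 2, 8, 5, 4, 5, 8, 5, 5,
  4, 5, 8, 4, 8, 4, 8, 3, 4, 3, 8, 5, 8, 5, 4, 8, 4, 4, 5, 8, 5, 8, 4, 5, 4, 3, 8, 3, 8, 5, 4, 8,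
  3, 8, 4, 4, 5, 4, 5]

/-- Orders of the tables number `7040` to `7259` of `m11Tabs`. -/
def m11Ords32 : List ℕ := [
  2, 8, 5, 8, 5, 4, 5, 4, 4, 3, 4, 2, 4, 4, 4, 4, 6, 8, 5, 6, 11, 4, 11, 11, 3, 4, 8, 8, 5, 3, 4,
  5, 5, 11, 6, 6, 8, 8, 5, 8, 5, 6, 5, 6, 5, 8, 8, 5, 6, 6, 8, 11, 5, 5, 8, 8, 3, 11, 8, 11, 8, 6,
  6, 8, 6, 11, 11, 5, 11, 8, 4, 6, 8, 6, 8, 11, 6, 4, 11, 8, 5, 11, 2, 11, 5, 11, 6, 11, 4, 5, 11,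
  6, 6, 5, 5, 11, 8, 6, 4, 11, 6, 11, 11, 5, 11, 5, 8, 5, 8, 8, 6, 11, 11, 6, 11, 11, 5, 8, 4, 6,
  8, 8, 5, 8, 5, 11, 6, 6, 6, 8, 5, 8, 11, 5, 6, 8, 11, 6, 11, 5, 5, 6, 5, 4, 6, 11, 3, 11, 8, 8,
  8, 6, 8, 4, 3, 2, 8, 8, 3, 8, 3, 6, 11, 4, 5, 6, 6, 11, 11, 11, 8, 3, 8, 11, 5, 5, 11, 8, 8, 4,
  6, 8, 6, 11, 8, 5, 4, 6, 11, 11, 5, 8, 6, 2, 8, 6, 6, 8, 8, 8, 8, 11, 8, 6, 4, 8, 6, 11, 11, 11,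
  4, 5, 5, 5, 6, 6, 5, 8, 6, 5]

/-- Orders of the tables number `7260` to `7479` of `m11Tabs`. -/
def m11Ords33 : List ℕ := [
  8, 5, 6, 5, 3, 8, 8, 11, 11, 11, 5, 5, 4, 5, 5, 2, 4, 8, 5, 8, 3, 11, 8, 11, 8, 6, 6, 8, 8, 11,
  4, 5, 6, 11, 11, 6, 6, 6, 4, 8, 11, 5, 11, 11, 5, 5, 8, 6, 8, 6, 8, 11, 8, 8, 4, 11, 6, 11, 8,
  6, 8, 5, 11, 5, 11, 6, 8, 8, 11, 8, 11, 5, 8, 11, 3, 5, 5, 5, 3, 6, 6, 6, 6, 5, 8, 5, 8, 6, 8,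
  11, 5, 6, 11, 8, 11, 6, 5, 11, 6, 4, 11, 11, 2, 11, 11, 5, 6, 5, 11, 6, 4, 11, 5, 8, 11, 6, 5,
  4, 4, 8, 3, 5, 8, 3, 5, 6, 8, 6, 8, 5, 5, 5, 11, 6, 8, 8, 11, 8, 3, 6, 8, 5, 6, 6, 5, 8, 11, 8,
  8, 6, 11, 11, 4, 6, 8, 8, 11, 6, 11, 4, 6, 5, 6, 3, 6, 8, 5, 11, 8, 11, 5, 8, 11, 8, 8, 6, 11,
  8, 6, 3, 8, 6, 6, 11, 8, 5, 5, 8, 4, 5, 6, 3, 6, 6, 11, 11, 5, 8, 8, 4, 4, 5, 8, 4, 6, 11, 11,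
  11, 2, 5, 11, 5, 8, 8, 6, 11, 11, 5, 8, 5]

/-- Orders of the tables number `7480` to `7699` of `m11Tabs`. -/
def m11Ords34 : List ℕ := [
  6, 8, 8, 5, 11, 6, 8, 5, 8, 8, 11, 5, 11, 11, 5, 3, 4, 8, 11, 6, 8, 6, 8, 11, 5, 8, 3, 11, 11,
  8, 11, 5, 6, 11, 11, 6, 4, 3, 6, 5, 4, 5, 4, 5, 8, 8, 3, 4, 11, 5, 8, 4, 8, 5, 11, 6, 11, 6, 8,
  8, 6, 8, 11, 4, 4, 11, 11, 5, 6, 6, 5, 5, 5, 5, 6, 5, 8, 8, 6, 5, 3, 8, 4, 8, 3, 8, 2, 8, 5, 4,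
  5, 4, 5, 8, 2, 8, 8, 3, 4, 4, 4, 5, 8, 5, 4, 2, 8, 5, 4, 5, 8, 5, 2, 4, 4, 4, 3, 4, 4, 4, 8, 3,
  4, 5, 4, 3, 8, 5, 4, 8, 4, 8, 5, 4, 5, 8, 4, 3, 4, 5, 8, 3, 8, 5, 5, 4, 4, 8, 4, 8, 5, 8, 11, 5,
  5, 8, 6, 8, 6, 8, 2, 6, 6, 6, 3, 6, 6, 6, 4, 4, 8, 8, 5, 4, 8, 5, 5, 11, 11, 8, 5, 6, 8, 8, 11,
  5, 11, 8, 5, 11, 8, 3, 5, 8, 11, 8, 8, 5, 6, 6, 8, 11, 5, 3, 5, 8, 11, 11, 8, 11, 11, 6, 6, 4,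
  5, 11, 8, 5, 6, 11]

/-- Orders of the tables number `7700` to `7919` of `m11Tabs`. -/
def m11Ords35 : List ℕ := [
  6, 11, 11, 4, 4, 8, 5, 6, 11, 6, 11, 11, 3, 6, 6, 8, 8, 11, 8, 11, 11, 11, 6, 5, 4, 6, 8, 11,
  11, 4, 11, 6, 5, 5, 5, 6, 6, 8, 8, 11, 8, 5, 11, 5, 11, 11, 4, 5, 5, 6, 6, 5, 6, 5, 11, 8, 5, 8,
  6, 8, 5, 6, 8, 11, 6, 8, 5, 8, 8, 3, 2, 3, 8, 8, 4, 8, 8, 11, 11, 5, 6, 4, 6, 11, 2, 8, 4, 8, 5,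
  5, 4, 5, 5, 6, 5, 11, 6, 8, 8, 8, 5, 6, 6, 11, 11, 4, 8, 11, 5, 6, 8, 8, 5, 8, 11, 11, 5, 5, 8,
  11, 8, 11, 11, 3, 11, 6, 6, 11, 8, 4, 8, 8, 11, 8, 8, 6, 11, 8, 3, 6, 5, 3, 6, 6, 6, 6, 5, 5, 8,
  5, 5, 8, 8, 6, 6, 11, 11, 8, 8, 5, 6, 6, 8, 5, 6, 4, 5, 11, 8, 11, 11, 6, 8, 11, 8, 11, 3, 6, 6,
  8, 8, 5, 6, 8, 5, 5, 6, 5, 6, 6, 4, 11, 8, 11, 11, 5, 5, 11, 6, 11, 5, 11, 2, 11, 6, 11, 8, 6,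
  8, 4, 11, 8, 8, 5, 3, 3, 4, 8, 5, 4]

set_option maxRecDepth 100000 in
theorem chunk27 : chkOrds ((m11Tabs.drop 5940).take 220) m11Ords27 = true := by
  decide +kernel

set_option maxRecDepth 100000 in
theorem chunk28 : chkOrds ((m11Tabs.drop 6160).take 220) m11Ords28 = true := by
  decide +kernel

set_option maxRecDepth 100000 in
theorem chunk29 : chkOrds ((m11Tabs.drop 6380).take 220) m11Ords29 = true := by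
  decide +kernel

set_option maxRecDepth 100000 in
theorem chunk30 : chkOrds ((m11Tabs.drop 6600).take 220) m11Ords30 = true := by
  decide +kernel

set_option maxRecDepth 100000 in
theorem chunk31 : chkOrds ((m11Tabs.drop 6820).take 220) m11Ords31 = true := by
  decide +kernel

set_option maxRecDepth 100000 in
theorem chunk32 : chkOrds ((m11Tabs.drop 7040).take 220) m11Ords32 = true := by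
  decide +kernel

set_option maxRecDepth 100000 in
theorem chunk33 : chkOrds ((m11Tabs.drop 7260).take 220) m11Ords33 = true := by
  decide +kernel

set_option maxRecDepth 100000 in
theorem chunk34 : chkOrds ((m11Tabs.drop 7480).take 220) m11Ords34 = true := by
  decide +kernel

set_option maxRecDepth 100000 in
theorem chunk35 : chkOrds ((m11Tabs.drop 7700).take 220) m11Ords35 = true := by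
  decide +kernel

end Cfsg.Agent.Helper54.M11Nse
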