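import Mathlib
import Cfsg.Agent.Helper54.M11NseC1
import Cfsg.Agent.Helper54.M11NseC2
import Cfsg.Agent.Helper54.M11NseC3
import Cfsg.Agent.Helper54.M11NseC4

/-!
# Element orders in the concrete Mathieu group `M₁₁` (for S3592): the kernel computation

The orders of the `7920` tables of `fixG M12 [0]` (helper7's `m11Tabs`), in the order of that
list: the `36` chunks of `M11NseC1` to `M11NseC4` glued together, and the count of each order.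
-/

set_option autoImplicit false

namespace Cfsg.Agent.Helper54.M11Nse

open Cfsg Cfsg.Agent.Helper7

set_option maxRecDepth 100000 in
theorem m11Tabs_length : m11Tabs.length = 7920 := by decide +kernel

theorem rest36 : (m11Tabs.drop 7920).map ordT = [] := by
  rw [List.drop_eq_nil_of_le (le_of_eq m11Tabs_length), List.map_nil]

theorem rest35 : (m11Tabs.drop 7700).map ordT = m11Ords35 ++ ([]) :=
  map_drop_of_chk chunk35 rfl rest36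

theorem rest34 : (m11Tabs.drop 7480).map ordT = m11Ords34 ++ (m11Ords35 ++ ([])) :=
  map_drop_of_chk chunk34 rfl rest35

theorem rest33 : (m11Tabs.drop 7260).map ordT = m11Ords33 ++ (m11Ords34 ++ (m11Ords35 ++ ([]))) :=
  map_drop_of_chk chunk33 rfl rest34

theorem rest32 : (m11Tabs.drop 7040).map ordT = m11Ords32 ++ (m11Ords33 ++ (m11Ords34 ++ (m11Ords35 ++ ([])))) :=
  map_drop_of_chk chunk32 rfl rest33

theorem rest31 : (m11Tabs.drop 6820).map ordT = m11Ords31 ++ (m11Ords32 ++ (m11Ords33 ++ (m11Ords34 ++ (m11Ords35 ++ ([]))))) :=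
  map_drop_of_chk chunk31 rfl rest32

theorem rest30 : (m11Tabs.drop 6600).map ordT = m11Ords30 ++ (m11Ords31 ++ (m11Ords32 ++ (m11Ords33 ++ (m11Ords34 ++ (m11Ords35 ++ ([])))))) :=
  map_drop_of_chk chunk30 rfl rest31

theorem rest29 : (m11Tabs.drop 6380).map ordT = m11Ords29 ++ (m11Ords30 ++ (m11Ords31 ++ (m11Ords32 ++ (m11Ords33 ++ (m11Ords34 ++ (m11Ords35 ++ ([]))))))) :=
  map_drop_of_chk chunk29 rfl rest30

theorem rest28 : (m11Tabs.drop 6160).map ordT = m11Ords28 ++ (m11Ords29 ++ (m11Ords30 ++ (m11Ords31 ++ (m11Ords32 ++ (m11Ords33 ++ (m11Ords34 ++ (m11Ords35 ++ ([])))))))) :=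
  map_drop_of_chk chunk28 rfl rest29

theorem rest27 : (m11Tabs.drop 5940).map ordT = m11Ords27 ++ (m11Ords28 ++ (m11Ords29 ++ (m11Ords30 ++ (m11Ords31 ++ (m11Ords32 ++ (m11Ords33 ++ (m11Ords34 ++ (m11Ords35 ++ ([]))))))))) :=
  map_drop_of_chk chunk27 rfl rest28

theorem rest26 : (m11Tabs.drop 5720).map ordT = m11Ords26 ++ (m11Ords27 ++ (m11Ords28 ++ (m11Ords29 ++ (m11Ords30 ++ (m11Ords31 ++ (m11Ords32 ++ (m11Ords33 ++ (m11Ords34 ++ (m11Ords35 ++ ([])))))))))) :=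
  map_drop_of_chk chunk26 rfl rest27

theorem rest25 : (m11Tabs.drop 5500).map ordT = m11Ords25 ++ (m11Ords26 ++ (m11Ords27 ++ (m11Ords28 ++ (m11Ords29 ++ (m11Ords30 ++ (m11Ords31 ++ (m11Ords32 ++ (m11Ords33 ++ (m11Ords34 ++ (m11Ords35 ++ ([]))))))))))) :=
  map_drop_of_chk chunk25 rfl rest26

theorem rest24 : (m11Tabs.drop 5280).map ordT = m11Ords24 ++ (m11Ords25 ++ (m11Ords26 ++ (m11Ords27 ++ (m11Ords28 ++ (m11Ords29 ++ (m11Ords30 ++ (m11Ords31 ++ (m11Ords32 ++ (m11Ords33 ++ (m11Ords34 ++ (m11Ords35 ++ ([])))))))))))) :=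
  map_drop_of_chk chunk24 rfl rest25

theorem rest23 : (m11Tabs.drop 5060).map ordT = m11Ords23 ++ (m11Ords24 ++ (m11Ords25 ++ (m11Ords26 ++ (m11Ords27 ++ (m11Ords28 ++ (m11Ords29 ++ (m11Ords30 ++ (m11Ords31 ++ (m11Ords32 ++ (m11Ords33 ++ (m11Ords34 ++ (m11Ords35 ++ ([]))))))))))))) :=
  map_drop_of_chk chunk23 rfl rest24

theorem rest22 : (m11Tabs.drop 4840).map ordT = m11Ords22 ++ (m11Ords23 ++ (m11Ords24 ++ (m11Ords25 ++ (m11Ords26 ++ (m11Ords27 ++ (m11Ords28 ++ (m11Ords29 ++ (m11Ords30 ++ (m11Ords31 ++ (m11Ords32 ++ (m11Ords33 ++ (m11Ords34 ++ (m11Ords35 ++ ([])))))))))))))) :=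
  map_drop_of_chk chunk22 rfl rest23

theorem rest21 : (m11Tabs.drop 4620).map ordT = m11Ords21 ++ (m11Ords22 ++ (m11Ords23 ++ (m11Ords24 ++ (m11Ords25 ++ (m11Ords26 ++ (m11Ords27 ++ (m11Ords28 ++ (m11Ords29 ++ (m11Ords30 ++ (m11Ords31 ++ (m11Ords32 ++ (m11Ords33 ++ (m11Ords34 ++ (m11Ords35 ++ ([]))))))))))))))) :=
  map_drop_of_chk chunk21 rfl rest22

theorem rest20 : (m11Tabs.drop 4400).map ordT = m11Ords20 ++ (m11Ords21 ++ (m11Ords22 ++ (m11Ords23 ++ (m11Ords24 ++ (m11Ords25 ++ (m11Ords26 ++ (m11Ords27 ++ (m11Ords28 ++ (m11Ords29 ++ (m11Ords30 ++ (m11Ords31 ++ (m11Ords32 ++ (m11Ords33 ++ (m11Ords34 ++ (m11Ords35 ++ ([])))))))))))))))) :=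
  map_drop_of_chk chunk20 rfl rest21

theorem rest19 : (m11Tabs.drop 4180).map ordT = m11Ords19 ++ (m11Ords20 ++ (m11Ords21 ++ (m11Ords22 ++ (m11Ords23 ++ (m11Ords24 ++ (m11Ords25 ++ (m11Ords26 ++ (m11Ords27 ++ (m11Ords28 ++ (m11Ords29 ++ (m11Ords30 ++ (m11Ords31 ++ (m11Ords32 ++ (m11Ords33 ++ (m11Ords34 ++ (m11Ords35 ++ ([]))))))))))))))))) :=
  map_drop_of_chk chunk19 rfl rest20

theorem rest18 : (m11Tabs.drop 3960).map ordT = m11Ords18 ++ (m11Ords19 ++ (m11Ords20 ++ (m11Ords21 ++ (m11Ords22 ++ (m11Ords23 ++ (m11Ords24 ++ (m11Ords25 ++ (m11Ords26 ++ (m11Ords27 ++ (m11Ords28 ++ (m11Ords29 ++ (m11Ords30 ++ (m11Ords31 ++ (m11Ords32 ++ (m11Ords33 ++ (m11Ords34 ++ (m11Ords35 ++ ([])))))))))))))))))) :=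
  map_drop_of_chk chunk18 rfl rest19

theorem rest17 : (m11Tabs.drop 3740).map ordT = m11Ords17 ++ (m11Ords18 ++ (m11Ords19 ++ (m11Ords20 ++ (m11Ords21 ++ (m11Ords22 ++ (m11Ords23 ++ (m11Ords24 ++ (m11Ords25 ++ (m11Ords26 ++ (m11Ords27 ++ (m11Ords28 ++ (m11Ords29 ++ (m11Ords30 ++ (m11Ords31 ++ (m11Ords32 ++ (m11Ords33 ++ (m11Ords34 ++ (m11Ords35 ++ ([]))))))))))))))))))) :=
  map_drop_of_chk chunk17 rfl rest18

theorem rest16 : (m11Tabs.drop 3520).map ordT = m11Ords16 ++ (m11Ords17 ++ (m11Ords18 ++ (m11Ords19 ++ (m11Ords20 ++ (m11Ords21 ++ (m11Ords22 ++ (m11Ords23 ++ (m11Ords24 ++ (m11Ords25 ++ (m11Ords26 ++ (m11Ords27 ++ (m11Ords28 ++ (m11Ords29 ++ (m11Ords30 ++ (m11Ords31 ++ (m11Ords32 ++ (m11Ords33 ++ (m11Ords34 ++ (m11Ords35 ++ ([])))))))))))))))))))) :=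
  map_drop_of_chk chunk16 rfl rest17

theorem rest15 : (m11Tabs.drop 3300).map ordT = m11Ords15 ++ (m11Ords16 ++ (m11Ords17 ++ (m11Ords18 ++ (m11Ords19 ++ (m11Ords20 ++ (m11Ords21 ++ (m11Ords22 ++ (m11Ords23 ++ (m11Ords24 ++ (m11Ords25 ++ (m11Ords26 ++ (m11Ords27 ++ (m11Ords28 ++ (m11Ords29 ++ (m11Ords30 ++ (m11Ords31 ++ (m11Ords32 ++ (m11Ords33 ++ (m11Ords34 ++ (m11Ords35 ++ ([]))))))))))))))))))))) :=
  map_drop_of_chk chunk15 rfl rest16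

theorem rest14 : (m11Tabs.drop 3080).map ordT = m11Ords14 ++ (m11Ords15 ++ (m11Ords16 ++ (m11Ords17 ++ (m11Ords18 ++ (m11Ords19 ++ (m11Ords20 ++ (m11Ords21 ++ (m11Ords22 ++ (m11Ords23 ++ (m11Ords24 ++ (m11Ords25 ++ (m11Ords26 ++ (m11Ords27 ++ (m11Ords28 ++ (m11Ords29 ++ (m11Ords30 ++ (m11Ords31 ++ (m11Ords32 ++ (m11Ords33 ++ (m11Ords34 ++ (m11Ords35 ++ ([])))))))))))))))))))))) :=
  map_drop_of_chk chunk14 rfl rest15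

theorem rest13 : (m11Tabs.drop 2860).map ordT = m11Ords13 ++ (m11Ords14 ++ (m11Ords15 ++ (m11Ords16 ++ (m11Ords17 ++ (m11Ords18 ++ (m11Ords19 ++ (m11Ords20 ++ (m11Ords21 ++ (m11Ords22 ++ (m11Ords23 ++ (m11Ords24 ++ (m11Ords25 ++ (m11Ords26 ++ (m11Ords27 ++ (m11Ords28 ++ (m11Ords29 ++ (m11Ords30 ++ (m11Ords31 ++ (m11Ords32 ++ (m11Ords33 ++ (m11Ords34 ++ (m11Ords35 ++ ([]))))))))))))))))))))))) :=
  map_drop_of_chk chunk13 rfl rest14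

theorem rest12 : (m11Tabs.drop 2640).map ordT = m11Ords12 ++ (m11Ords13 ++ (m11Ords14 ++ (m11Ords15 ++ (m11Ords16 ++ (m11Ords17 ++ (m11Ords18 ++ (m11Ords19 ++ (m11Ords20 ++ (m11Ords21 ++ (m11Ords22 ++ (m11Ords23 ++ (m11Ords24 ++ (m11Ords25 ++ (m11Ords26 ++ (m11Ords27 ++ (m11Ords28 ++ (m11Ords29 ++ (m11Ords30 ++ (m11Ords31 ++ (m11Ords32 ++ (m11Ords33 ++ (m11Ords34 ++ (m11Ords35 ++ ([])))))))))))))))))))))))) :=
  map_drop_of_chk chunk12 rfl rest13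

theorem rest11 : (m11Tabs.drop 2420).map ordT = m11Ords11 ++ (m11Ords12 ++ (m11Ords13 ++ (m11Ords14 ++ (m11Ords15 ++ (m11Ords16 ++ (m11Ords17 ++ (m11Ords18 ++ (m11Ords19 ++ (m11Ords20 ++ (m11Ords21 ++ (m11Ords22 ++ (m11Ords23 ++ (m11Ords24 ++ (m11Ords25 ++ (m11Ords26 ++ (m11Ords27 ++ (m11Ords28 ++ (m11Ords29 ++ (m11Ords30 ++ (m11Ords31 ++ (m11Ords32 ++ (m11Ords33 ++ (m11Ords34 ++ (m11Ords35 ++ ([]))))))))))))))))))))))))) :=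
  map_drop_of_chk chunk11 rfl rest12

theorem rest10 : (m11Tabs.drop 2200).map ordT = m11Ords10 ++ (m11Ords11 ++ (m11Ords12 ++ (m11Ords13 ++ (m11Ords14 ++ (m11Ords15 ++ (m11Ords16 ++ (m11Ords17 ++ (m11Ords18 ++ (m11Ords19 ++ (m11Ords20 ++ (m11Ords21 ++ (m11Ords22 ++ (m11Ords23 ++ (m11Ords24 ++ (m11Ords25 ++ (m11Ords26 ++ (m11Ords27 ++ (m11Ords28 ++ (m11Ords29 ++ (m11Ords30 ++ (m11Ords31 ++ (m11Ords32 ++ (m11Ords33 ++ (m11Ords34 ++ (m11Ords35 ++ ([])))))))))))))))))))))))))) :=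
  map_drop_of_chk chunk10 rfl rest11

theorem rest9 : (m11Tabs.drop 1980).map ordT = m11Ords9 ++ (m11Ords10 ++ (m11Ords11 ++ (m11Ords12 ++ (m11Ords13 ++ (m11Ords14 ++ (m11Ords15 ++ (m11Ords16 ++ (m11Ords17 ++ (m11Ords18 ++ (m11Ords19 ++ (m11Ords20 ++ (m11Ords21 ++ (m11Ords22 ++ (m11Ords23 ++ (m11Ords24 ++ (m11Ords25 ++ (m11Ords26 ++ (m11Ords27 ++ (m11Ords28 ++ (m11Ords29 ++ (m11Ords30 ++ (m11Ords31 ++ (m11Ords32 ++ (m11Ords33 ++ (m11Ords34 ++ (m11Ords35 ++ ([]))))))))))))))))))))))))))) :=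
  map_drop_of_chk chunk9 rfl rest10

theorem rest8 : (m11Tabs.drop 1760).map ordT = m11Ords8 ++ (m11Ords9 ++ (m11Ords10 ++ (m11Ords11 ++ (m11Ords12 ++ (m11Ords13 ++ (m11Ords14 ++ (m11Ords15 ++ (m11Ords16 ++ (m11Ords17 ++ (m11Ords18 ++ (m11Ords19 ++ (m11Ords20 ++ (m11Ords21 ++ (m11Ords22 ++ (m11Ords23 ++ (m11Ords24 ++ (m11Ords25 ++ (m11Ords26 ++ (m11Ords27 ++ (m11Ords28 ++ (m11Ords29 ++ (m11Ords30 ++ (m11Ords31 ++ (m11Ords32 ++ (m11Ords33 ++ (m11Ords34 ++ (m11Ords35 ++ ([])))))))))))))))))))))))))))) :=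
  map_drop_of_chk chunk8 rfl rest9

theorem rest7 : (m11Tabs.drop 1540).map ordT = m11Ords7 ++ (m11Ords8 ++ (m11Ords9 ++ (m11Ords10 ++ (m11Ords11 ++ (m11Ords12 ++ (m11Ords13 ++ (m11Ords14 ++ (m11Ords15 ++ (m11Ords16 ++ (m11Ords17 ++ (m11Ords18 ++ (m11Ords19 ++ (m11Ords20 ++ (m11Ords21 ++ (m11Ords22 ++ (m11Ords23 ++ (m11Ords24 ++ (m11Ords25 ++ (m11Ords26 ++ (m11Ords27 ++ (m11Ords28 ++ (m11Ords29 ++ (m11Ords30 ++ (m11Ords31 ++ (m11Ords32 ++ (m11Ords33 ++ (m11Ords34 ++ (m11Ords35 ++ ([]))))))))))))))))))))))))))))) :=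
  map_drop_of_chk chunk7 rfl rest8

theorem rest6 : (m11Tabs.drop 1320).map ordT = m11Ords6 ++ (m11Ords7 ++ (m11Ords8 ++ (m11Ords9 ++ (m11Ords10 ++ (m11Ords11 ++ (m11Ords12 ++ (m11Ords13 ++ (m11Ords14 ++ (m11Ords15 ++ (m11Ords16 ++ (m11Ords17 ++ (m11Ords18 ++ (m11Ords19 ++ (m11Ords20 ++ (m11Ords21 ++ (m11Ords22 ++ (m11Ords23 ++ (m11Ords24 ++ (m11Ords25 ++ (m11Ords26 ++ (m11Ords27 ++ (m11Ords28 ++ (m11Ords29 ++ (m11Ords30 ++ (m11Ords31 ++ (m11Ords32 ++ (m11Ords33 ++ (m11Ords34 ++ (m11Ords35 ++ ([])))))))))))))))))))))))))))))) :=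
  map_drop_of_chk chunk6 rfl rest7

theorem rest5 : (m11Tabs.drop 1100).map ordT = m11Ords5 ++ (m11Ords6 ++ (m11Ords7 ++ (m11Ords8 ++ (m11Ords9 ++ (m11Ords10 ++ (m11Ords11 ++ (m11Ords12 ++ (m11Ords13 ++ (m11Ords14 ++ (m11Ords15 ++ (m11Ords16 ++ (m11Ords17 ++ (m11Ords18 ++ (m11Ords19 ++ (m11Ords20 ++ (m11Ords21 ++ (m11Ords22 ++ (m11Ords23 ++ (m11Ords24 ++ (m11Ords25 ++ (m11Ords26 ++ (m11Ords27 ++ (m11Ords28 ++ (m11Ords29 ++ (m11Ords30 ++ (m11Ords31 ++ (m11Ords32 ++ (m11Ords33 ++ (m11Ords34 ++ (m11Ords35 ++ ([]))))))))))))))))))))))))))))))) :=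
  map_drop_of_chk chunk5 rfl rest6

theorem rest4 : (m11Tabs.drop 880).map ordT = m11Ords4 ++ (m11Ords5 ++ (m11Ords6 ++ (m11Ords7 ++ (m11Ords8 ++ (m11Ords9 ++ (m11Ords10 ++ (m11Ords11 ++ (m11Ords12 ++ (m11Ords13 ++ (m11Ords14 ++ (m11Ords15 ++ (m11Ords16 ++ (m11Ords17 ++ (m11Ords18 ++ (m11Ords19 ++ (m11Ords20 ++ (m11Ords21 ++ (m11Ords22 ++ (m11Ords23 ++ (m11Ords24 ++ (m11Ords25 ++ (m11Ords26 ++ (m11Ords27 ++ (m11Ords28 ++ (m11Ords29 ++ (m11Ords30 ++ (m11Ords31 ++ (m11Ords32 ++ (m11Ords33 ++ (m11Ords34 ++ (m11Ords35 ++ ([])))))))))))))))))))))))))))))))) :=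
  map_drop_of_chk chunk4 rfl rest5

theorem rest3 : (m11Tabs.drop 660).map ordT = m11Ords3 ++ (m11Ords4 ++ (m11Ords5 ++ (m11Ords6 ++ (m11Ords7 ++ (m11Ords8 ++ (m11Ords9 ++ (m11Ords10 ++ (m11Ords11 ++ (m11Ords12 ++ (m11Ords13 ++ (m11Ords14 ++ (m11Ords15 ++ (m11Ords16 ++ (m11Ords17 ++ (m11Ords18 ++ (m11Ords19 ++ (m11Ords20 ++ (m11Ords21 ++ (m11Ords22 ++ (m11Ords23 ++ (m11Ords24 ++ (m11Ords25 ++ (m11Ords26 ++ (m11Ords27 ++ (m11Ords28 ++ (m11Ords29 ++ (m11Ords30 ++ (m11Ords31 ++ (m11Ords32 ++ (m11Ords33 ++ (m11Ords34 ++ (m11Ords35 ++ ([]))))))))))))))))))))))))))))))))) :=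
  map_drop_of_chk chunk3 rfl rest4

theorem rest2 : (m11Tabs.drop 440).map ordT = m11Ords2 ++ (m11Ords3 ++ (m11Ords4 ++ (m11Ords5 ++ (m11Ords6 ++ (m11Ords7 ++ (m11Ords8 ++ (m11Ords9 ++ (m11Ords10 ++ (m11Ords11 ++ (m11Ords12 ++ (m11Ords13 ++ (m11Ords14 ++ (m11Ords15 ++ (m11Ords16 ++ (m11Ords17 ++ (m11Ords18 ++ (m11Ords19 ++ (m11Ords20 ++ (m11Ords21 ++ (m11Ords22 ++ (m11Ords23 ++ (m11Ords24 ++ (m11Ords25 ++ (m11Ords26 ++ (m11Ords27 ++ (m11Ords28 ++ (m11Ords29 ++ (m11Ords30 ++ (m11Ords31 ++ (m11Ords32 ++ (m11Ords33 ++ (m11Ords34 ++ (m11Ords35 ++ ([])))))))))))))))))))))))))))))))))) :=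
  map_drop_of_chk chunk2 rfl rest3

theorem rest1 : (m11Tabs.drop 220).map ordT = m11Ords1 ++ (m11Ords2 ++ (m11Ords3 ++ (m11Ords4 ++ (m11Ords5 ++ (m11Ords6 ++ (m11Ords7 ++ (m11Ords8 ++ (m11Ords9 ++ (m11Ords10 ++ (m11Ords11 ++ (m11Ords12 ++ (m11Ords13 ++ (m11Ords14 ++ (m11Ords15 ++ (m11Ords16 ++ (m11Ords17 ++ (m11Ords18 ++ (m11Ords19 ++ (m11Ords20 ++ (m11Ords21 ++ (m11Ords22 ++ (m11Ords23 ++ (m11Ords24 ++ (m11Ords25 ++ (m11Ords26 ++ (m11Ords27 ++ (m11Ords28 ++ (m11Ords29 ++ (m11Ords30 ++ (m11Ords31 ++ (m11Ords32 ++ (m11Ords33 ++ (m11Ords34 ++ (m11Ords35 ++ ([]))))))))))))))))))))))))))))))))))) :=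
  map_drop_of_chk chunk1 rfl rest2

theorem rest0 : (m11Tabs.drop 0).map ordT = m11Ords0 ++ (m11Ords1 ++ (m11Ords2 ++ (m11Ords3 ++ (m11Ords4 ++ (m11Ords5 ++ (m11Ords6 ++ (m11Ords7 ++ (m11Ords8 ++ (m11Ords9 ++ (m11Ords10 ++ (m11Ords11 ++ (m11Ords12 ++ (m11Ords13 ++ (m11Ords14 ++ (m11Ords15 ++ (m11Ords16 ++ (m11Ords17 ++ (m11Ords18 ++ (m11Ords19 ++ (m11Ords20 ++ (m11Ords21 ++ (m11Ords22 ++ (m11Ords23 ++ (m11Ords24 ++ (m11Ords25 ++ (m11Ords26 ++ (m11Ords27 ++ (m11Ords28 ++ (m11Ords29 ++ (m11Ords30 ++ (m11Ords31 ++ (m11Ords32 ++ (m11Ords33 ++ (m11Ords34 ++ (m11Ords35 ++ ([])))))))))))))))))))))))))))))))))))) :=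
  map_drop_of_chk chunk0 rfl rest1

/-- The orders of the tables of `m11Tabs`, in the order of that list. -/
def m11Ords : List ℕ := m11Ords0 ++ (m11Ords1 ++ (m11Ords2 ++ (m11Ords3 ++ (m11Ords4 ++ (m11Ords5 ++ (m11Ords6 ++ (m11Ords7 ++ (m11Ords8 ++ (m11Ords9 ++ (m11Ords10 ++ (m11Ords11 ++ (m11Ords12 ++ (m11Ords13 ++ (m11Ords14 ++ (m11Ords15 ++ (m11Ords16 ++ (m11Ords17 ++ (m11Ords18 ++ (m11Ords19 ++ (m11Ords20 ++ (m11Ords21 ++ (m11Ords22 ++ (m11Ords23 ++ (m11Ords24 ++ (m11Ords25 ++ (m11Ords26 ++ (m11Ords27 ++ (m11Ords28 ++ (m11Ords29 ++ (m11Ords30 ++ (m11Ords31 ++ (m11Ords32 ++ (m11Ords33 ++ (m11Ords34 ++ (m11Ords35 ++ ([]))))))))))))))))))))))))))))))))))))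

theorem map_ordT_m11 : m11Tabs.map ordT = m11Ords := rest0

set_option maxRecDepth 100000 in
theorem count_m11Ords : ∀ n ∈ List.range 13, m11Ords.count n =
    ([0, 1, 165, 440, 990, 1584, 1320, 0, 1980, 0, 0, 1440, 0] : List ℕ).getD n 0 := by
  decide +kernel

end Cfsg.Agent.Helper54.M11Nse
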