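import Mathlib
import Cfsg.Agent.Helper54.M11NseC

/-!
# Element orders in the concrete Mathieu group `M₁₁` (for S3592): the counts

`card_orderOf_M11 n`: the number of elements of order `n` of `Cfsg.Spor.M11`.
-/

set_option autoImplicit false

namespace Cfsg.Agent.Helper54.M11Nse

open Cfsg Cfsg.Agent.Helper7

/-- The number of elements of each order in `M₁₁`. -/
def m11Counts : List ℕ := [0, 1, 165, 440, 990, 1584, 1320, 0, 1980, 0, 0, 1440, 0]

theorem count_ordT (n : ℕ) : (m11Tabs.map ordT).count n = m11Counts.getD n 0 := by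
  by_cases hn : n < 13
  · rw [map_ordT_m11]
    exact count_m11Ords n (List.mem_range.mpr hn)
  · have h1 : (m11Tabs.map ordT).count n = 0 := by
      apply List.count_eq_zero.mpr
      intro hmem
      obtain ⟨l, _, hl⟩ := List.mem_map.mp hmem
      exact hn (hl ▸ ordT_lt l)
    have h2 : m11Counts.getD n 0 = 0 := by
      rw [List.getD_eq_default]
      simp only [m11Counts, List.length_cons, List.length_nil]
      omega
    rw [h1, h2]

theorem ordT_ne_zero {l : List ℕ} (hl : l ∈ m11Tabs) : ordT l ≠ 0 := by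
  intro h
  have hmem : 0 ∈ m11Tabs.map ordT := List.mem_map.mpr ⟨l, hl, h⟩
  have h1 := List.count_pos_iff.mpr hmem
  rw [count_ordT 0] at h1
  exact absurd h1 (by decide)

theorem tableOf_mem (g : ↥(fixG M12 [0])) : tableOf g.1 ∈ m11Tabs := by
  obtain ⟨l, hl, hlt⟩ := m11_sift g.1 g.2
  rwa [← hlt.eq_tableOf]

theorem m11Tabs_nodup : m11Tabs.Nodup := by
  classical
  let φ : ↥(fixG M12 [0]) → {l // l ∈ m11Tabs.toFinset} :=
    fun g => ⟨tableOf g.1, List.mem_toFinset.mpr (tableOf_mem g)⟩
  have hinj : Function.Injective φ := by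
    intro g g' h
    have h' : tableOf g.1 = tableOf g'.1 := congrArg Subtype.val h
    apply Subtype.ext
    have h2 := isTable_tableOf g'.1
    rw [← h'] at h2
    exact (isTable_tableOf g.1).inj h2
  have h1 : Nat.card ↥(fixG M12 [0]) ≤ Nat.card {l // l ∈ m11Tabs.toFinset} :=
    Nat.card_le_card_of_injective φ hinj
  rw [card_fixG_m12_1, Nat.card_eq_fintype_card, Fintype.card_coe] at h1
  have h2 := List.toFinset_card_le m11Tabs
  rw [m11Tabs_length] at h2
  have h3 : (m11Tabs : Multiset (List ℕ)).toFinset.card = Multiset.card (m11Tabs : Multiset (List ℕ)) := by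
    rw [Multiset.coe_card, m11Tabs_length]
    exact le_antisymm h2 h1
  exact Multiset.coe_nodup.mp (Multiset.toFinset_card_eq_card_iff_nodup.mp h3)

theorem orderOf_fixG (g : ↥(fixG M12 [0])) : orderOf g = ordT (tableOf g.1) := by
  rw [← Subgroup.orderOf_coe]
  exact orderOf_eq_ordT (isTable_tableOf g.1) (ordT_ne_zero (tableOf_mem g))

theorem card_orderOf_fixG (n : ℕ) :
    Nat.card {g : ↥(fixG M12 [0]) // orderOf g = n} = m11Counts.getD n 0 := by
  classical
  rw [← count_ordT]
  let S := m11Tabs.toFinset.filter (fun l => ordT l = n)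
  let φ : {g : ↥(fixG M12 [0]) // orderOf g = n} → {l // l ∈ S} := fun g =>
    ⟨tableOf g.1.1, by
      rw [Finset.mem_filter, List.mem_toFinset]
      exact ⟨tableOf_mem g.1, (orderOf_fixG g.1).symm.trans g.2⟩⟩
  have hbij : Function.Bijective φ := by
    constructor
    · intro g g' h
      have h' : tableOf g.1.1 = tableOf g'.1.1 := congrArg Subtype.val h
      apply Subtype.ext
      apply Subtype.ext
      have h2 := isTable_tableOf g'.1.1
      rw [← h'] at h2
      exact (isTable_tableOf g.1.1).inj h2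
    · rintro ⟨l, hl⟩
      have hl2 := hl
      rw [Finset.mem_filter, List.mem_toFinset] at hl2
      obtain ⟨g, hg, hgl⟩ := tabled_m11Tabs l hl2.1
      have hl' : l = tableOf g := hgl.eq_tableOf
      refine ⟨⟨⟨g, hg⟩, ?_⟩, ?_⟩
      · rw [orderOf_fixG]
        show ordT (tableOf g) = n
        rw [← hl']
        exact hl2.2
      · apply Subtype.ext
        exact hl'.symm
  rw [Nat.card_eq_of_bijective φ hbij, Nat.card_eq_fintype_card, Fintype.card_coe,
    m11Tabs_nodup.card_eq_countP, List.count, List.countP_map]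
  congr 1

/-- The number of elements of order `n` in the concrete `M₁₁`. -/
theorem card_orderOf_M11 (n : ℕ) :
    Nat.card {g : ↥Cfsg.Spor.M11 // orderOf g = n} = m11Counts.getD n 0 := by
  rw [sporM11_eq]
  exact card_orderOf_fixG n

theorem card_M11 : Nat.card ↥Cfsg.Spor.M11 = 7920 := by
  rw [sporM11_eq]
  exact card_fixG_m12_1

theorem card_orderOf_M11_ne (n : ℕ) :
    Nat.card {g : ↥Cfsg.Spor.M11 // orderOf g = n} ≠ 10 ∧
    Nat.card {g : ↥Cfsg.Spor.M11 // orderOf g = n} ≠ 120 ∧
    Nat.card {g : ↥Cfsg.Spor.M11 // orderOf g = n} ≠ 450 := by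
  rw [card_orderOf_M11]
  by_cases hn : n < 13
  · interval_cases n <;> decide
  · have : m11Counts.getD n 0 = 0 := by
      rw [List.getD_eq_default]
      simp only [m11Counts, List.length_cons, List.length_nil]
      omega
    rw [this]
    decide

end Cfsg.Agent.Helper54.M11Nse
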