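import Mathlib
import Cfsg.Agent.Helper54.M11NseB
import Cfsg.Agent.Helper54.M11NseD
import Cfsg.Agent.Helper80.Ord7920N11
import Cfsg.Agent.Helper7.M12Trans
import Cfsg.Agent.Helper7.Dodecad
import Cfsg.Prelude.Def_Sporadic

/-!
# S3592 without the uniqueness theorem: a group with the order and the same-order counts of `M₁₁`
is simple of order `7920`; and the concrete `M₁₁` in the stabiliser form.
-/

set_option autoImplicit false

namespace Cfsg.Agent.Helper54.M11Nse

open Cfsg Cfsg.Agent.Helper7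
open scoped Pointwise

theorem isM11_of_nse {G : Type*} [Group G] [Finite G]
    (hcard : Nat.card G = Nat.card ↥Cfsg.Spor.M11)
    (hnse : {c : ℕ | 0 < c ∧ ∃ n : ℕ, c = Nat.card {g : G // orderOf g = n}} =
      {c : ℕ | 0 < c ∧ ∃ n : ℕ, c = Nat.card {g : ↥Cfsg.Spor.M11 // orderOf g = n}}) :
    Cfsg.IsM11 G := by
  have : Fact (Nat.Prime 11) := ⟨by norm_num⟩
  have hG : Nat.card G = 7920 := hcard.trans card_M11
  have hpos : 0 < Nat.card {g : G // orderOf g = 11} := by
    obtain ⟨g, hg⟩ := exists_prime_orderOf_dvd_card' (G := G) 11 (by rw [hG]; norm_num)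
    have : Nonempty {g : G // orderOf g = 11} := ⟨⟨g, hg⟩⟩
    exact Nat.card_pos
  have hmem : Nat.card {g : G // orderOf g = 11} ∈
      {c : ℕ | 0 < c ∧ ∃ n : ℕ, c = Nat.card {g : ↥Cfsg.Spor.M11 // orderOf g = n}} := by
    rw [← hnse]
    exact ⟨hpos, 11, rfl⟩
  obtain ⟨_, n, hn⟩ := hmem
  obtain ⟨h10, h120, h450⟩ := card_orderOf_M11_ne n
  rw [← hn] at h10 h120 h450
  have h144 := card_sylow11_of_count hG h10 h120 h450
  exact ⟨Cfsg.Agent.Helper80.Ord7920N11.simple_of_card_sylow11 hG h144, hG⟩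

/-- The concrete `M₁₁` is isomorphic to the stabiliser of a dodecad and one of its points. -/
theorem exists_dodecad_point_equiv : ∃ (d : Finset GolayPt) (_ : d ∈ dodecads) (p : GolayPt)
    (_ : p ∈ d), Nonempty (↥(MulAction.stabilizer M24 d ⊓ MulAction.stabilizer M24 p) ≃*
      ↥Cfsg.Spor.M11) := by
  have hc : d0F.card = 12 := by
    obtain ⟨w, _, _, h⟩ := (mem_dodecads_iff d0F).mp d0F_mem
    exact h
  obtain ⟨p, hp⟩ : d0F.Nonempty := Finset.card_pos.mp (by rw [hc]; norm_num)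
  refine ⟨d0F, d0F_mem, p, hp, ?_⟩
  rw [sporM11_eq]
  exact m11StabEquiv d0F_mem hp

end Cfsg.Agent.Helper54.M11Nse
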