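import Cfsg.Agent.Helper39.SimpOrd.Kit
import Cfsg.Agent.Helper17.LemmaR

/-!
# No simple group of order 4680 (WANTED-C of #3854, for S0983)

`4680 = 2^3 * 3^2 * 5 * 13`.  `n_13 = 40`, `|N(P)| = 117`, `|C(P)| = 39`.  An element `w` of
order `3` of `C(P)` fixes exactly one Sylow `13`-subgroup (`P`).  A Sylow `3`-subgroup `T ∋ w`
is abelian of order `9`, so `T ≤ C(w) ≤ N(P)`, and `N(T)` permutes the fixed points of `w`
on the conjugates of `P` lying under `T`: `N(T) ≤ N(P)`.  Hence `|N(T)| ∈ {9, 117}`;
`117` puts `T` in `C(P)`, and `9` contradicts Burnside's transfer theorem.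
-/

set_option autoImplicit false
set_option linter.style.haveILetI false

namespace Cfsg.Agent.Helper54.Ord4680

open Subgroup Cfsg.Agent.Helper9 Cfsg.Agent.Helper17 Cfsg.Agent.Helper39.SimpOrd

theorem no_simple_4680 {G : Type*} [Group G] [Finite G] [IsSimpleGroup G]
    (h : Nat.card G = 4680) : False := by
  haveI : Fact (Nat.Prime 13) := ⟨by norm_num⟩
  haveI : Fact (Nat.Prime 3) := ⟨by norm_num⟩
  have hG : ¬ IsMulCommutative G := not_comm_of_simple_of_not_prime (by rw [h]; norm_num)
  have hcard13 : Nat.card G = 13 ^ 1 * 360 := h.trans (by norm_num)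
  have hcard3 : Nat.card G = 3 ^ 2 * 520 := h.trans (by norm_num)
  -- `n_13 = 40`
  have h13 : Nat.card (Sylow 13 G) = 40 := by
    have hmem := card_sylow_mem_npList hG 13 1 360 (by norm_num) hcard13 (by norm_num)
      (by norm_num) (by norm_num)
    have hL : npList 13 1 360 = [40] := by decide +kernel
    rw [hL, List.mem_singleton] at hmem
    exact hmem
  obtain ⟨P⟩ : Nonempty (Sylow 13 G) := inferInstance
  have hP : Nat.card (P : Subgroup G) = 13 := by
    have := card_sylow_subgroup_of_card_eq (p := 13) (k := 1) (m := 360) hcard13 (by norm_num) P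
    simpa using this
  have hN : Nat.card (normalizer ((P : Subgroup G) : Set G)) = 117 :=
    card_normalizer_of_card_sylow P h h13 (by norm_num) (by norm_num)
  -- `|C(P)| = 39`
  obtain ⟨hd12, hd117⟩ := relIndex_dvd_of_card_sylow_prime P hP
  have hne := not_normalizer_le_centralizer_of_simple P (by rw [hP]; norm_num)
    (by rw [hP, h]; norm_num)
  have hCmul := card_centralizer_mul_relIndex (P : Subgroup G)
  have hd1 : (centralizer ((P : Subgroup G) : Set G)).relIndex
      (normalizer ((P : Subgroup G) : Set G)) ≠ 1 :=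
    fun h1 => hne (Subgroup.relIndex_eq_one.mp h1)
  rw [hN] at hd117 hCmul
  have hC : Nat.card (centralizer ((P : Subgroup G) : Set G)) = 39 := by
    generalize (centralizer ((P : Subgroup G) : Set G)).relIndex
      (normalizer ((P : Subgroup G) : Set G)) = d at hd12 hd117 hd1 hCmul
    have hd : d ≤ 12 := Nat.le_of_dvd (by norm_num) hd12
    interval_cases d <;> omega
  -- an element `w` of order `3` centralizing `P`
  obtain ⟨w', hw'⟩ := exists_prime_orderOf_dvd_card'
    (G := ↥(centralizer ((P : Subgroup G) : Set G))) 3 (by rw [hC]; norm_num)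
  obtain ⟨w, hwdef⟩ : ∃ w : G, w = (w' : G) := ⟨_, rfl⟩
  have hw3 : orderOf w = 3 := by rw [hwdef, Subgroup.orderOf_coe, hw']
  have hwC : w ∈ centralizer ((P : Subgroup G) : Set G) := by rw [hwdef]; exact w'.2
  have hfix : fixSyl 13 w = {P} :=
    fixSyl_eq_singleton P (q := 3) (by norm_num) (by rw [h13]) w hwC hw3
  have hfix' : ∀ R : Sylow 13 G, w • R = R → R = P := by
    intro R hR
    have : R ∈ fixSyl 13 w := mem_fixSyl.mpr hR
    rw [hfix, Finset.mem_singleton] at this
    exact this
  have hwP : w • P = P := by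
    rw [Sylow.smul_eq_iff_mem_normalizer]
    exact Subgroup.centralizer_le_normalizer _ hwC
  -- a Sylow `3`-subgroup `T` containing `w`
  have hZ : IsPGroup 3 (Subgroup.zpowers w) := by
    apply IsPGroup.of_card (n := 1)
    rw [Nat.card_zpowers, hw3, pow_one]
  obtain ⟨T, hT⟩ := hZ.exists_le_sylow
  have hwT : w ∈ (T : Subgroup G) := hT (Subgroup.mem_zpowers w)
  have hTcard : Nat.card (T : Subgroup G) = 3 ^ 2 :=
    card_sylow_subgroup_of_card_eq (p := 3) (k := 2) (m := 520) hcard3 (by norm_num) T
  have hTcomm : ∀ a b : (T : Subgroup G), a * b = b * a := by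
    have hc : IsMulCommutative (T : Subgroup G) := IsPGroup.isMulCommutative_of_card_eq_prime_sq hTcard
    exact fun a b => hc.is_comm.comm a b
  have hTcomm' : ∀ a ∈ (T : Subgroup G), ∀ b ∈ (T : Subgroup G), a * b = b * a :=
    fun a ha b hb => congrArg Subtype.val (hTcomm ⟨a, ha⟩ ⟨b, hb⟩)
  -- `T ≤ N(P)`
  have hTN : ∀ t ∈ (T : Subgroup G), t • P = P := by
    intro t ht
    apply hfix'
    rw [← mul_smul, hTcomm' w hwT t ht, mul_smul, hwP]
  -- `N(T) ≤ N(P)`
  have hNT : normalizer ((T : Subgroup G) : Set G) ≤ normalizer ((P : Subgroup G) : Set G) := by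
    intro g hg
    refine Sylow.smul_eq_iff_mem_normalizer.mp ?_
    apply hfix'
    have hg' : g⁻¹ ∈ normalizer ((T : Subgroup G) : Set G) := Subgroup.inv_mem _ hg
    have hmem : g⁻¹ * w * g ∈ (T : Subgroup G) := by
      have := (Subgroup.mem_normalizer_iff.mp hg' w).mp hwT
      simpa using this
    have h1 := hTN _ hmem
    calc w • g • P = (g * (g⁻¹ * w * g)) • P := by rw [← mul_smul]; congr 1; group
      _ = g • P := by rw [mul_smul, h1]
  -- `|N(T)| ∈ {9, 117}`
  have hTle : (T : Subgroup G) ≤ normalizer ((T : Subgroup G) : Set G) := Subgroup.le_normalizer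
  have hdvd1 : 9 ∣ Nat.card (normalizer ((T : Subgroup G) : Set G)) := by
    have := Subgroup.card_dvd_of_le hTle
    rwa [hTcard] at this
  have hdvd2 : Nat.card (normalizer ((T : Subgroup G) : Set G)) ∣ 117 := by
    have := Subgroup.card_dvd_of_le hNT
    rwa [hN] at this
  have hcases : Nat.card (normalizer ((T : Subgroup G) : Set G)) = 9 ∨
      Nat.card (normalizer ((T : Subgroup G) : Set G)) = 117 := by
    generalize Nat.card (normalizer ((T : Subgroup G) : Set G)) = x at hdvd1 hdvd2
    have hx : x ≤ 117 := Nat.le_of_dvd (by norm_num) hdvd2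
    obtain ⟨y, rfl⟩ := hdvd1
    have hy : y ≤ 13 := by omega
    interval_cases y <;> omega
  rcases hcases with h9 | h117
  · -- `N(T) = T ≤ C(T)`: Burnside
    have hNTeq : normalizer ((T : Subgroup G) : Set G) = (T : Subgroup G) := by
      symm
      apply Subgroup.eq_of_le_of_card_ge hTle
      rw [h9, hTcard]; norm_num
    apply not_normalizer_le_centralizer_of_simple T (by rw [hTcard]; norm_num)
      (by rw [hTcard, h]; norm_num)
    rw [hNTeq]
    intro a ha
    rw [Subgroup.mem_centralizer_iff]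
    intro b hb
    exact hTcomm' b hb a ha
  · -- `N(T) = N(P)`, so `P` and `T` normalize each other and `T ≤ C(P)`
    have hNTeq : normalizer ((T : Subgroup G) : Set G) = normalizer ((P : Subgroup G) : Set G) := by
      apply Subgroup.eq_of_le_of_card_ge hNT
      rw [h117, hN]
    have hdisj : (P : Subgroup G) ⊓ (T : Subgroup G) = ⊥ :=
      (Subgroup.disjoint_of_coprime_natCard (by rw [hP, hTcard]; norm_num)).eq_bot
    have hTC : (T : Subgroup G) ≤ centralizer ((P : Subgroup G) : Set G) := by
      intro t ht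
      rw [Subgroup.mem_centralizer_iff]
      intro a ha
      have htN : t ∈ normalizer ((P : Subgroup G) : Set G) := hNTeq ▸ hTle ht
      have haN : a ∈ normalizer ((T : Subgroup G) : Set G) := by
        rw [hNTeq]; exact Subgroup.le_normalizer ha
      have h1 : t * a * t⁻¹ ∈ (P : Subgroup G) := (Subgroup.mem_normalizer_iff.mp htN a).mp ha
      have h2 : a * t⁻¹ * a⁻¹ ∈ (T : Subgroup G) :=
        (Subgroup.mem_normalizer_iff.mp haN t⁻¹).mp (Subgroup.inv_mem _ ht)
      have h3 : t * a * t⁻¹ * a⁻¹ ∈ (P : Subgroup G) ⊓ (T : Subgroup G) := by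
        refine ⟨Subgroup.mul_mem _ h1 (Subgroup.inv_mem _ ha), ?_⟩
        have : t * a * t⁻¹ * a⁻¹ = t * (a * t⁻¹ * a⁻¹) := by group
        rw [this]
        exact Subgroup.mul_mem _ ht h2
      rw [hdisj, Subgroup.mem_bot] at h3
      calc a * t = (t * a * t⁻¹ * a⁻¹)⁻¹ * (t * a) := by group
        _ = t * a := by rw [h3]; simp
    have := Subgroup.card_dvd_of_le hTC
    rw [hTcard, hC] at this
    norm_num at this

end Cfsg.Agent.Helper54.Ord4680
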