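import Cfsg.Agent.Helper17.SylowKit
import Cfsg.Agent.Helper17.SylowKit2

/-!
# Two tools for killing simple orders `p^2 * m` (used for 4200 and 5400, S0983)

* `sylow_subsingleton_of_two_mul_odd`: a group of order `2 * (p^k * r)` (odd cofactor) in which
  Sylow arithmetic on `p^k * r` forces `n_p = 1` has a single Sylow `p`-subgroup.
* `centralizer_inf_data`: for two distinct Sylow `p`-subgroups of order `p^2` meeting
  non-trivially, the centralizer `H` of the intersection contains both, `|H| = p^2 * (n * m)` with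
  `n ≥ p + 1`, `n ≡ 1 mod p`, and `2 |G|` divides `[G : H]!`.
-/

set_option autoImplicit false
set_option linter.style.haveILetI false

namespace Cfsg.Agent.Helper54.OrdKit

open Subgroup Cfsg.Agent.Helper17

/-- Lemma (T). -/
theorem sylow_subsingleton_of_two_mul_odd {H : Type*} [Group H] [Finite H] {p : ℕ}
    [hp : Fact p.Prime] (hp2 : p ≠ 2) {k r : ℕ} (hcard : Nat.card H = 2 * (p ^ k * r))
    (hodd : Odd (p ^ k * r)) (hr : ¬ p ∣ r) (huniq : ∀ n, n ∣ r → n % p = 1 → n = 1) :
    Subsingleton (Sylow p H) := by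
  haveI : Fact (Nat.Prime 2) := ⟨Nat.prime_two⟩
  have h2u : ¬ 2 ∣ p ^ k * r := by
    rw [← even_iff_two_dvd, Nat.not_even_iff_odd]; exact hodd
  obtain ⟨S⟩ : Nonempty (Sylow 2 H) := inferInstance
  have hScard : Nat.card (S : Subgroup H) = 2 := by
    have := card_sylow_subgroup_of_card_eq (p := 2) (k := 1) (m := p ^ k * r)
      (by rw [hcard, pow_one]) h2u S
    simpa using this
  have hScyc : IsCyclic (S : Subgroup H) := isCyclic_of_prime_card hScard
  have hmin : (Nat.card H).minFac = 2 :=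
    (Nat.minFac_eq_two_iff _).mpr (by rw [hcard]; exact dvd_mul_right 2 _)
  have hNC := hScyc.normalizer_le_centralizer hmin
  set φ := MonoidHom.transferSylow S hNC with hφ
  have hc : IsComplement' φ.ker (S : Subgroup H) :=
    MonoidHom.ker_transferSylow_isComplement' S hNC
  have hKcard : Nat.card φ.ker = p ^ k * r := by
    have := hc.card_mul_card
    rw [hScard, hcard] at this
    omega
  -- every `p`-element lies in the kernel
  have hmem : ∀ (x : H) (j : ℕ), x ^ (p ^ j) = 1 → x ∈ φ.ker := by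
    intro x j hx
    rw [MonoidHom.mem_ker]
    have h1 : (φ x) ^ (p ^ j) = 1 := by rw [← map_pow, hx, map_one]
    have h2 : (φ x) ^ 2 = 1 := by
      have := pow_card_eq_one' (G := (S : Subgroup H)) (x := φ x)
      rwa [hScard] at this
    have hd1 := orderOf_dvd_of_pow_eq_one h1
    have hd2 := orderOf_dvd_of_pow_eq_one h2
    have hcop : Nat.Coprime (p ^ j) 2 := by
      apply Nat.Coprime.pow_left
      exact (Nat.coprime_primes hp.out Nat.prime_two).mpr hp2
    have := Nat.dvd_gcd hd1 hd2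
    rw [hcop, Nat.dvd_one] at this
    exact orderOf_eq_one_iff.mp this
  have hle : ∀ Q : Sylow p H, (Q : Subgroup H) ≤ φ.ker := by
    intro Q x hx
    obtain ⟨j, hj⟩ := Q.2 ⟨x, hx⟩
    exact hmem x j (congrArg Subtype.val hj)
  -- the kernel has a single Sylow `p`-subgroup
  have hone : Nat.card (Sylow p φ.ker) = 1 := by
    have hdvd := card_sylow_dvd_of_card_eq (G := φ.ker) hKcard hr
    have hmod := card_sylow_modEq_one p φ.ker
    apply huniq _ hdvd
    have h1 : Nat.card (Sylow p φ.ker) % p = 1 % p := hmod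
    rwa [Nat.mod_eq_of_lt hp.out.one_lt] at h1
  haveI : Subsingleton (Sylow p φ.ker) := (Nat.card_eq_one_iff_unique.mp hone).1
  refine ⟨fun Q₁ Q₂ => ?_⟩
  exact Sylow.subtype_injective (hP := hle Q₁) (hQ := hle Q₂) (Subsingleton.elim _ _)

variable {G : Type*} [Group G]

/-- Step (D). -/
theorem centralizer_inf_data [Finite G] [IsSimpleGroup G] (hG : ¬ IsMulCommutative G) {p : ℕ}
    [Fact p.Prime] (P R : Sylow p G) (hPR : P ≠ R)
    (hPcard : Nat.card (P : Subgroup G) = p ^ 2)
    (hD : (P : Subgroup G) ⊓ (R : Subgroup G) ≠ ⊥) :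
    (P : Subgroup G) ≤ centralizer (((P : Subgroup G) ⊓ (R : Subgroup G) : Subgroup G) : Set G) ∧
    (R : Subgroup G) ≤ centralizer (((P : Subgroup G) ⊓ (R : Subgroup G) : Subgroup G) : Set G) ∧
    ∃ n m : ℕ, p + 1 ≤ n ∧ n % p = 1 ∧
      Nat.card (centralizer (((P : Subgroup G) ⊓ (R : Subgroup G) : Subgroup G) : Set G)) =
        p ^ 2 * (n * m) ∧
      2 * Nat.card G ∣
        ((centralizer (((P : Subgroup G) ⊓ (R : Subgroup G) : Subgroup G) : Set G)).index).factorial := by
  have hRcard : Nat.card (R : Subgroup G) = p ^ 2 := by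
    rw [R.card_eq_multiplicity, ← P.card_eq_multiplicity, hPcard]
  have hcommP : IsMulCommutative (P : Subgroup G) :=
    IsPGroup.isMulCommutative_of_card_eq_prime_sq hPcard
  have hcommR : IsMulCommutative (R : Subgroup G) :=
    IsPGroup.isMulCommutative_of_card_eq_prime_sq hRcard
  have hPH : (P : Subgroup G) ≤
      centralizer (((P : Subgroup G) ⊓ (R : Subgroup G) : Subgroup G) : Set G) := by
    intro a ha
    rw [Subgroup.mem_centralizer_iff]
    intro d hd
    exact congrArg Subtype.val (hcommP.is_comm.comm ⟨d, hd.1⟩ ⟨a, ha⟩)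
  have hRH : (R : Subgroup G) ≤
      centralizer (((P : Subgroup G) ⊓ (R : Subgroup G) : Subgroup G) : Set G) := by
    intro a ha
    rw [Subgroup.mem_centralizer_iff]
    intro d hd
    exact congrArg Subtype.val (hcommR.is_comm.comm ⟨d, hd.2⟩ ⟨a, ha⟩)
  refine ⟨hPH, hRH, ?_⟩
  -- the centralizer is proper
  have hD1 : Nat.card ((P : Subgroup G) ⊓ (R : Subgroup G) : Subgroup G) ≠ 1 := by
    intro h1; exact hD (Subgroup.card_eq_one.mp h1)
  have hD2 : Nat.card ((P : Subgroup G) ⊓ (R : Subgroup G) : Subgroup G) ≠ Nat.card G := by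
    intro h2
    have htop : (P : Subgroup G) ⊓ (R : Subgroup G) = ⊤ := Subgroup.eq_top_of_card_eq _ h2
    have hPtop : (P : Subgroup G) = ⊤ := top_le_iff.mp (htop ▸ inf_le_left)
    have hRtop : (R : Subgroup G) = ⊤ := top_le_iff.mp (htop ▸ inf_le_right)
    exact hPR (Sylow.ext (hPtop.trans hRtop.symm))
  have hNtop := normalizer_ne_top_of_simple _ hD1 hD2
  have hHtop : centralizer (((P : Subgroup G) ⊓ (R : Subgroup G) : Subgroup G) : Set G) ≠ ⊤ := by
    intro h
    apply hNtop
    exact top_le_iff.mp (h ▸ Subgroup.centralizer_le_normalizer _)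
  obtain ⟨n, m, hn1, hn2, hcard⟩ := card_ge_of_two_sylow_le P R hPR hPH hRH
  refine ⟨n, m, hn1, hn2, ?_, two_mul_card_dvd_factorial_index hG _ hHtop⟩
  rw [hcard, hPcard]

end Cfsg.Agent.Helper54.OrdKit
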