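import Cfsg.Agent.Helper39.SimpOrd.Kit
import Cfsg.Agent.Helper17.SylowInter
import Cfsg.Agent.Helper17.FixedPt
import Cfsg.Agent.Helper17.FixedCosets
import Cfsg.Agent.Helper70.PCount7
import Cfsg.Agent.Helper66.Wielandt
import Cfsg.Agent.Helper54.OrdKit

/-!
# No simple group of order 5400 (open order of #3854 WANTED-E, for S0983)

`5400 = 2^3 * 3^3 * 5^2`.  `n_5 = 36`, `|N(P)| = 150`.  Let `t ∈ N(P)` have order `3`,
`X = {R ≠ P : P ∩ R ≠ 1}`, `Y = {R ≠ P : P ∩ R = 1}`.  `P` acts on `Y` with regular orbits, so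
`25 ∣ |Y|` and `|X| ∈ {10, 35}`.  `⟨t⟩` acts on `X` without fixed points (a fixed `R` puts `t`
into `C(P ∩ R) ∩ N(P)`, whose order is `25` or `50`), so `3 ∣ |X|`.
-/

set_option autoImplicit false
set_option linter.style.haveILetI false

namespace Cfsg.Agent.Helper54.Ord5400

open Subgroup Cfsg.Agent.Helper9 Cfsg.Agent.Helper17 Cfsg.Agent.Helper39.SimpOrd
  Cfsg.Agent.Helper54.OrdKit

variable {G : Type*} [Group G]

/-- Inside `H` (order `25 c`) containing two Sylow `5`-subgroups of `G`, an element of order `3`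
cannot normalize one of them when the arithmetic forbids it. -/
theorem claim_aux [Finite G] [Fact (Nat.Prime 5)] {H : Subgroup G} (P : Sylow 5 G)
    (hPH : (P : Subgroup G) ≤ H) (R : Sylow 5 G) (hRH : (R : Subgroup G) ≤ H)
    (hne : P.subtype hPH ≠ R.subtype hRH) {c : ℕ} (hcH : Nat.card H = 5 ^ 2 * c)
    (h5c : ¬ 5 ∣ c)
    (hkill : ∀ n N : ℕ, n ∣ c → n % 5 = 1 → n ≠ 1 → N * n = 5 ^ 2 * c → ¬ 3 ∣ N)
    (t : G) (ht3 : orderOf t = 3) (htP : t ∈ normalizer ((P : Subgroup G) : Set G))
    (htH : t ∈ H) : False := by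
  have hdvd := card_sylow_dvd_of_card_eq (G := H) hcH h5c
  have hmod := card_sylow_modEq_one 5 H
  have hne1 : Nat.card (Sylow 5 H) ≠ 1 :=
    fun h1 => hne ((Nat.card_eq_one_iff_unique.mp h1).1.elim _ _)
  have hmul := card_normalizer_mul_card_sylow (P.subtype hPH)
  rw [hcH] at hmul
  have hmod' : Nat.card (Sylow 5 H) % 5 = 1 := by
    have h1 : Nat.card (Sylow 5 H) % 5 = 1 % 5 := hmod
    simpa using h1
  apply hkill _ _ hdvd hmod' hne1 hmul
  have htN : (⟨t, htH⟩ : H) ∈ normalizer (((P.subtype hPH : Sylow 5 H) : Subgroup H) : Set H) := by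
    rw [Subgroup.mem_normalizer_iff]
    intro x
    rw [Sylow.coe_subtype, Subgroup.mem_subgroupOf, Subgroup.mem_subgroupOf]
    exact Subgroup.mem_normalizer_iff.mp htP x
  have := orderOf_dvd_natCard
    (⟨⟨t, htH⟩, htN⟩ : normalizer (((P.subtype hPH : Sylow 5 H) : Subgroup H) : Set H))
  rwa [Subgroup.orderOf_mk, Subgroup.orderOf_mk, ht3] at this

/-- the claim: `t ∈ N(P)` of order `3` normalizes no `R ≠ P` meeting `P` non-trivially -/
theorem claim [Finite G] [IsSimpleGroup G] (h : Nat.card G = 5400)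
    (hG : ¬ IsMulCommutative G) [Fact (Nat.Prime 5)] [Fact (Nat.Prime 3)]
    (P R : Sylow 5 G) (hPR : R ≠ P)
    (hD : (P : Subgroup G) ⊓ (R : Subgroup G) ≠ ⊥) (t : G) (ht3 : orderOf t = 3)
    (htP : t ∈ normalizer ((P : Subgroup G) : Set G))
    (htR : t ∈ normalizer ((R : Subgroup G) : Set G)) : False := by
  have hcard5 : Nat.card G = 5 ^ 2 * 216 := h.trans (by norm_num)
  have hPcard : Nat.card (P : Subgroup G) = 5 ^ 2 :=
    card_sylow_subgroup_of_card_eq (p := 5) (k := 2) (m := 216) hcard5 (by norm_num) P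
  set D : Subgroup G := (P : Subgroup G) ⊓ (R : Subgroup G) with hDdef
  -- `|D| = 5`
  have hDcard : Nat.card D = 5 := by
    have hdvd : Nat.card D ∣ 5 ^ 2 := hPcard ▸ Subgroup.card_dvd_of_le inf_le_left
    have hne1 : Nat.card D ≠ 1 := fun h1 => hD (Subgroup.card_eq_one.mp h1)
    have hne25 : Nat.card D ≠ 25 := by
      intro h25
      have hDP : D = (P : Subgroup G) :=
        Subgroup.eq_of_le_of_card_ge inf_le_left (by rw [hPcard, h25]; norm_num)
      have hle : (P : Subgroup G) ≤ (R : Subgroup G) := hDP ▸ inf_le_right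
      exact hPR (Sylow.ext (P.3 R.2 hle))
    obtain ⟨j, hj, hjeq⟩ := (Nat.dvd_prime_pow (by norm_num : Nat.Prime 5)).mp hdvd
    interval_cases j <;> simp_all
  -- `t` normalizes `D`
  have htD : t ∈ normalizer (D : Set G) := by
    rw [Subgroup.mem_normalizer_iff]
    intro x
    rw [hDdef, Subgroup.mem_inf, Subgroup.mem_inf,
      ← Subgroup.mem_normalizer_iff.mp htP x, ← Subgroup.mem_normalizer_iff.mp htR x]
  -- `t` centralizes `D`
  have hZ : IsPGroup 3 (Subgroup.zpowers t) := by
    apply IsPGroup.of_card (n := 1)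
    rw [Nat.card_zpowers, ht3, pow_one]
  obtain ⟨d, hdD, hd1, hdcomm⟩ := exists_ne_one_commute_of_not_modEq (p := 3)
    (Subgroup.zpowers t) D hZ (by rw [Subgroup.zpowers_le]; exact htD)
    (by rw [hDcard]; decide)
  have htd : t * d = d * t := hdcomm t (Subgroup.mem_zpowers t)
  have hDz : D = Subgroup.zpowers d := by
    symm
    apply Subgroup.eq_of_le_of_card_ge (by rw [Subgroup.zpowers_le]; exact hdD)
    rw [hDcard, Nat.card_zpowers]
    have hdvd : orderOf d ∣ 5 := by
      have := orderOf_dvd_natCard (⟨d, hdD⟩ : D)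
      rwa [hDcard, Subgroup.orderOf_mk] at this
    rcases (Nat.dvd_prime (by norm_num : Nat.Prime 5)).mp hdvd with h1 | h5
    · exact absurd (orderOf_eq_one_iff.mp h1) hd1
    · rw [h5]
  have htH : t ∈ centralizer (D : Set G) := by
    rw [Subgroup.mem_centralizer_iff]
    intro x hx
    have hx' : x ∈ Subgroup.zpowers d := hDz ▸ hx
    obtain ⟨i, rfl⟩ := Subgroup.mem_zpowers_iff.mp hx'
    exact ((Commute.zpow_right (show Commute t d from htd) i).eq).symm
  -- the centralizer `H` of `D`
  obtain ⟨hPH, hRH, n, m, hn1, hn2, hHcard, hfact⟩ :=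
    centralizer_inf_data hG P R (Ne.symm hPR) hPcard hD
  set H := centralizer (D : Set G) with hHdef
  have hidx := Subgroup.card_mul_index H
  rw [h] at hidx hfact
  -- arithmetic: `|H| ∈ {150, 300, 450}`
  have hidx10 : 10 ≤ H.index := by
    by_contra hlt
    have hle : H.index ≤ 9 := by omega
    have := hfact.trans (Nat.factorial_dvd_factorial hle)
    norm_num [Nat.factorial] at this
  have hHcases : Nat.card H = 150 ∨ Nat.card H = 300 ∨ Nat.card H = 450 := by
    rw [hHcard] at hidx ⊢
    generalize H.index = idx at hidx hidx10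
    have hnm : n * m * idx = 216 := by nlinarith
    have hn216 : n ∣ 216 := ⟨m * idx, by rw [← hnm]; ring⟩
    have hmi : 0 < m * idx := by
      rcases Nat.eq_zero_or_pos (m * idx) with h0 | h0
      · rw [mul_assoc, h0] at hnm; omega
      · exact h0
    have hm0 : 0 < m := Nat.pos_of_mul_pos_right hmi
    have hnle : n ≤ 21 := by
      by_contra hlt
      have : 22 * 10 ≤ n * (m * idx) := Nat.mul_le_mul (by omega) (by nlinarith)
      rw [← mul_assoc, hnm] at this
      omega
    have hn6 : n = 6 := by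
      interval_cases n <;> omega
    subst hn6
    have hmi36 : m * idx = 36 := by
      have h6 : 6 * (m * idx) = 6 * 36 := by rw [← mul_assoc, hnm]
      exact Nat.eq_of_mul_eq_mul_left (by norm_num) h6
    have hm3 : m ≤ 3 := by
      by_contra hlt
      have : 4 * 10 ≤ m * idx := Nat.mul_le_mul (by omega) hidx10
      omega
    interval_cases m <;> omega
  -- Sylow subgroups of `H`
  have hne : P.subtype hPH ≠ R.subtype hRH :=
    fun h' => hPR (Sylow.subtype_injective h').symm
  rcases hHcases with h150 | h300 | h450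
  · -- `|H| = 150`
    have hcH : Nat.card H = 5 ^ 2 * 6 := h150.trans (by norm_num)
    refine claim_aux P hPH R hRH hne hcH (by norm_num) ?_ t ht3 htP htH
    intro n N hn hmod hn1 hN h3
    have hle : n ≤ 6 := Nat.le_of_dvd (by norm_num) hn
    interval_cases n <;> omega
  · have hcH : Nat.card H = 5 ^ 2 * 12 := h300.trans (by norm_num)
    refine claim_aux P hPH R hRH hne hcH (by norm_num) ?_ t ht3 htP htH
    intro n N hn hmod hn1 hN h3
    have hle : n ≤ 12 := Nat.le_of_dvd (by norm_num) hn
    interval_cases n <;> omega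
  · -- `|H| = 450`: one Sylow `5`-subgroup
    haveI := sylow_subsingleton_of_two_mul_odd (H := H) (p := 5) (k := 2) (r := 9) (by norm_num)
      (h450.trans (by norm_num)) (by decide) (by norm_num)
      (by intro n hn hmod
          have hle : n ≤ 9 := Nat.le_of_dvd (by norm_num) hn
          interval_cases n <;> simp_all)
    exact hne (Subsingleton.elim _ _)

theorem no_simple_5400 {G : Type*} [Group G] [Finite G] [IsSimpleGroup G]
    (h : Nat.card G = 5400) : False := by
  classical
  haveI : Fact (Nat.Prime 5) := ⟨by norm_num⟩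
  haveI : Fact (Nat.Prime 3) := ⟨by norm_num⟩
  have hG : ¬ IsMulCommutative G := not_comm_of_simple_of_not_prime (by rw [h]; norm_num)
  have hcard5 : Nat.card G = 5 ^ 2 * 216 := h.trans (by norm_num)
  obtain ⟨P⟩ : Nonempty (Sylow 5 G) := inferInstance
  have hPcard : Nat.card (P : Subgroup G) = 5 ^ 2 :=
    card_sylow_subgroup_of_card_eq (p := 5) (k := 2) (m := 216) hcard5 (by norm_num) P
  have hcommP : IsMulCommutative (P : Subgroup G) :=
    IsPGroup.isMulCommutative_of_card_eq_prime_sq hPcard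
  -- `n_5 = 36`
  have h36 : Nat.card (Sylow 5 G) = 36 := by
    have hmem := card_sylow_mem_npList hG 5 2 216 (by norm_num) hcard5 (by norm_num)
      (by norm_num) (by norm_num)
    have hL : npList 5 2 216 = [36, 216] := by decide +kernel
    rw [hL] at hmem
    simp only [List.mem_cons, List.not_mem_nil, or_false] at hmem
    rcases hmem with h36 | h216
    · exact h36
    · exfalso
      have hN : Nat.card (normalizer ((P : Subgroup G) : Set G)) = 25 :=
        card_normalizer_of_card_sylow P h h216 (by norm_num) (by norm_num)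
      apply not_normalizer_le_centralizer_of_simple P (by rw [hPcard]; norm_num)
        (by rw [hPcard, h]; norm_num)
      have hNP : normalizer ((P : Subgroup G) : Set G) = (P : Subgroup G) :=
        (Subgroup.eq_of_le_of_card_ge Subgroup.le_normalizer (by rw [hN, hPcard]; norm_num)).symm
      rw [hNP]
      intro a ha
      rw [Subgroup.mem_centralizer_iff]
      intro b hb
      exact congrArg Subtype.val (hcommP.is_comm.comm ⟨b, hb⟩ ⟨a, ha⟩)
  have hN : Nat.card (normalizer ((P : Subgroup G) : Set G)) = 150 :=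
    card_normalizer_of_card_sylow P h h36 (by norm_num) (by norm_num)
  -- an element `t` of order `3` normalizing `P`
  obtain ⟨t', ht'⟩ := exists_prime_orderOf_dvd_card'
    (G := ↥(normalizer ((P : Subgroup G) : Set G))) 3 (by rw [hN]; norm_num)
  obtain ⟨t, htdef⟩ : ∃ t : G, t = (t' : G) := ⟨_, rfl⟩
  have ht3 : orderOf t = 3 := by rw [htdef, Subgroup.orderOf_coe, ht']
  have htP : t ∈ normalizer ((P : Subgroup G) : Set G) := by rw [htdef]; exact t'.2
  -- the sets `X`, `Y`
  letI : Fintype (Sylow 5 G) := Fintype.ofFinite _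
  set S : Finset (Sylow 5 G) := Finset.univ.filter (fun R => ¬ R = P) with hSdef
  set X : Finset (Sylow 5 G) :=
    S.filter (fun R => (P : Subgroup G) ⊓ (R : Subgroup G) ≠ ⊥) with hXdef
  set Y : Finset (Sylow 5 G) :=
    S.filter (fun R => ¬ (P : Subgroup G) ⊓ (R : Subgroup G) ≠ ⊥) with hYdef
  have hX : ∀ R : Sylow 5 G, R ∈ X ↔ R ≠ P ∧ (P : Subgroup G) ⊓ (R : Subgroup G) ≠ ⊥ := by
    intro R; simp [hXdef, hSdef]
  have hY : ∀ R : Sylow 5 G, R ∈ Y ↔ R ≠ P ∧ (P : Subgroup G) ⊓ (R : Subgroup G) = ⊥ := by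
    intro R; simp [hYdef, hSdef]
  have hsum : 1 + (X.card + Y.card) = 36 := by
    have h1 := Finset.card_filter_add_card_filter_not (s := (Finset.univ : Finset (Sylow 5 G)))
      (fun R => R = P)
    have h2 : (Finset.univ.filter (fun R : Sylow 5 G => R = P)).card = 1 := by
      rw [Finset.card_eq_one]
      exact ⟨P, by ext R; simp⟩
    have h3 := Finset.card_filter_add_card_filter_not (s := S)
      (fun R => (P : Subgroup G) ⊓ (R : Subgroup G) ≠ ⊥)
    rw [h2, Finset.card_univ, ← Nat.card_eq_fintype_card, h36] at h1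
    rw [h3]
    exact h1
  -- `25 ∣ |Y|`
  have hY25 : 25 ∣ Y.card := by
    apply Helper66.dvd_card_of_forall_dvd_index_stabilizer (α := (P : Subgroup G)) 25 Y.card Y rfl
    · intro g R hR
      rw [hY] at hR ⊢
      have hgP : (g : G) • P = P :=
        Sylow.smul_eq_iff_mem_normalizer.mpr (Subgroup.le_normalizer g.2)
      refine ⟨?_, ?_⟩
      · intro hgR
        apply hR.1
        have hgR' : (g : G) • R = P := hgR
        calc R = (g : G)⁻¹ • ((g : G) • R) := by rw [inv_smul_smul]
          _ = (g : G)⁻¹ • ((g : G) • P) := by rw [hgR', hgP]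
          _ = P := by rw [inv_smul_smul]
      · rw [eq_bot_iff]
        intro x hx
        rw [Subgroup.mem_bot]
        have hx2 : x ∈ (((g : G) • R : Sylow 5 G) : Subgroup G) := hx.2
        rw [mem_smul_sylow_iff] at hx2
        have hx1 : (g : G)⁻¹ * x * (g : G) ∈ (P : Subgroup G) :=
          Subgroup.mul_mem _ (Subgroup.mul_mem _ (Subgroup.inv_mem _ g.2) hx.1) g.2
        have hmem : (g : G)⁻¹ * x * (g : G) ∈ (P : Subgroup G) ⊓ (R : Subgroup G) := ⟨hx1, hx2⟩
        rw [hR.2, Subgroup.mem_bot] at hmem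
        calc x = (g : G) * ((g : G)⁻¹ * x * (g : G)) * (g : G)⁻¹ := by group
          _ = 1 := by rw [hmem]; group
    · intro R hR
      rw [hY] at hR
      rw [MulAction.index_stabilizer, ← Nat.card_coe_set_eq, card_orbit_sylow_eq_index]
      have := index_subgroupOf_mul_card_inf (P : Subgroup G) (R : Subgroup G)
      rw [hR.2, Subgroup.card_bot, mul_one, hPcard] at this
      rw [this]; norm_num
  -- `3 ∣ |X|`
  have hX3 : 3 ∣ X.card := by
    have hZ : IsPGroup 3 (Subgroup.zpowers t) := by
      apply IsPGroup.of_card (n := 1)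
      rw [Nat.card_zpowers, ht3, pow_one]
    have hinvX : ∀ g : Subgroup.zpowers t, ∀ R ∈ X, g • R ∈ X := by
      intro g R hR
      rw [hX] at hR ⊢
      have hgN : (g : G) ∈ normalizer ((P : Subgroup G) : Set G) :=
        (Subgroup.zpowers_le.mpr htP) g.2
      have hgP : (g : G) • P = P := Sylow.smul_eq_iff_mem_normalizer.mpr hgN
      refine ⟨?_, ?_⟩
      · intro hgR
        apply hR.1
        have hgR' : (g : G) • R = P := hgR
        calc R = (g : G)⁻¹ • ((g : G) • R) := by rw [inv_smul_smul]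
          _ = (g : G)⁻¹ • ((g : G) • P) := by rw [hgR', hgP]
          _ = P := by rw [inv_smul_smul]
      · obtain ⟨x, hx1⟩ := (Subgroup.ne_bot_iff_exists_ne_one).mp hR.2
        rw [Subgroup.ne_bot_iff_exists_ne_one]
        have hxP : (g : G) * (x : G) * (g : G)⁻¹ ∈ (P : Subgroup G) :=
          (Subgroup.mem_normalizer_iff.mp hgN (x : G)).mp x.2.1
        have hxR : (g : G) * (x : G) * (g : G)⁻¹ ∈ (((g : G) • R : Sylow 5 G) : Subgroup G) := by
          rw [mem_smul_sylow_iff]
          have : (g : G)⁻¹ * ((g : G) * (x : G) * (g : G)⁻¹) * (g : G) = (x : G) := by group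
          rw [this]
          exact x.2.2
        refine ⟨⟨(g : G) * (x : G) * (g : G)⁻¹, hxP, hxR⟩, ?_⟩
        intro h1
        apply hx1
        have h1' : (g : G) * (x : G) * (g : G)⁻¹ = 1 := congrArg Subtype.val h1
        apply Subtype.ext
        show (x : G) = 1
        calc (x : G) = (g : G)⁻¹ * ((g : G) * (x : G) * (g : G)⁻¹) * (g : G) := by group
          _ = 1 := by rw [h1']; group
    have hcong := Helper70.PCount.card_modEq_card_fixed (α := Subgroup.zpowers t) (p := 3) hZ X hinvX
    have hnofix : ∀ R ∈ X, ¬ (∀ g : Subgroup.zpowers t, g • R = R) := by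
      intro R hR hfix
      rw [hX] at hR
      have htR : t • R = R := hfix ⟨t, Subgroup.mem_zpowers t⟩
      exact claim h hG P R hR.1 hR.2 t ht3 htP (Sylow.smul_eq_iff_mem_normalizer.mp htR)
    rw [Finset.filter_false_of_mem hnofix, Finset.card_empty] at hcong
    exact (Nat.modEq_zero_iff_dvd).mp hcong
  obtain ⟨a, ha⟩ := hY25
  obtain ⟨b, hb⟩ := hX3
  omega

end Cfsg.Agent.Helper54.Ord5400
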