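import Mathlib
import Cfsg.Agent.Helper1.ShultDefs

/-!
# Shult S3 (S4305), piece (B2) of helper1's plan: interface between Steps 1-2 and Step 3 (helper54)
-/

set_option autoImplicit false

namespace Cfsg.Agent.Helper54.ShultB2

open Subgroup Cfsg.Agent.Helper1.Shult

variable {H : Type*} [Group H]

/-- Output of Steps 1-2 of (B2): `E0, E1` are the `τ_0`-, `τ_1`-inverted hyperplanes of `P / CP`,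
`Q_i = C_Q(E_i)` with `E_i = σ^i E_0 σ^-i`. -/
structure B2Str (σ τ : H) (P Q CP E0 E1 Q0 Q1 Q2 : Subgroup H) : Prop where
  hQ0 : Q0 = Q ⊓ centralizer (E0 : Set H)
  hQ1 : Q1 = Q ⊓ centralizer (E1 : Set H)
  hQ2le : Q2 ≤ Q
  hE0 : CP ≤ E0 ∧ E0 ≤ P
  hE1 : CP ≤ E1 ∧ E1 ≤ P
  hQ0ne : Q0 ≠ ⊥
  hQ01 : Q1 = Q0.map (MulAut.conj σ).toMonoidHom
  hQ12 : Q2 = Q1.map (MulAut.conj σ).toMonoidHom
  hQ20 : Q0 = Q2.map (MulAut.conj σ).toMonoidHom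
  hinv : ∀ u ∈ Q0, τ * u * τ⁻¹ = u⁻¹
  hPQ0 : P ≤ normalizer (Q0 : Set H)
  hPQ1 : P ≤ normalizer (Q1 : Set H)
  hPQ2 : P ≤ normalizer (Q2 : Set H)
  hcomm10 : Q1 ≤ ⁅Q1, E0⁆
  hcomm01 : Q0 ≤ ⁅Q0, E1⁆
  hswap : Q0 = Q2.map (MulAut.conj (σ * τ * σ⁻¹)).toMonoidHom
  hcover : ∀ y ∈ E1, ∃ x ∈ E0,
    y⁻¹ * ((σ * τ * σ⁻¹) * x⁻¹ * (σ * τ * σ⁻¹)⁻¹ * x) ∈ CP

/-- Statement of the general hyperplane lemma (facts (7a)(7b)(7c) of helper1's plan) for a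
hyperplane `D` of `T` over `S0` with `C_V(D) ≠ 1`. -/
def HypFacts (σ τ : H) (V T D : Subgroup H) : Prop :=
  T ⊓ centralizer ((V ⊓ centralizer (D : Set H) : Subgroup H) : Set H) = D ∧
  (σ ∈ normalizer (D : Set H) → ∀ x ∈ T, x⁻¹ * (σ * x * σ⁻¹) ∈ D) ∧
  (σ ∉ normalizer (D : Set H) →
    ∃ i : ℕ, i < 3 ∧ σ ^ i * τ * σ⁻¹ ^ i ∈ normalizer (D : Set H)) ∧
  (∀ i : ℕ, σ ∉ normalizer (D : Set H) → σ ^ i * τ * σ⁻¹ ^ i ∈ normalizer (D : Set H) →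
    (∀ u ∈ V ⊓ centralizer (D : Set H),
      (σ ^ i * τ * σ⁻¹ ^ i) * u * (σ ^ i * τ * σ⁻¹ ^ i)⁻¹ = u⁻¹) ∧
    ∀ x ∈ T, x⁻¹ * ((σ ^ i * τ * σ⁻¹ ^ i) * x * (σ ^ i * τ * σ⁻¹ ^ i)⁻¹) ∈ D)

end Cfsg.Agent.Helper54.ShultB2
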