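import Mathlib
import Cfsg.Agent.Helper54.ShultB2Defs
import Cfsg.Agent.Helper60.ShultO
import Cfsg.Agent.Helper62.ShultC
import Cfsg.Agent.Helper62.ShultS

/-!
# Shult S3 (S4305): the general hyperplane lemma (G) = facts (7a)(7b)(7c) of helper1's plan
(helper54)
-/

set_option autoImplicit false
set_option linter.unusedSectionVars false

namespace Cfsg.Agent.Helper54.ShultB2

open Subgroup Cfsg.Agent.Helper1.Shult

variable {H : Type*} [Group H] [Finite H]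

/-- the `i`-th involution `τ_i = σ^i τ σ^-i` -/
theorem tauI_mem_normalizer {σ τ : H} {X : Subgroup H} (hX : Inv σ τ X) (i : ℕ) :
    σ ^ i * τ * σ⁻¹ ^ i ∈ normalizer (X : Set H) :=
  mul_mem (mul_mem (pow_mem hX.1 i) hX.2) (pow_mem (inv_mem hX.1) i)

theorem tauI_eq_conj {σ τ : H} (i : ℕ) : σ ^ i * τ * σ⁻¹ ^ i = σ ^ i * τ * (σ ^ i)⁻¹ := by
  rw [inv_pow]

theorem s3Pair_tauI {σ τ : H} (h : S3Pair σ τ) (i : ℕ) : S3Pair σ (σ ^ i * τ * σ⁻¹ ^ i) := by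
  refine ⟨h.oσ, ?_, ?_⟩
  · rw [tauI_eq_conj]
    have : σ ^ i * τ * (σ ^ i)⁻¹ = MulAut.conj (σ ^ i) τ := rfl
    rw [this, MulEquiv.orderOf_eq, h.oτ]
  · rw [tauI_eq_conj]
    have hc : (σ ^ i) * σ = σ * σ ^ i := (pow_succ σ i).symm.trans (pow_succ' σ i)
    calc σ ^ i * τ * (σ ^ i)⁻¹ * σ * (σ ^ i * τ * (σ ^ i)⁻¹)⁻¹
        = σ ^ i * (τ * ((σ ^ i)⁻¹ * σ * σ ^ i) * τ⁻¹) * (σ ^ i)⁻¹ := by group
      _ = σ ^ i * (τ * σ * τ⁻¹) * (σ ^ i)⁻¹ := by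
          have : (σ ^ i)⁻¹ * σ * σ ^ i = σ := by
            rw [mul_assoc, ← hc, ← mul_assoc, inv_mul_cancel, one_mul]
          rw [this]
      _ = σ ^ i * σ⁻¹ * (σ ^ i)⁻¹ := by rw [h.rel]
      _ = σ⁻¹ := by
          have : σ ^ i * σ⁻¹ = σ⁻¹ * σ ^ i := by
            have h2 : σ⁻¹ * (σ ^ i * σ) * σ⁻¹ = σ⁻¹ * (σ * σ ^ i) * σ⁻¹ := by rw [hc]
            calc σ ^ i * σ⁻¹ = σ * (σ⁻¹ * (σ ^ i * σ) * σ⁻¹) * σ⁻¹ := by group
              _ = σ * (σ⁻¹ * (σ * σ ^ i) * σ⁻¹) * σ⁻¹ := by rw [h2]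
              _ = σ⁻¹ * σ ^ i := by group
          rw [this, mul_assoc, mul_inv_cancel, mul_one]

theorem inv_tauI {σ τ : H} {X : Subgroup H} (hX : Inv σ τ X) (i : ℕ) :
    Inv σ (σ ^ i * τ * σ⁻¹ ^ i) X := ⟨hX.1, tauI_mem_normalizer hX i⟩

theorem fix_tauI_le {σ τ : H} (X : Subgroup H) (i : ℕ) :
    Fix σ (σ ^ i * τ * σ⁻¹ ^ i) X ≤ Fix σ τ X := by
  intro x hx
  unfold Cfsg.Agent.Helper1.Shult.Fix at hx ⊢
  obtain ⟨hxX, hxC⟩ := mem_inf.mp hx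
  refine mem_inf.mpr ⟨hxX, ?_⟩
  rw [mem_centralizer_iff] at hxC ⊢
  have h1 : σ * x = x * σ := hxC σ (by simp)
  have h2 : (σ ^ i * τ * σ⁻¹ ^ i) * x = x * (σ ^ i * τ * σ⁻¹ ^ i) := hxC _ (by simp)
  have h3 : ∀ n : ℕ, σ ^ n * x = x * σ ^ n := by
    intro n
    induction n with
    | zero => simp
    | succ n ih => rw [pow_succ, mul_assoc, h1, ← mul_assoc, ih, mul_assoc]
  have h4 : ∀ n : ℕ, σ⁻¹ ^ n * x = x * σ⁻¹ ^ n := by
    intro n
    rw [inv_pow]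
    have := h3 n
    calc (σ ^ n)⁻¹ * x = (σ ^ n)⁻¹ * (x * σ ^ n) * (σ ^ n)⁻¹ := by group
      _ = (σ ^ n)⁻¹ * (σ ^ n * x) * (σ ^ n)⁻¹ := by rw [this]
      _ = x * (σ ^ n)⁻¹ := by group
  intro y hy
  rcases hy with hy | hy
  · rw [hy]; exact h1
  · rw [Set.mem_singleton_iff] at hy
    rw [hy]
    have e : τ = σ⁻¹ ^ i * (σ ^ i * τ * σ⁻¹ ^ i) * σ ^ i := by
      rw [inv_pow]; group
    have h5 : (σ⁻¹ ^ i * (σ ^ i * τ * σ⁻¹ ^ i) * σ ^ i) * x =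
        x * (σ⁻¹ ^ i * (σ ^ i * τ * σ⁻¹ ^ i) * σ ^ i) := by
      calc (σ⁻¹ ^ i * (σ ^ i * τ * σ⁻¹ ^ i) * σ ^ i) * x
          = σ⁻¹ ^ i * (σ ^ i * τ * σ⁻¹ ^ i) * (σ ^ i * x) := by group
        _ = σ⁻¹ ^ i * ((σ ^ i * τ * σ⁻¹ ^ i) * x) * σ ^ i := by rw [h3 i]; group
        _ = (σ⁻¹ ^ i * x) * (σ ^ i * τ * σ⁻¹ ^ i) * σ ^ i := by rw [h2]; group
        _ = x * (σ⁻¹ ^ i * (σ ^ i * τ * σ⁻¹ ^ i) * σ ^ i) := by rw [h4 i]; group
    rw [← e] at h5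
    exact h5

theorem pow_mod_three {σ τ : H} (h : S3Pair σ τ) (i : ℕ) :
    σ ^ i * τ * σ⁻¹ ^ i = σ ^ (i % 3) * τ * σ⁻¹ ^ (i % 3) := by
  have h1 : σ ^ i = σ ^ (i % 3) := by rw [← h.oσ, pow_mod_orderOf]
  have h2 : σ⁻¹ ^ i = σ⁻¹ ^ (i % 3) := by
    have : orderOf σ⁻¹ = 3 := by rw [orderOf_inv, h.oσ]
    rw [← this, pow_mod_orderOf]
  rw [h1, h2]

/-- `T` normalizes every hyperplane. -/
theorem hyp_normal {s : ℕ} {V T S0 D : Subgroup H} (hs : HypSet s V T S0) (hD : IsHyp s T S0 D) :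
    T ≤ normalizer (D : Set H) := by
  have key : ∀ t ∈ T, ∀ d ∈ D, t * d * t⁻¹ ∈ D := by
    intro t ht d hd
    have h1 := hs.hcomm t ht d (hD.2.1 hd)
    have h2 : t * d * t⁻¹ = (t * d * t⁻¹ * d⁻¹) * d := by group
    rw [h2]
    exact mul_mem (hD.1 h1) hd
  intro t ht
  rw [mem_normalizer_iff]
  intro d
  constructor
  · exact key t ht d
  · intro hd
    have := key t⁻¹ (inv_mem ht) _ hd
    have e : t⁻¹ * (t * d * t⁻¹) * t⁻¹⁻¹ = d := by group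
    rwa [e] at this

theorem mem_normalizer_inf_centralizer {g : H} {V D : Subgroup H}
    (hV : g ∈ normalizer (V : Set H)) (hD : g ∈ normalizer (D : Set H)) :
    g ∈ normalizer ((V ⊓ centralizer (D : Set H) : Subgroup H) : Set H) := by
  have key : ∀ g : H, g ∈ normalizer (V : Set H) → g ∈ normalizer (D : Set H) →
      ∀ u ∈ V ⊓ centralizer (D : Set H), g * u * g⁻¹ ∈ V ⊓ centralizer (D : Set H) := by
    intro g hV hD u hu
    obtain ⟨huV, huC⟩ := mem_inf.mp hu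
    refine mem_inf.mpr ⟨(mem_normalizer_iff.mp hV u).mp huV, ?_⟩
    rw [mem_centralizer_iff] at huC ⊢
    intro d hd
    have hd' : g⁻¹ * d * g ∈ D := by
      have := (mem_normalizer_iff.mp (inv_mem hD) d).mp hd
      rwa [inv_inv] at this
    have := huC _ hd'
    calc d * (g * u * g⁻¹) = g * ((g⁻¹ * d * g) * u) * g⁻¹ := by group
      _ = g * (u * (g⁻¹ * d * g)) * g⁻¹ := by rw [this]
      _ = g * u * g⁻¹ * d := by group
  rw [mem_normalizer_iff]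
  intro u
  constructor
  · exact key g hV hD u
  · intro hu
    have := key g⁻¹ (inv_mem hV) (inv_mem hD) _ hu
    have e : g⁻¹ * (g * u * g⁻¹) * g⁻¹⁻¹ = u := by group
    rwa [e] at this

/-- (G0) the centralizer in `T` of `C_V(D)` is `D`. -/
theorem inf_centralizer_fix_eq {s : ℕ} [Fact s.Prime] {V T S0 D : Subgroup H}
    (hs : HypSet s V T S0) (hD : IsHyp s T S0 D) (hne : V ⊓ centralizer (D : Set H) ≠ ⊥) :
    T ⊓ centralizer ((V ⊓ centralizer (D : Set H) : Subgroup H) : Set H) = D := by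
  have hsp : s.Prime := Fact.out
  set X := T ⊓ centralizer ((V ⊓ centralizer (D : Set H) : Subgroup H) : Set H) with hX
  have hDX : D ≤ X := by
    intro d hd
    refine mem_inf.mpr ⟨hD.2.1 hd, ?_⟩
    rw [mem_centralizer_iff]
    intro u hu
    have := mem_centralizer_iff.mp (mem_inf.mp hu).2 d hd
    exact this.symm
  have hXT : X ≤ T := inf_le_left
  have hmul := relIndex_mul_relIndex D X T hDX hXT
  rw [hD.2.2] at hmul
  have hXne : X.relIndex T ≠ 1 := by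
    intro h1
    have hTX : T ≤ X := relIndex_eq_one.mp h1
    apply hne
    rw [eq_bot_iff]
    intro u hu
    rw [← hs.hfix]
    refine mem_inf.mpr ⟨(mem_inf.mp hu).1, ?_⟩
    rw [mem_centralizer_iff]
    intro t ht
    have := mem_centralizer_iff.mp (mem_inf.mp (hTX ht)).2 u hu
    exact this.symm
  have h1 : D.relIndex X = 1 := by
    rcases (Nat.dvd_prime hsp).mp (Dvd.intro_left _ hmul) with h | h
    · exact absurd h hXne
    · rw [h] at hmul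
      have hs0 : 0 < s := hsp.pos
      have : D.relIndex X * s = 1 * s := by rw [hmul, one_mul]
      exact Nat.eq_of_mul_eq_mul_right hs0 this
  exact le_antisymm (relIndex_eq_one.mp h1) hDX

/-- (G) the general hyperplane lemma. -/
theorem hypFacts {s v : ℕ} [Fact s.Prime] [Fact v.Prime] {σ τ : H} (h : S3Pair σ τ)
    (hs2 : s ≠ 2) (hs3 : s ≠ 3) (hv3 : v ≠ 3) (hsv : s ≠ v)
    {V T S0 : Subgroup H} (hs : HypSet s V T S0) (hV : IsEA v V)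
    (hVinv : Inv σ τ V) (hTinv : Inv σ τ T) (hS0inv : Inv σ τ S0) (hfixV : Fix σ τ V = ⊥)
    (D : Subgroup H) (hD : IsHyp s T S0 D) (hne : V ⊓ centralizer (D : Set H) ≠ ⊥) :
    HypFacts σ τ V T D := by
  have hsp : s.Prime := Fact.out
  have hG0 := inf_centralizer_fix_eq hs hD hne
  have hTD : T ≤ normalizer (D : Set H) := hyp_normal hs hD
  have hTVD : T ≤ normalizer ((V ⊓ centralizer (D : Set H) : Subgroup H) : Set H) :=
    fun t ht => mem_normalizer_inf_centralizer (hs.hTV ht) (hTD ht)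
  refine ⟨hG0, ?_, ?_, ?_⟩
  · -- (7b)
    intro hσD
    by_cases hτD : τ ∈ normalizer (D : Set H)
    · exact Cfsg.Agent.Helper62.Shult.sigma_cyclic_quotient h T D hsp hD.2.1 hTD hD.2.2 hTinv
        ⟨hσD, hτD⟩
    · by_contra hcon
      push Not at hcon
      obtain ⟨x, hxT, hx⟩ := hcon
      have hxT' : x⁻¹ * (σ * x * σ⁻¹) ∈ T :=
        mul_mem (inv_mem hxT) ((mem_normalizer_iff.mp hTinv.1 x).mp hxT)
      have hact : ∃ x ∈ T, x⁻¹ * (σ * x * σ⁻¹) ∉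
          centralizer ((V ⊓ centralizer (D : Set H) : Subgroup H) : Set H) := by
        refine ⟨x, hxT, fun hc => hx ?_⟩
        rw [← hG0]
        exact mem_inf.mpr ⟨hxT', hc⟩
      have hVD : IsEA v (V ⊓ centralizer (D : Set H)) :=
        ⟨fun a ha b hb => hV.1 a (mem_inf.mp ha).1 b (mem_inf.mp hb).1,
          fun w hw => hV.2 w (mem_inf.mp hw).1⟩
      obtain ⟨u, hu, hu1, huσ⟩ := Cfsg.Agent.Helper62.Shult.sigma_fixed_point hs2 hs3 hv3 hsv σ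
        h.oσ T (V ⊓ centralizer (D : Set H)) hs.hTs hVD hTinv.1
        (mem_normalizer_inf_centralizer hVinv.1 hσD) hTVD hact
      exact hu1 (Cfsg.Agent.Helper60.Shult.orbit_sigma h hs hVinv hTinv hS0inv hfixV D hD hσD hτD
        u hu huσ)
  · -- (7a)
    intro hσD
    by_contra hcon
    push Not at hcon
    apply hne
    refine Cfsg.Agent.Helper60.Shult.orbit_regular h hs hVinv hTinv hS0inv hfixV D hD hσD ?_
    intro i
    rw [pow_mod_three h i]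
    exact hcon (i % 3) (Nat.mod_lt _ (by norm_num))
  · -- (7c)
    intro i hσD hτD
    have hinv : ∀ u ∈ V ⊓ centralizer (D : Set H),
        (σ ^ i * τ * σ⁻¹ ^ i) * u * (σ ^ i * τ * σ⁻¹ ^ i)⁻¹ = u⁻¹ := by
      refine Cfsg.Agent.Helper60.Shult.orbit_tau (s3Pair_tauI h i) hs (inv_tauI hVinv i)
        (inv_tauI hTinv i) (inv_tauI hS0inv i) ?_ D hD hτD hσD
      rw [eq_bot_iff, ← hfixV]
      exact fix_tauI_le V i
    refine ⟨hinv, ?_⟩
    intro x hxT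
    set g := σ ^ i * τ * σ⁻¹ ^ i with hg
    have hgT : g ∈ normalizer (T : Set H) := tauI_mem_normalizer hTinv i
    have hx' : g * x * g⁻¹ ∈ T := (mem_normalizer_iff.mp hgT x).mp hxT
    rw [← hG0]
    refine mem_inf.mpr ⟨mul_mem (inv_mem hxT) hx', ?_⟩
    rw [mem_centralizer_iff]
    intro u hu
    -- `x u x⁻¹ ∈ V_D`
    have h1 : x * u * x⁻¹ ∈ V ⊓ centralizer (D : Set H) :=
      (mem_normalizer_iff.mp (hTVD hxT) u).mp hu
    have h2 := hinv _ h1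
    have h3 := hinv u hu
    have h4 : g * (x * u * x⁻¹) * g⁻¹ = (g * x * g⁻¹) * (g * u * g⁻¹) * (g * x * g⁻¹)⁻¹ := by
      group
    rw [h4, h3] at h2
    -- `x' u⁻¹ x'⁻¹ = x u⁻¹ x⁻¹`
    have h5 : (x⁻¹ * (g * x * g⁻¹)) * u⁻¹ = u⁻¹ * (x⁻¹ * (g * x * g⁻¹)) := by
      have e1 : (x * u * x⁻¹)⁻¹ = x * u⁻¹ * x⁻¹ := by group
      rw [e1] at h2
      calc (x⁻¹ * (g * x * g⁻¹)) * u⁻¹
          = x⁻¹ * ((g * x * g⁻¹) * u⁻¹ * (g * x * g⁻¹)⁻¹) * (g * x * g⁻¹) := by group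
        _ = x⁻¹ * (x * u⁻¹ * x⁻¹) * (g * x * g⁻¹) := by rw [h2]
        _ = u⁻¹ * (x⁻¹ * (g * x * g⁻¹)) := by group
    calc u * (x⁻¹ * (g * x * g⁻¹))
        = u * ((x⁻¹ * (g * x * g⁻¹)) * u⁻¹) * u := by group
      _ = u * (u⁻¹ * (x⁻¹ * (g * x * g⁻¹))) * u := by rw [h5]
      _ = x⁻¹ * (g * x * g⁻¹) * u := by group

end Cfsg.Agent.Helper54.ShultB2
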