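import Mathlib
import Cfsg.Agent.Helper54.ShultG
import Cfsg.Agent.Helper60.WardW2
import Cfsg.Agent.Helper31.WardW34

/-!
# Shult S3 (S4305), piece (B2a): Steps 1-2 of helper1's Lemma B, case 2 (helper54)
-/

set_option autoImplicit false
set_option linter.unusedSectionVars false
set_option linter.unusedVariables false

namespace Cfsg.Agent.Helper54.ShultB2

open Subgroup Cfsg.Agent.Helper1.Shult Cfsg.Agent.Helper60.Shult

variable {H : Type*} [Group H] [Finite H]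

/-- The `P / CP` context: an `S₃`-irreducible abelian section on which `σ` is fixed-point-free. -/
structure Ctx (p : ℕ) (σ τ : H) (P CP : Subgroup H) : Prop where
  hS : S3Pair σ τ
  hp2 : p ≠ 2
  hP : IsPGroup p P
  hle : CP ≤ P
  hnorm : P ≤ normalizer (CP : Set H)
  hPinv : Inv σ τ P
  hCinv : Inv σ τ CP
  hcomm : ∀ x ∈ P, ∀ y ∈ P, x * y * x⁻¹ * y⁻¹ ∈ CP
  hirr : ∀ P0 : Subgroup H, CP ≤ P0 → P0 ≤ P → Inv σ τ P0 → P0 = CP ∨ P0 = P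
  hfpf : ∀ x ∈ P, x⁻¹ * (σ * x * σ⁻¹) ∈ CP → x ∈ CP
  hne : CP ≠ P

theorem conj_mem_of_mem_normalizer {X : Subgroup H} {g x : H} (hg : g ∈ normalizer (X : Set H))
    (hx : x ∈ X) : g * x * g⁻¹ ∈ X := (mem_normalizer_iff.mp hg x).mp hx

theorem conj_mem_of_mem_normalizer' {X : Subgroup H} {g x : H} (hg : g ∈ normalizer (X : Set H))
    (hx : x ∈ X) : g⁻¹ * x * g ∈ X := by
  have := conj_mem_of_mem_normalizer (inv_mem hg) hx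
  rwa [inv_inv] at this

theorem mem_of_sq_mem {x : H} (hodd : Odd (orderOf x)) (Y : Subgroup H) (h : x * x ∈ Y) :
    x ∈ Y := by
  obtain ⟨m, hm⟩ := hodd
  have h1 : (x * x) ^ (m + 1) = x := by
    rw [← pow_two, ← pow_mul]
    have : 2 * (m + 1) = orderOf x + 1 := by omega
    rw [this, pow_succ, pow_orderOf_eq_one, one_mul]
  rw [← h1]
  exact pow_mem h _

section ctx

variable {p : ℕ} [Fact p.Prime] {σ τ : H} {P CP : Subgroup H}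

theorem Ctx.odd (c : Ctx p σ τ P CP) {x : H} (hx : x ∈ P) : Odd (orderOf x) := by
  have hp : p.Prime := Fact.out
  obtain ⟨k, hk⟩ := c.hP ⟨x, hx⟩
  have h1 : x ^ p ^ k = 1 := by
    have := congrArg Subtype.val hk
    simpa using this
  have h2 : orderOf x ∣ p ^ k := orderOf_dvd_of_pow_eq_one h1
  obtain ⟨j, -, hj⟩ := (Nat.dvd_prime_pow hp).mp h2
  rw [hj]
  exact Odd.pow (hp.odd_of_ne_two c.hp2)

theorem Ctx.conj_mem (c : Ctx p σ τ P CP) {x k : H} (hx : x ∈ P) (hk : k ∈ CP) :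
    x * k * x⁻¹ ∈ CP := conj_mem_of_mem_normalizer (c.hnorm hx) hk

theorem Ctx.conj_mem' (c : Ctx p σ τ P CP) {x k : H} (hx : x ∈ P) (hk : k ∈ CP) :
    x⁻¹ * k * x ∈ CP := conj_mem_of_mem_normalizer' (c.hnorm hx) hk

theorem Ctx.sigma_sq (c : Ctx p σ τ P CP) : σ * σ = σ⁻¹ := sq_sigma c.hS

theorem Ctx.conj_sigma_sigma (c : Ctx p σ τ P CP) (x : H) :
    σ * (σ * x * σ⁻¹) * σ⁻¹ = σ⁻¹ * x * σ := by
  calc σ * (σ * x * σ⁻¹) * σ⁻¹ = (σ * σ) * x * (σ * σ)⁻¹ := by group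
    _ = σ⁻¹ * x * σ := by rw [c.sigma_sq, inv_inv]

theorem Ctx.conj_sigmaInv_sigmaInv (c : Ctx p σ τ P CP) (x : H) :
    σ⁻¹ * (σ⁻¹ * x * σ) * σ = σ * x * σ⁻¹ := by
  calc σ⁻¹ * (σ⁻¹ * x * σ) * σ = (σ * σ)⁻¹ * x * (σ * σ) := by group
    _ = σ * x * σ⁻¹ := by rw [c.sigma_sq, inv_inv]

/-- `τ (σ x σ⁻¹) τ⁻¹ = σ⁻¹ (τ x τ⁻¹) σ` -/
theorem Ctx.conj_tau_sigma (c : Ctx p σ τ P CP) (x : H) :
    τ * (σ * x * σ⁻¹) * τ⁻¹ = σ⁻¹ * (τ * x * τ⁻¹) * σ := by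
  calc τ * (σ * x * σ⁻¹) * τ⁻¹ = (τ * σ) * x * (τ * σ)⁻¹ := by group
    _ = (σ⁻¹ * τ) * x * (σ⁻¹ * τ)⁻¹ := by rw [tau_sigma c.hS]
    _ = σ⁻¹ * (τ * x * τ⁻¹) * σ := by group

/-- `τ (σ⁻¹ x σ) τ⁻¹ = σ (τ x τ⁻¹) σ⁻¹` -/
theorem Ctx.conj_tau_sigmaInv (c : Ctx p σ τ P CP) (x : H) :
    τ * (σ⁻¹ * x * σ) * τ⁻¹ = σ * (τ * x * τ⁻¹) * σ⁻¹ := by
  calc τ * (σ⁻¹ * x * σ) * τ⁻¹ = (τ * σ⁻¹) * x * (τ * σ⁻¹)⁻¹ := by group
    _ = (σ * τ) * x * (σ * τ)⁻¹ := by rw [tau_sigma_inv c.hS]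
    _ = σ * (τ * x * τ⁻¹) * σ⁻¹ := by group

theorem Ctx.conj_tau_tau (c : Ctx p σ τ P CP) (x : H) : τ * (τ * x * τ⁻¹) * τ⁻¹ = x := by
  have h1 : τ⁻¹ = τ := inv_tau c.hS
  have h2 : τ * τ = 1 := by
    calc τ * τ = τ⁻¹ * τ := by rw [h1]
      _ = 1 := by group
  calc τ * (τ * x * τ⁻¹) * τ⁻¹ = (τ * τ) * x * (τ * τ)⁻¹ := by group
    _ = x := by rw [h2]; group

/-- `x · x^σ · x^{σ²} ∈ CP`. -/
theorem Ctx.norm3 (c : Ctx p σ τ P CP) {x : H} (hx : x ∈ P) :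
    x * (σ * x * σ⁻¹) * (σ⁻¹ * x * σ) ∈ CP := by
  have hx1 : σ * x * σ⁻¹ ∈ P := conj_mem_of_mem_normalizer c.hPinv.1 hx
  have hx2 : σ⁻¹ * x * σ ∈ P := conj_mem_of_mem_normalizer' c.hPinv.1 hx
  set y := x * (σ * x * σ⁻¹) * (σ⁻¹ * x * σ) with hy
  have hyP : y ∈ P := mul_mem (mul_mem hx hx1) hx2
  apply c.hfpf y hyP
  have e1 : σ * y * σ⁻¹ = x⁻¹ * y * x := by
    calc σ * y * σ⁻¹
        = (σ * x * σ⁻¹) * (σ * (σ * x * σ⁻¹) * σ⁻¹) * (σ * (σ⁻¹ * x * σ) * σ⁻¹) := by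
          rw [hy]; group
      _ = (σ * x * σ⁻¹) * (σ⁻¹ * x * σ) * x := by
          rw [c.conj_sigma_sigma]
          have : σ * (σ⁻¹ * x * σ) * σ⁻¹ = x := by group
          rw [this]
      _ = x⁻¹ * y * x := by rw [hy]; group
  rw [e1]
  have := c.hcomm y⁻¹ (inv_mem hyP) x⁻¹ (inv_mem hx)
  have e2 : y⁻¹ * x⁻¹ * y⁻¹⁻¹ * x⁻¹⁻¹ = y⁻¹ * (x⁻¹ * y * x) := by group
  rwa [e2] at this

/-- The subgroup of `P` inverted by `τ` modulo `CP`. -/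
def Ctx.E (c : Ctx p σ τ P CP) : Subgroup H where
  carrier := {x | x ∈ P ∧ x * (τ * x * τ⁻¹) ∈ CP}
  one_mem' := ⟨one_mem _, by simp [one_mem]⟩
  mul_mem' := by
    rintro x y ⟨hx, hx'⟩ ⟨hy, hy'⟩
    refine ⟨mul_mem hx hy, ?_⟩
    have hxτ : τ * x * τ⁻¹ ∈ P := conj_mem_of_mem_normalizer c.hPinv.2 hx
    have e : x * y * (τ * (x * y) * τ⁻¹) =
        (x * (τ * x * τ⁻¹)) * ((τ * x * τ⁻¹)⁻¹ * y * (τ * x * τ⁻¹)⁻¹⁻¹ * y⁻¹) *
          (y * (τ * y * τ⁻¹)) := by group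
    rw [e]
    exact mul_mem (mul_mem hx' (c.hcomm _ (inv_mem hxτ) _ hy)) hy'
  inv_mem' := by
    rintro x ⟨hx, hx'⟩
    refine ⟨inv_mem hx, ?_⟩
    have e : x⁻¹ * (τ * x⁻¹ * τ⁻¹) = (x⁻¹ * (x * (τ * x * τ⁻¹)) * x)⁻¹ := by group
    rw [e]
    exact inv_mem (c.conj_mem' hx hx')

theorem Ctx.mem_E (c : Ctx p σ τ P CP) {x : H} :
    x ∈ c.E ↔ x ∈ P ∧ x * (τ * x * τ⁻¹) ∈ CP := Iff.rfl

theorem Ctx.E_le (c : Ctx p σ τ P CP) : c.E ≤ P := fun _ hx => hx.1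

theorem Ctx.le_E (c : Ctx p σ τ P CP) : CP ≤ c.E := fun k hk =>
  ⟨c.hle hk, mul_mem hk (conj_mem_of_mem_normalizer c.hCinv.2 hk)⟩

theorem Ctx.tau_mem_normalizer_E (c : Ctx p σ τ P CP) : τ ∈ normalizer (c.E : Set H) := by
  apply mem_normalizer_fintype
  rintro x ⟨hx, hx'⟩
  refine ⟨conj_mem_of_mem_normalizer c.hPinv.2 hx, ?_⟩
  rw [c.conj_tau_tau]
  have e : τ * x * τ⁻¹ * x = x⁻¹ * (x * (τ * x * τ⁻¹)) * x := by group
  rw [e]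
  exact c.conj_mem' hx hx'

/-- `P` normalizes every subgroup between `CP` and `P`. -/
theorem Ctx.le_normalizer (c : Ctx p σ τ P CP) {Y : Subgroup H} (hCY : CP ≤ Y) (hYP : Y ≤ P) :
    P ≤ normalizer (Y : Set H) := by
  intro x hx
  apply mem_normalizer_fintype
  intro y hy
  have hy' : y ∈ (Y : Subgroup H) := hy
  have e : x * y * x⁻¹ = (x * y * x⁻¹ * y⁻¹) * y := by group
  rw [e]
  exact mul_mem (hCY (c.hcomm x hx y (hYP hy'))) hy'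

/-- `E ≤ Y` as soon as `Y ⊇ CP` contains all `x⁻¹ x^τ`. -/
theorem Ctx.E_le_of (c : Ctx p σ τ P CP) {Y : Subgroup H} (hCY : CP ≤ Y)
    (hY : ∀ x ∈ P, x⁻¹ * (τ * x * τ⁻¹) ∈ Y) : c.E ≤ Y := by
  rintro x ⟨hx, hx'⟩
  apply mem_of_sq_mem (c.odd hx)
  have e : x * x = (x * (τ * x * τ⁻¹)) * (x⁻¹ * (τ * x * τ⁻¹))⁻¹ := by group
  rw [e]
  exact mul_mem (hCY hx') (inv_mem (hY x hx))

/-- Lemma Z: a `τ`-fixed (mod `CP`) element of a proper `τ`-invariant `Y ⊇ E` lies in `CP`. -/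
theorem Ctx.mem_of_fixed (c : Ctx p σ τ P CP) {Y : Subgroup H} (hCY : CP ≤ Y) (hYP : Y ≤ P)
    (hYne : Y ≠ P) (hτY : τ ∈ normalizer (Y : Set H)) (hEY : c.E ≤ Y) {z : H} (hzY : z ∈ Y)
    (hz : z⁻¹ * (τ * z * τ⁻¹) ∈ CP) : z ∈ CP := by
  have hzP : z ∈ P := hYP hzY
  have hPY : P ≤ normalizer (Y : Set H) := c.le_normalizer hCY hYP
  -- key: for `w ∈ Y` fixed by `τ` mod `CP`, `σ w σ⁻¹ ∈ Y`
  have key : ∀ w ∈ Y, w⁻¹ * (τ * w * τ⁻¹) ∈ CP → σ * w * σ⁻¹ ∈ Y := by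
    intro w hwY hw
    have hwP : w ∈ P := hYP hwY
    set k := w⁻¹ * (τ * w * τ⁻¹) with hk
    set a := σ * w * σ⁻¹ with ha
    set d := σ⁻¹ * w * σ with hd
    have haP : a ∈ P := conj_mem_of_mem_normalizer c.hPinv.1 hwP
    have hdP : d ∈ P := conj_mem_of_mem_normalizer' c.hPinv.1 hwP
    have hτw : τ * w * τ⁻¹ = w * k := by rw [hk]; group
    -- `e = a d⁻¹ ∈ E`
    have heE : a * d⁻¹ ∈ c.E := by
      refine ⟨mul_mem haP (inv_mem hdP), ?_⟩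
      have e1 : τ * a * τ⁻¹ = d * (σ⁻¹ * k * σ) := by
        rw [ha, c.conj_tau_sigma, hτw, hd]; group
      have e2 : τ * d * τ⁻¹ = a * (σ * k * σ⁻¹) := by
        rw [hd, c.conj_tau_sigmaInv, hτw, ha]; group
      have e3 : a * d⁻¹ * (τ * (a * d⁻¹) * τ⁻¹) =
          a * ((σ⁻¹ * k * σ) * (σ * k * σ⁻¹)⁻¹) * a⁻¹ := by
        have : τ * (a * d⁻¹) * τ⁻¹ = (τ * a * τ⁻¹) * (τ * d * τ⁻¹)⁻¹ := by group
        rw [this, e1, e2]; group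
      rw [e3]
      exact c.conj_mem haP (mul_mem (conj_mem_of_mem_normalizer' c.hCinv.1 hw)
        (inv_mem (conj_mem_of_mem_normalizer c.hCinv.1 hw)))
    have heY : a * d⁻¹ ∈ Y := hEY heE
    -- `d⁻¹ = n⁻¹ w a` with `n = w a d ∈ CP`
    have hn : w * a * d ∈ CP := c.norm3 hwP
    have e4 : a * d⁻¹ = a * ((w * a * d)⁻¹ * w) * a := by group
    rw [e4] at heY
    -- `a b a ∈ Y`, `b ∈ Y` ⇒ `a a ∈ Y`
    have hb : (w * a * d)⁻¹ * w ∈ Y := mul_mem (inv_mem (hCY hn)) hwY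
    have hb' : a⁻¹ * ((w * a * d)⁻¹ * w) * a ∈ Y := conj_mem_of_mem_normalizer' (hPY haP) hb
    have e5 : a * a = (a * ((w * a * d)⁻¹ * w) * a) * (a⁻¹ * ((w * a * d)⁻¹ * w) * a)⁻¹ := by
      group
    apply mem_of_sq_mem (c.odd haP)
    rw [e5]
    exact mul_mem heY (inv_mem hb')
  -- the `σ`-core of `Y`
  let N : Subgroup H := Y ⊓ Y.comap (MulAut.conj σ).toMonoidHom ⊓
    Y.comap (MulAut.conj σ⁻¹).toMonoidHom
  have hmemN : ∀ x : H, x ∈ N ↔ x ∈ Y ∧ σ * x * σ⁻¹ ∈ Y ∧ σ⁻¹ * x * σ ∈ Y := by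
    intro x
    simp only [N, mem_inf, mem_comap, MulEquiv.coe_toMonoidHom, MulAut.conj_apply, inv_inv]
    tauto
  have hNσ : σ ∈ normalizer (N : Set H) := by
    apply mem_normalizer_fintype
    intro x hx
    obtain ⟨h1, h2, h3⟩ := (hmemN x).mp hx
    refine (hmemN _).mpr ⟨h2, ?_, ?_⟩
    · rw [c.conj_sigma_sigma]; exact h3
    · have : σ⁻¹ * (σ * x * σ⁻¹) * σ = x := by group
      rw [this]; exact h1
  have hNτ : τ ∈ normalizer (N : Set H) := by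
    apply mem_normalizer_fintype
    intro x hx
    obtain ⟨h1, h2, h3⟩ := (hmemN x).mp hx
    refine (hmemN _).mpr ⟨conj_mem_of_mem_normalizer hτY h1, ?_, ?_⟩
    · have : σ * (τ * x * τ⁻¹) * σ⁻¹ = τ * (σ⁻¹ * x * σ) * τ⁻¹ := by
        rw [c.conj_tau_sigmaInv]
      rw [this]; exact conj_mem_of_mem_normalizer hτY h3
    · have : σ⁻¹ * (τ * x * τ⁻¹) * σ = τ * (σ * x * σ⁻¹) * τ⁻¹ := by
        rw [c.conj_tau_sigma]
      rw [this]; exact conj_mem_of_mem_normalizer hτY h2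
  have hCN : CP ≤ N := by
    intro k hk
    exact (hmemN k).mpr ⟨hCY hk, hCY (conj_mem_of_mem_normalizer c.hCinv.1 hk),
      hCY (conj_mem_of_mem_normalizer' c.hCinv.1 hk)⟩
  have hNY : N ≤ Y := fun x hx => ((hmemN x).mp hx).1
  have hN : N = CP := by
    rcases c.hirr N hCN (hNY.trans hYP) ⟨hNσ, hNτ⟩ with h | h
    · exact h
    · exfalso
      apply hYne
      exact le_antisymm hYP (by rw [← h]; exact hNY)
  rw [← hN]
  have ha : σ * z * σ⁻¹ ∈ Y := key z hzY hz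
  refine (hmemN z).mpr ⟨hzY, ha, ?_⟩
  -- `σ⁻¹ z σ = (z · σzσ⁻¹)⁻¹ · n`
  have hn : z * (σ * z * σ⁻¹) * (σ⁻¹ * z * σ) ∈ CP := c.norm3 hzP
  have e : σ⁻¹ * z * σ = (z * (σ * z * σ⁻¹))⁻¹ * (z * (σ * z * σ⁻¹) * (σ⁻¹ * z * σ)) := by group
  rw [e]
  exact mul_mem (inv_mem (mul_mem hzY ha)) (hCY hn)

/-- `Y ≤ E` for a proper `τ`-invariant `Y ⊇ E`. -/
theorem Ctx.le_E_of (c : Ctx p σ τ P CP) {Y : Subgroup H} (hCY : CP ≤ Y) (hYP : Y ≤ P)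
    (hYne : Y ≠ P) (hτY : τ ∈ normalizer (Y : Set H)) (hEY : c.E ≤ Y) : Y ≤ c.E := by
  intro y hy
  have hyP : y ∈ P := hYP hy
  have hyτ : τ * y * τ⁻¹ ∈ Y := conj_mem_of_mem_normalizer hτY hy
  have hyτP : τ * y * τ⁻¹ ∈ P := hYP hyτ
  refine ⟨hyP, ?_⟩
  apply c.mem_of_fixed hCY hYP hYne hτY hEY (mul_mem hy hyτ)
  have e : (y * (τ * y * τ⁻¹))⁻¹ * (τ * (y * (τ * y * τ⁻¹)) * τ⁻¹) =
      (τ * y * τ⁻¹)⁻¹ * y⁻¹ * (τ * y * τ⁻¹)⁻¹⁻¹ * y⁻¹⁻¹ := by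
    have : τ * (y * (τ * y * τ⁻¹)) * τ⁻¹ = (τ * y * τ⁻¹) * (τ * (τ * y * τ⁻¹) * τ⁻¹) := by group
    rw [this, c.conj_tau_tau]; group
  rw [e]
  exact c.hcomm _ (inv_mem hyτP) _ (inv_mem hyP)

/-- the coverage computation: `(1 - τ₁)(1 - τ) y = y` on the `τ₁`-inverted part. -/
theorem Ctx.cover (c : Ctx p σ τ P CP) {y : H} (hyP : y ∈ P)
    (hy : y * ((σ * τ * σ⁻¹) * y * (σ * τ * σ⁻¹)⁻¹) ∈ CP) :
    y * (τ * y * τ⁻¹)⁻¹ ∈ c.E ∧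
      y⁻¹ * ((σ * τ * σ⁻¹) * (y * (τ * y * τ⁻¹)⁻¹)⁻¹ * (σ * τ * σ⁻¹)⁻¹ *
        (y * (τ * y * τ⁻¹)⁻¹)) ∈ CP := by
  have hτinv : τ⁻¹ = τ := inv_tau c.hS
  have hττ : τ * τ = 1 := by
    calc τ * τ = τ⁻¹ * τ := by rw [hτinv]
      _ = 1 := by group
  set a := σ * y * σ⁻¹ with ha
  set d := σ⁻¹ * y * σ with hd
  set u := τ * y * τ⁻¹ with hu
  set t1 := (σ * τ * σ⁻¹) * y * (σ * τ * σ⁻¹)⁻¹ with ht1
  have haP : a ∈ P := conj_mem_of_mem_normalizer c.hPinv.1 hyP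
  have hdP : d ∈ P := conj_mem_of_mem_normalizer' c.hPinv.1 hyP
  have huP : u ∈ P := conj_mem_of_mem_normalizer c.hPinv.2 hyP
  constructor
  · refine ⟨mul_mem hyP (inv_mem huP), ?_⟩
    have e : y * u⁻¹ * (τ * (y * u⁻¹) * τ⁻¹) = 1 := by
      have : τ * (y * u⁻¹) * τ⁻¹ = (τ * y * τ⁻¹) * (τ * u * τ⁻¹)⁻¹ := by group
      rw [this, hu, c.conj_tau_tau]; group
    rw [e]; exact one_mem _
  · -- `τ₁ u τ₁⁻¹ = d`
    have e1 : (σ * τ * σ⁻¹) * u * (σ * τ * σ⁻¹)⁻¹ = d := by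
      have h1 : σ * τ * σ⁻¹ * τ = σ⁻¹ := by
        calc σ * τ * σ⁻¹ * τ = σ * (τ * σ⁻¹) * τ := by group
          _ = σ * (σ * τ) * τ := by rw [tau_sigma_inv c.hS]
          _ = (σ * σ) * (τ * τ) := by group
          _ = σ⁻¹ := by rw [hττ, c.sigma_sq, mul_one]
      calc (σ * τ * σ⁻¹) * u * (σ * τ * σ⁻¹)⁻¹
          = (σ * τ * σ⁻¹ * τ) * y * (σ * τ * σ⁻¹ * τ)⁻¹ := by rw [hu]; group
        _ = d := by rw [h1, hd, inv_inv]
    -- `u a = τ (y t1) τ⁻¹ ∈ CP`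
    have e2 : u * a = τ * (y * t1) * τ⁻¹ := by
      have h1 : τ * (σ * τ * σ⁻¹) = σ := by
        calc τ * (σ * τ * σ⁻¹) = (τ * σ) * τ * σ⁻¹ := by group
          _ = (σ⁻¹ * τ) * τ * σ⁻¹ := by rw [tau_sigma c.hS]
          _ = σ⁻¹ * (τ * τ) * σ⁻¹ := by group
          _ = (σ * σ)⁻¹ := by rw [hττ]; group
          _ = σ := by rw [c.sigma_sq, inv_inv]
      calc u * a = u * ((τ * (σ * τ * σ⁻¹)) * y * (τ * (σ * τ * σ⁻¹))⁻¹) := by rw [h1]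
        _ = τ * (y * t1) * τ⁻¹ := by rw [hu, ht1]; group
    have hk2 : u * a ∈ CP := by
      rw [e2]; exact conj_mem_of_mem_normalizer c.hCinv.2 hy
    have hk3 : y * a * d ∈ CP := c.norm3 hyP
    have e3 : (σ * τ * σ⁻¹) * (y * u⁻¹)⁻¹ * (σ * τ * σ⁻¹)⁻¹ * (y * u⁻¹) =
        d * t1⁻¹ * y * u⁻¹ := by
      have : (σ * τ * σ⁻¹) * (y * u⁻¹)⁻¹ * (σ * τ * σ⁻¹)⁻¹ =
          ((σ * τ * σ⁻¹) * u * (σ * τ * σ⁻¹)⁻¹) * t1⁻¹ := by rw [ht1]; group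
      rw [this, e1]; group
    rw [e3]
    have e4 : y⁻¹ * (d * t1⁻¹ * y * u⁻¹) =
        (y⁻¹ * d * y⁻¹⁻¹ * d⁻¹) * (d * (y * a * d) * d⁻¹) *
          ((y * y * a)⁻¹ * (y * t1)⁻¹ * (y * y * a)) * (u * a)⁻¹ := by group
    rw [e4]
    refine mul_mem (mul_mem (mul_mem (c.hcomm _ (inv_mem hyP) _ hdP) (c.conj_mem hdP hk3)) ?_)
      (inv_mem hk2)
    exact c.conj_mem' (mul_mem (mul_mem hyP hyP) haP) (inv_mem hy)

end ctx

section transfer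

variable {p : ℕ} [Fact p.Prime] {σ τ : H} {P CP : Subgroup H}

theorem inv_of_inv_tauI {X : Subgroup H} (i : ℕ) (h : Inv σ (σ ^ i * τ * σ⁻¹ ^ i) X) :
    Inv σ τ X := by
  refine ⟨h.1, ?_⟩
  have e : τ = σ⁻¹ ^ i * (σ ^ i * τ * σ⁻¹ ^ i) * σ ^ i := by rw [inv_pow]; group
  rw [e]
  exact mul_mem (mul_mem (pow_mem (inv_mem h.1) i) h.2) (pow_mem h.1 i)

/-- the context for `τ_i`. -/
theorem Ctx.tauI (c : Ctx p σ τ P CP) (i : ℕ) : Ctx p σ (σ ^ i * τ * σ⁻¹ ^ i) P CP where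
  hS := s3Pair_tauI c.hS i
  hp2 := c.hp2
  hP := c.hP
  hle := c.hle
  hnorm := c.hnorm
  hPinv := inv_tauI c.hPinv i
  hCinv := inv_tauI c.hCinv i
  hcomm := c.hcomm
  hirr := fun P0 h1 h2 h3 => c.hirr P0 h1 h2 (inv_of_inv_tauI i h3)
  hfpf := c.hfpf
  hne := c.hne

/-- `E(τ_i) = σ^i E(τ) σ^-i`. -/
theorem Ctx.E_tauI (c : Ctx p σ τ P CP) (i : ℕ) :
    (c.tauI i).E = c.E.map (MulAut.conj (σ ^ i)).toMonoidHom := by
  have hgP : σ ^ i ∈ normalizer (P : Set H) := pow_mem c.hPinv.1 i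
  have hgC : σ ^ i ∈ normalizer (CP : Set H) := pow_mem c.hCinv.1 i
  ext x
  rw [mem_map]
  constructor
  · rintro ⟨hx, hx'⟩
    refine ⟨(σ ^ i)⁻¹ * x * σ ^ i, ⟨conj_mem_of_mem_normalizer' hgP hx, ?_⟩, ?_⟩
    · have e : (σ ^ i)⁻¹ * x * σ ^ i * (τ * ((σ ^ i)⁻¹ * x * σ ^ i) * τ⁻¹) =
          (σ ^ i)⁻¹ * (x * ((σ ^ i * τ * σ⁻¹ ^ i) * x * (σ ^ i * τ * σ⁻¹ ^ i)⁻¹)) * σ ^ i := by
        rw [inv_pow]; group
      rw [e]
      exact conj_mem_of_mem_normalizer' hgC hx'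
    · show σ ^ i * ((σ ^ i)⁻¹ * x * σ ^ i) * (σ ^ i)⁻¹ = x
      group
  · rintro ⟨e, ⟨he, he'⟩, rfl⟩
    refine ⟨conj_mem_of_mem_normalizer hgP he, ?_⟩
    show σ ^ i * e * (σ ^ i)⁻¹ * ((σ ^ i * τ * σ⁻¹ ^ i) * (σ ^ i * e * (σ ^ i)⁻¹) *
      (σ ^ i * τ * σ⁻¹ ^ i)⁻¹) ∈ CP
    have e1 : σ ^ i * e * (σ ^ i)⁻¹ * ((σ ^ i * τ * σ⁻¹ ^ i) * (σ ^ i * e * (σ ^ i)⁻¹) *
        (σ ^ i * τ * σ⁻¹ ^ i)⁻¹) = σ ^ i * (e * (τ * e * τ⁻¹)) * (σ ^ i)⁻¹ := by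
      rw [inv_pow]; group
    rw [e1]
    exact conj_mem_of_mem_normalizer hgC he'

end transfer

section main

variable {p q r : ℕ} [Fact p.Prime] [Fact q.Prime] [Fact r.Prime] {σ τ : H}
  {P Q W CP : Subgroup H}

theorem bcfg_CP_le (c : BCfg p q r σ τ P Q W CP) : CP ≤ P := by
  rw [c.hCP]; exact inf_le_left

theorem bcfg_CP_cent (c : BCfg p q r σ τ P Q W CP) : CP ≤ centralizer (Q : Set H) := by
  rw [c.hCP]; exact inf_le_right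

theorem bcfg_mem_normalizer_CP (c : BCfg p q r σ τ P Q W CP) {g : H}
    (hP : g ∈ normalizer (P : Set H)) (hQ : g ∈ normalizer (Q : Set H)) :
    g ∈ normalizer (CP : Set H) := by
  rw [c.hCP]; exact mem_normalizer_inf_centralizer hP hQ

theorem bcfg_le_normalizer_CP (c : BCfg p q r σ τ P Q W CP) : P ≤ normalizer (CP : Set H) :=
  fun x hx => bcfg_mem_normalizer_CP c (le_normalizer hx) (c.hPQ hx)

theorem bcfg_CP_inv (c : BCfg p q r σ τ P Q W CP) : Inv σ τ CP :=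
  ⟨bcfg_mem_normalizer_CP c c.hPinv.1 c.hQinv.1, bcfg_mem_normalizer_CP c c.hPinv.2 c.hQinv.2⟩

/-- `σ` is fixed-point-free on `P / CP`. -/
theorem bcfg_fpf (c : BCfg p q r σ τ P Q W CP) (h2 : ∃ x ∈ P, x⁻¹ * (σ * x * σ⁻¹) ∉ CP) :
    ∀ x ∈ P, x⁻¹ * (σ * x * σ⁻¹) ∈ CP → x ∈ CP := by
  have hn := bcfg_le_normalizer_CP c
  have hinv := bcfg_CP_inv c
  let S : Subgroup H :=
    { carrier := {x | x ∈ P ∧ x⁻¹ * (σ * x * σ⁻¹) ∈ CP}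
      one_mem' := ⟨one_mem _, by simp [one_mem]⟩
      mul_mem' := by
        rintro x y ⟨hx, hx'⟩ ⟨hy, hy'⟩
        refine ⟨mul_mem hx hy, ?_⟩
        have e : (x * y)⁻¹ * (σ * (x * y) * σ⁻¹) =
            (y⁻¹ * (x⁻¹ * (σ * x * σ⁻¹)) * y) * (y⁻¹ * (σ * y * σ⁻¹)) := by group
        rw [e]
        exact mul_mem (conj_mem_of_mem_normalizer' (hn hy) hx') hy'
      inv_mem' := by
        rintro x ⟨hx, hx'⟩
        refine ⟨inv_mem hx, ?_⟩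
        have e : x⁻¹⁻¹ * (σ * x⁻¹ * σ⁻¹) = x * (x⁻¹ * (σ * x * σ⁻¹))⁻¹ * x⁻¹ := by group
        rw [e]
        exact conj_mem_of_mem_normalizer (hn hx) (inv_mem hx') }
  have hmem : ∀ x, x ∈ S ↔ x ∈ P ∧ x⁻¹ * (σ * x * σ⁻¹) ∈ CP := fun x => Iff.rfl
  have hSσ : σ ∈ normalizer (S : Set H) := by
    apply mem_normalizer_fintype
    rintro x ⟨hx, hx'⟩
    refine ⟨conj_mem_of_mem_normalizer c.hPinv.1 hx, ?_⟩
    have e : (σ * x * σ⁻¹)⁻¹ * (σ * (σ * x * σ⁻¹) * σ⁻¹) = σ * (x⁻¹ * (σ * x * σ⁻¹)) * σ⁻¹ := by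
      group
    rw [e]
    exact conj_mem_of_mem_normalizer hinv.1 hx'
  have hSτ : τ ∈ normalizer (S : Set H) := by
    apply mem_normalizer_fintype
    rintro x ⟨hx, hx'⟩
    refine ⟨conj_mem_of_mem_normalizer c.hPinv.2 hx, ?_⟩
    have e : (τ * x * τ⁻¹)⁻¹ * (σ * (τ * x * τ⁻¹) * σ⁻¹) =
        τ * (σ⁻¹ * (x⁻¹ * (σ * x * σ⁻¹)) * σ)⁻¹ * τ⁻¹ := by
      have h1 : σ * (τ * x * τ⁻¹) * σ⁻¹ = τ * (σ⁻¹ * x * σ) * τ⁻¹ := by
        calc σ * (τ * x * τ⁻¹) * σ⁻¹ = (σ * τ) * x * (σ * τ)⁻¹ := by group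
          _ = (τ * σ⁻¹) * x * (τ * σ⁻¹)⁻¹ := by rw [tau_sigma_inv c.hS]
          _ = τ * (σ⁻¹ * x * σ) * τ⁻¹ := by group
      rw [h1]; group
    rw [e]
    exact conj_mem_of_mem_normalizer hinv.2 (inv_mem (conj_mem_of_mem_normalizer' hinv.1 hx'))
  have hCS : CP ≤ S := fun k hk =>
    ⟨bcfg_CP_le c hk, mul_mem (inv_mem hk) (conj_mem_of_mem_normalizer hinv.1 hk)⟩
  have hSP : S ≤ P := fun x hx => hx.1
  rcases c.hPirr S hCS hSP ⟨hSσ, hSτ⟩ with h | h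
  · intro x hx hx'
    rw [← h]; exact ⟨hx, hx'⟩
  · exfalso
    obtain ⟨x, hx, hx'⟩ := h2
    have : x ∈ S := by rw [h]; exact hx
    exact hx' this.2

theorem bcfg_ctx (c : BCfg p q r σ τ P Q W CP) (h2 : ∃ x ∈ P, x⁻¹ * (σ * x * σ⁻¹) ∉ CP) :
    Ctx p σ τ P CP where
  hS := c.hS
  hp2 := c.hp2
  hP := c.hP
  hle := bcfg_CP_le c
  hnorm := bcfg_le_normalizer_CP c
  hPinv := c.hPinv
  hCinv := bcfg_CP_inv c
  hcomm := c.hPcomm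
  hirr := c.hPirr
  hfpf := bcfg_fpf c h2
  hne := c.hCPne

theorem bcfg_hypSet (c : BCfg p q r σ τ P Q W CP) : HypSet p Q P CP where
  hVab := c.hQea.1
  hTV := c.hPQ
  hTs := c.hP
  hcop := by
    have hq : q.Prime := Fact.out
    have hp : p.Prime := Fact.out
    obtain ⟨n, hn⟩ := IsPGroup.iff_card.mp c.hQ
    rw [hn]
    exact Nat.Coprime.pow_left n ((Nat.coprime_primes hq hp).mpr (Ne.symm c.hpq))
  hS0T := bcfg_CP_le c
  hS0 := bcfg_CP_cent c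
  hcomm := c.hPcomm
  hpow := c.hPpow
  hfix := c.hCQP

theorem map_conj_map_conj (X : Subgroup H) (g h : H) :
    (X.map (MulAut.conj g).toMonoidHom).map (MulAut.conj h).toMonoidHom =
      X.map (MulAut.conj (h * g)).toMonoidHom := by
  rw [map_map]
  congr 1
  ext x
  simp [MulAut.conj_apply, mul_assoc]

theorem map_conj_one (X : Subgroup H) : X.map (MulAut.conj (1 : H)).toMonoidHom = X := by
  ext x
  simp [mem_map]

theorem map_conj_inf_centralizer {V D : Subgroup H} {g : H} (hg : g ∈ normalizer (V : Set H)) :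
    (V ⊓ centralizer (D : Set H)).map (MulAut.conj g).toMonoidHom =
      V ⊓ centralizer ((D.map (MulAut.conj g).toMonoidHom : Subgroup H) : Set H) := by
  ext x
  rw [mem_map]
  constructor
  · rintro ⟨v, hv, rfl⟩
    exact (fix_conj V D g hg v).mp hv
  · intro hx
    refine ⟨g⁻¹ * x * g, ?_, ?_⟩
    · apply (fix_conj V D g hg _).mpr
      have e : g * (g⁻¹ * x * g) * g⁻¹ = x := by group
      rw [e]; exact hx
    · show g * (g⁻¹ * x * g) * g⁻¹ = x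
      group

/-- (2.1) a hyperplane `Y` of `P / CP` with `C_Q(Y) ≠ 1` is not `σ`-invariant. -/
theorem sigma_not_mem_normalizer (c : BCfg p q r σ τ P Q W CP)
    (h2 : ∃ x ∈ P, x⁻¹ * (σ * x * σ⁻¹) ∉ CP) {Y : Subgroup H} (hY : IsHyp p P CP Y)
    (hne : Q ⊓ centralizer (Y : Set H) ≠ ⊥) : σ ∉ normalizer (Y : Set H) := by
  have hp : p.Prime := Fact.out
  intro hσY
  have ctx := bcfg_ctx c h2
  have facts := hypFacts c.hS c.hp2 c.hp3 c.hq3 c.hpq (bcfg_hypSet c) c.hQea c.hQinv c.hPinv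
    (bcfg_CP_inv c) c.hfixQ Y hY hne
  have hall := facts.2.1 hσY
  have hYne : Y ≠ P := by
    intro h
    have := hY.2.2
    rw [h, relIndex_self] at this
    exact hp.one_lt.ne this
  let N : Subgroup H := Y ⊓ Y.comap (MulAut.conj τ).toMonoidHom
  have hmemN : ∀ x : H, x ∈ N ↔ x ∈ Y ∧ τ * x * τ⁻¹ ∈ Y := by
    intro x
    simp only [N, mem_inf, mem_comap, MulEquiv.coe_toMonoidHom, MulAut.conj_apply]
  have hNσ : σ ∈ normalizer (N : Set H) := by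
    apply mem_normalizer_fintype
    intro x hx
    obtain ⟨h1, h3⟩ := (hmemN x).mp hx
    refine (hmemN _).mpr ⟨conj_mem_of_mem_normalizer hσY h1, ?_⟩
    rw [ctx.conj_tau_sigma]
    exact conj_mem_of_mem_normalizer' hσY h3
  have hNτ : τ ∈ normalizer (N : Set H) := by
    apply mem_normalizer_fintype
    intro x hx
    obtain ⟨h1, h3⟩ := (hmemN x).mp hx
    refine (hmemN _).mpr ⟨h3, ?_⟩
    rw [ctx.conj_tau_tau]; exact h1
  have hCN : CP ≤ N := fun k hk =>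
    (hmemN k).mpr ⟨hY.1 hk, hY.1 (conj_mem_of_mem_normalizer ctx.hCinv.2 hk)⟩
  have hNY : N ≤ Y := fun x hx => ((hmemN x).mp hx).1
  have hN : N = CP := by
    rcases c.hPirr N hCN (hNY.trans hY.2.1) ⟨hNσ, hNτ⟩ with h | h
    · exact h
    · exfalso
      exact hYne (le_antisymm hY.2.1 (by rw [← h]; exact hNY))
  obtain ⟨x, hx, hx'⟩ := h2
  apply hx'
  rw [← hN]
  refine (hmemN _).mpr ⟨hall x hx, ?_⟩
  -- `τ (x⁻¹ x^σ) τ⁻¹ = w⁻¹ (σ⁻¹ w σ)` with `w = τ x τ⁻¹`, and `w⁻¹ σ⁻¹ w σ = (v⁻¹ v^σ)⁻¹`,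
  -- `v = σ⁻¹ w σ`
  set w := τ * x * τ⁻¹ with hw
  have hwP : w ∈ P := conj_mem_of_mem_normalizer c.hPinv.2 hx
  set v := σ⁻¹ * w * σ with hv
  have hvP : v ∈ P := conj_mem_of_mem_normalizer' c.hPinv.1 hwP
  have e : τ * (x⁻¹ * (σ * x * σ⁻¹)) * τ⁻¹ = (v⁻¹ * (σ * v * σ⁻¹))⁻¹ := by
    have h1 : τ * (σ * x * σ⁻¹) * τ⁻¹ = σ⁻¹ * w * σ := by rw [ctx.conj_tau_sigma]
    have h3 : τ * (x⁻¹ * (σ * x * σ⁻¹)) * τ⁻¹ = w⁻¹ * (τ * (σ * x * σ⁻¹) * τ⁻¹) := by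
      rw [hw]; group
    rw [h3, h1, hv]; group
  rw [e]
  exact inv_mem (hall v hvP)

/-- (S2) the hyperplanes `Y` of `P / CP` with `C_Q(Y) ≠ 1` are among the `σ^i E σ^-i`. -/
theorem hyp_eq (c : BCfg p q r σ τ P Q W CP)
    (h2 : ∃ x ∈ P, x⁻¹ * (σ * x * σ⁻¹) ∉ CP) {Y : Subgroup H} (hY : IsHyp p P CP Y)
    (hne : Q ⊓ centralizer (Y : Set H) ≠ ⊥) :
    ∃ i : ℕ, i < 3 ∧ Y = (bcfg_ctx c h2).E.map (MulAut.conj (σ ^ i)).toMonoidHom := by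
  have hp : p.Prime := Fact.out
  have ctx := bcfg_ctx c h2
  have hσY := sigma_not_mem_normalizer c h2 hY hne
  have facts := hypFacts c.hS c.hp2 c.hp3 c.hq3 c.hpq (bcfg_hypSet c) c.hQea c.hQinv c.hPinv
    (bcfg_CP_inv c) c.hfixQ Y hY hne
  obtain ⟨i, hi3, hτiY⟩ := facts.2.2.1 hσY
  obtain ⟨-, hall⟩ := facts.2.2.2 i hσY hτiY
  have hYne : Y ≠ P := by
    intro h
    have := hY.2.2
    rw [h, relIndex_self] at this
    exact hp.one_lt.ne this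
  refine ⟨i, hi3, ?_⟩
  rw [← (bcfg_ctx c h2).E_tauI i]
  have h1 : ((bcfg_ctx c h2).tauI i).E ≤ Y := ((bcfg_ctx c h2).tauI i).E_le_of hY.1 hall
  have h3 : Y ≤ ((bcfg_ctx c h2).tauI i).E :=
    ((bcfg_ctx c h2).tauI i).le_E_of hY.1 hY.2.1 hYne hτiY h1
  exact le_antisymm h3 h1

theorem card_coprime_of_le (c : BCfg p q r σ τ P Q W CP) {A B : Subgroup H} (hA : A ≤ Q)
    (hB : B ≤ P) : (Nat.card A).Coprime (Nat.card B) := by
  have hq : q.Prime := Fact.out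
  have hp : p.Prime := Fact.out
  obtain ⟨n, hn⟩ := IsPGroup.iff_card.mp c.hQ
  obtain ⟨m, hm⟩ := IsPGroup.iff_card.mp c.hP
  have h1 : Nat.card A ∣ q ^ n := hn ▸ card_dvd_of_le hA
  have h3 : Nat.card B ∣ p ^ m := hm ▸ card_dvd_of_le hB
  have h4 : (q ^ n).Coprime (p ^ m) :=
    Nat.Coprime.pow n m ((Nat.coprime_primes hq hp).mpr (Ne.symm c.hpq))
  exact (h4.coprime_dvd_left h1).coprime_dvd_right h3

/-- two distinct hyperplanes: `C_Q(E) ∩ C(E') = 1`, hence `C_Q(E) = [C_Q(E), E']`. -/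
theorem le_commutator_of_hyp (c : BCfg p q r σ τ P Q W CP) {E E' : Subgroup H}
    (hE : IsHyp p P CP E) (hE' : IsHyp p P CP E') (hne : E' ≠ E) :
    Q ⊓ centralizer (E : Set H) ≤ ⁅Q ⊓ centralizer (E : Set H), E'⁆ := by
  have hp : p.Prime := Fact.out
  have hs := bcfg_hypSet c
  set V := Q ⊓ centralizer (E : Set H) with hV
  have hVQ : V ≤ Q := inf_le_left
  have hE'V : E' ≤ normalizer (V : Set H) := fun x hx =>
    mem_normalizer_inf_centralizer (c.hPQ (hE'.2.1 hx)) (hyp_normal hs hE (hE'.2.1 hx))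
  have hsplit := Cfsg.Agent.Helper31.Ward.abelian_coprime_split V E'
    (fun u hu v hv => c.hQea.1 u (hVQ hu) v (hVQ hv)) hE'V (card_coprime_of_le c hVQ hE'.2.1)
  have hbot : V ⊓ centralizer (E' : Set H) = ⊥ := by
    rw [eq_bot_iff, ← c.hCQP]
    intro x hx
    obtain ⟨hxV, hxE'⟩ := mem_inf.mp hx
    obtain ⟨hxQ, hxE⟩ := mem_inf.mp hxV
    refine mem_inf.mpr ⟨hxQ, ?_⟩
    have hsup : P ≤ E ⊔ E' :=
      Cfsg.Agent.Helper31.Ward.le_sup_of_relIndex_prime hp hE.2.1 hE'.2.1 hE.2.2 hE'.2.2 hne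
    have h1 : E ≤ centralizer ({x} : Set H) := by
      intro e he
      rw [mem_centralizer_iff]
      intro y hy
      rw [Set.mem_singleton_iff] at hy
      rw [hy]
      exact (mem_centralizer_iff.mp hxE e he).symm
    have h3 : E' ≤ centralizer ({x} : Set H) := by
      intro e he
      rw [mem_centralizer_iff]
      intro y hy
      rw [Set.mem_singleton_iff] at hy
      rw [hy]
      exact (mem_centralizer_iff.mp hxE' e he).symm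
    rw [mem_centralizer_iff]
    intro y hy
    have := mem_centralizer_iff.mp ((sup_le h1 h3) (hsup hy)) x (Set.mem_singleton x)
    exact this.symm
  have := hsplit.1
  rwa [hbot, bot_sup_eq] at this

/-- (B2a) Steps 1-2. -/
theorem step12 (c : BCfg p q r σ τ P Q W CP) (h2 : ∃ x ∈ P, x⁻¹ * (σ * x * σ⁻¹) ∉ CP) :
    ∃ E0 E1 Q0 Q1 Q2 : Subgroup H, B2Str σ τ P Q CP E0 E1 Q0 Q1 Q2 := by
  have hp : p.Prime := Fact.out
  have ctx := bcfg_ctx c h2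
  have hs := bcfg_hypSet c
  have hσ3 : σ * σ * σ = 1 := by
    rw [ctx.sigma_sq, inv_mul_cancel]
  set E0 := (bcfg_ctx c h2).E with hE0def
  have hW2 := Cfsg.Agent.Helper60.WardW2.gen_hyperplanes Q P CP hs.hVab hs.hTV hs.hcop hs.hS0T
    hs.hS0 hs.hcomm hs.hpow hs.hfix
  have hQne : Q ≠ ⊥ := by
    intro h
    apply c.hCPne
    rw [c.hCP, h]
    apply le_antisymm inf_le_left
    intro x hx
    refine mem_inf.mpr ⟨hx, ?_⟩
    rw [mem_centralizer_iff]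
    intro y hy
    have : y = 1 := by simpa using hy
    rw [this, one_mul, mul_one]
  have hex : ∃ Y, IsHyp p P CP Y ∧ Q ⊓ centralizer (Y : Set H) ≠ ⊥ := by
    by_contra hcon
    push Not at hcon
    apply hQne
    rw [eq_bot_iff]
    refine hW2.trans (iSup_le ?_)
    rintro ⟨D, hD⟩
    have := hcon D hD
    rw [this]
  obtain ⟨Y, hY, hYne⟩ := hex
  obtain ⟨i0, -, hYeq⟩ := hyp_eq c h2 hY hYne
  have hE0hyp : IsHyp p P CP E0 := by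
    have := isHyp_conj hY ((σ ^ i0)⁻¹) (inv_mem (pow_mem c.hPinv.1 i0))
      (inv_mem (pow_mem ctx.hCinv.1 i0))
    rw [hYeq, map_conj_map_conj, inv_mul_cancel, map_conj_one] at this
    exact this
  have hQ0ne : Q ⊓ centralizer (E0 : Set H) ≠ ⊥ := by
    intro h
    apply hYne
    rw [hYeq, ← map_conj_inf_centralizer (pow_mem c.hQinv.1 i0), h, Subgroup.map_bot]
  have hσE0 : σ ∉ normalizer (E0 : Set H) := sigma_not_mem_normalizer c h2 hE0hyp hQ0ne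
  have hτE0 : τ ∈ normalizer (E0 : Set H) := (bcfg_ctx c h2).tau_mem_normalizer_E
  have facts0 := hypFacts c.hS c.hp2 c.hp3 c.hq3 c.hpq hs c.hQea c.hQinv c.hPinv
    (bcfg_CP_inv c) c.hfixQ E0 hE0hyp hQ0ne
  set E1 := E0.map (MulAut.conj σ).toMonoidHom with hE1def
  set E2 := E1.map (MulAut.conj σ).toMonoidHom with hE2def
  have hE1hyp : IsHyp p P CP E1 := isHyp_conj hE0hyp σ c.hPinv.1 ctx.hCinv.1
  have hE2hyp : IsHyp p P CP E2 := isHyp_conj hE1hyp σ c.hPinv.1 ctx.hCinv.1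
  have hE10 : E1 ≠ E0 := fun h => hσE0 (mem_normalizer_of_map_conj_eq E0 σ h)
  have hτ1Q : σ * τ * σ⁻¹ ∈ normalizer (Q : Set H) :=
    mul_mem (mul_mem c.hQinv.1 c.hQinv.2) (inv_mem c.hQinv.1)
  refine ⟨E0, E1, Q ⊓ centralizer (E0 : Set H), Q ⊓ centralizer (E1 : Set H),
    Q ⊓ centralizer (E2 : Set H), ?_⟩
  refine
    { hQ0 := rfl
      hQ1 := rfl
      hQ2le := inf_le_left
      hE0 := ⟨hE0hyp.1, hE0hyp.2.1⟩
      hE1 := ⟨hE1hyp.1, hE1hyp.2.1⟩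
      hQ0ne := hQ0ne
      hQ01 := (map_conj_inf_centralizer c.hQinv.1).symm
      hQ12 := (map_conj_inf_centralizer c.hQinv.1).symm
      hQ20 := ?_
      hinv := ?_
      hPQ0 := fun x hx => mem_normalizer_inf_centralizer (c.hPQ hx) (hyp_normal hs hE0hyp hx)
      hPQ1 := fun x hx => mem_normalizer_inf_centralizer (c.hPQ hx) (hyp_normal hs hE1hyp hx)
      hPQ2 := fun x hx => mem_normalizer_inf_centralizer (c.hPQ hx) (hyp_normal hs hE2hyp hx)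
      hcomm10 := le_commutator_of_hyp c hE1hyp hE0hyp hE10.symm
      hcomm01 := le_commutator_of_hyp c hE0hyp hE1hyp hE10
      hswap := ?_
      hcover := ?_ }
  · rw [map_conj_inf_centralizer c.hQinv.1, hE2def, hE1def, map_conj_map_conj, map_conj_map_conj,
      hσ3, map_conj_one]
  · intro u hu
    have := (facts0.2.2.2 0 hσE0 (by simpa using hτE0)).1 u hu
    simpa using this
  · rw [map_conj_inf_centralizer hτ1Q, hE2def, hE1def, map_conj_map_conj, map_conj_map_conj]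
    have e : σ * τ * σ⁻¹ * σ * σ = τ := by
      calc σ * τ * σ⁻¹ * σ * σ = σ * (τ * σ) := by group
        _ = σ * (σ⁻¹ * τ) := by rw [tau_sigma c.hS]
        _ = τ := by group
    rw [e, map_conj_eq_of_mem_normalizer E0 τ hτE0]
  · intro y hy
    have h1 : E1 = ((bcfg_ctx c h2).tauI 1).E := by
      rw [(bcfg_ctx c h2).E_tauI 1, pow_one]
    rw [h1] at hy
    obtain ⟨hyP, hy'⟩ := hy
    simp only [pow_one] at hy'
    obtain ⟨hx, hx'⟩ := (bcfg_ctx c h2).cover hyP hy'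
    exact ⟨_, hx, hx'⟩

end main

end Cfsg.Agent.Helper54.ShultB2
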