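import Mathlib
import Cfsg.Agent.Helper54.ShultB2a
import Cfsg.Agent.Helper62.ShultB2b

/-!
# Shult S3 (S4305), piece (B2) of helper1's plan #4604: Lemma B, minimal configuration, `σ` does
not centralize `P / CP` (helper54; Step 3 by helper62)
-/

set_option autoImplicit false
set_option linter.unusedSectionVars false

namespace Cfsg.Agent.Helper54.ShultB2

open Subgroup Cfsg.Agent.Helper1.Shult

variable {H : Type*} [Group H] [Finite H]

theorem bcfg_hypSetW {p q r : ℕ} [Fact p.Prime] [Fact q.Prime] [Fact r.Prime] {σ τ : H}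
    {P Q W CP : Subgroup H} (c : BCfg p q r σ τ P Q W CP) : HypSet q W Q ⊥ where
  hVab := c.hW.1
  hTV := c.hQW
  hTs := c.hQ
  hcop := by
    have hq : q.Prime := Fact.out
    have hr : r.Prime := Fact.out
    obtain ⟨n, hn⟩ := IsPGroup.iff_card.mp c.hWr
    rw [hn]
    exact Nat.Coprime.pow_left n ((Nat.coprime_primes hr hq).mpr (Ne.symm c.hqr))
  hS0T := bot_le
  hS0 := bot_le
  hcomm := by
    intro t ht u hu
    rw [mem_bot, c.hQea.1 t ht u hu]
    group
  hpow := fun t ht => by rw [mem_bot]; exact c.hQea.2 t ht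
  hfix := c.hWQ

theorem inv_bot (σ τ : H) : Inv σ τ (⊥ : Subgroup H) := by
  constructor <;>
  · rw [mem_normalizer_iff]
    intro x
    simp only [mem_bot]
    constructor
    · rintro rfl; group
    · intro h
      have : x = σ⁻¹ * 1 * σ ∨ True := Or.inr trivial
      first
        | (have e : x = σ⁻¹ * (σ * x * σ⁻¹) * σ := by group
           rw [e, h]; group)
        | (have e : x = τ⁻¹ * (τ * x * τ⁻¹) * τ := by group
           rw [e, h]; group)

/-- (B2) Lemma B, minimal configuration, `σ` does not centralize `P / CP`. -/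
theorem lemmaB_case2 {p q r : ℕ} [Fact p.Prime] [Fact q.Prime] [Fact r.Prime] {σ τ : H}
    {P Q W CP : Subgroup H} (c : BCfg p q r σ τ P Q W CP)
    (h2 : ∃ x ∈ P, x⁻¹ * (σ * x * σ⁻¹) ∉ CP) : False := by
  obtain ⟨E0, E1, Q0, Q1, Q2, s⟩ := step12 c h2
  refine Cfsg.Agent.Helper62.ShultB2b.step3 c s ?_
  intro D hD hne
  exact hypFacts c.hS c.hq2 c.hq3 c.hr3 c.hqr (bcfg_hypSetW c) c.hW c.hWinv c.hQinv (inv_bot σ τ)
    c.hfixW D hD hne

end Cfsg.Agent.Helper54.ShultB2
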