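import Cfsg.Agent.Helper54.FrobAct2
import Cfsg.Agent.Helper48.NoncyclicAbelian
import Cfsg.Agent.Helper71.FrobPP

set_option autoImplicit false
set_option linter.style.haveILetI false
set_option linter.unusedVariables false
set_option linter.unusedSectionVars false

/-!
# Thompson's lemma on invariant `p'`-subgroups of groups of characteristic `p` (helper54)
-/

namespace Cfsg.Agent.Helper54.TA

open Cfsg Cfsg.Agent.Helper24 Cfsg.Agent.Helper54.FA

variable {G : Type*} [Group G]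

/-- For `B ≤ A` with `A` an abelian `p`-group: either `A / B` is cyclic, or it contains a copy of
`Z_p × Z_p`. -/
theorem cyclic_or_pair [Finite G] {p : ℕ} [hp : Fact p.Prime] (A B : Subgroup G) (hBA : B ≤ A)
    (hAc : ∀ x ∈ A, ∀ y ∈ A, x * y = y * x) (hAp : IsPGroup p A) :
    (∃ a₀ ∈ A, ∀ x ∈ A, ∃ k : ℕ, x * (a₀ ^ k)⁻¹ ∈ B) ∨
    (∃ f ∈ A, ∃ g ∈ A, f ^ p ∈ B ∧ g ^ p ∈ B ∧
      ∀ i j : ℕ, i < p → j < p → f ^ i * g ^ j ∈ B → i = 0 ∧ j = 0) := by
  classical
  letI : CommGroup ↥A :=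
    { (inferInstance : Group ↥A) with mul_comm := fun x y => Subtype.ext (hAc x x.2 y y.2) }
  set B' : Subgroup ↥A := B.subgroupOf A with hB'
  have hmk : ∀ x : ↥A, (QuotientGroup.mk x : ↥A ⧸ B') = 1 ↔ (x : G) ∈ B := by
    intro x
    rw [QuotientGroup.eq_one_iff, hB', Subgroup.mem_subgroupOf]
  by_cases hcyc : IsCyclic (↥A ⧸ B')
  · left
    obtain ⟨e, he⟩ := IsCyclic.exists_monoid_generator (α := ↥A ⧸ B')
    obtain ⟨a₀, rfl⟩ := QuotientGroup.mk_surjective e
    refine ⟨a₀, a₀.2, ?_⟩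
    intro x hx
    obtain ⟨k, hk⟩ := he (QuotientGroup.mk (⟨x, hx⟩ : ↥A))
    refine ⟨k, ?_⟩
    have h1 : (QuotientGroup.mk ((⟨x, hx⟩ : ↥A) * (a₀ ^ k)⁻¹) : ↥A ⧸ B') = 1 := by
      rw [QuotientGroup.mk_mul, QuotientGroup.mk_inv, QuotientGroup.mk_pow]
      have : (QuotientGroup.mk a₀ : ↥A ⧸ B') ^ k = QuotientGroup.mk (⟨x, hx⟩ : ↥A) := hk
      rw [this, mul_inv_cancel]
    have := (hmk _).mp h1
    simpa using this
  · right
    obtain ⟨r, hr, hr2⟩ := Cfsg.Agent.Helper48.exists_prime_sq_le_card_torsion hcyc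
    have hEp : IsPGroup p (↥A ⧸ B') := hAp.to_quotient B'
    set Ω : Subgroup (↥A ⧸ B') := (powMonoidHom r : (↥A ⧸ B') →* (↥A ⧸ B')).ker with hΩ
    have hΩmem : ∀ x, x ∈ Ω ↔ x ^ r = 1 := by
      intro x; rw [hΩ, MonoidHom.mem_ker, powMonoidHom_apply]
    have hrp : r = p := by
      by_contra hne
      have hbot : Ω = ⊥ := by
        rw [Subgroup.eq_bot_iff_forall]
        intro x hx
        obtain ⟨k, hk⟩ := hEp x
        have h1 : orderOf x ∣ r := orderOf_dvd_of_pow_eq_one ((hΩmem x).mp hx)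
        have h2 : orderOf x ∣ p ^ k := orderOf_dvd_of_pow_eq_one hk
        have hcop : Nat.Coprime r (p ^ k) :=
          Nat.Coprime.pow_right k ((Nat.coprime_primes hr hp.out).mpr hne)
        exact orderOf_eq_one_iff.mp (Nat.eq_one_of_dvd_coprimes hcop h1 h2)
      rw [hbot, Subgroup.card_bot] at hr2
      have := hr.two_le
      nlinarith
    subst hrp
    -- pick `f̄ ≠ 1` in `Ω`
    obtain ⟨fb, hfb, hfb1⟩ : ∃ x ∈ Ω, x ≠ 1 := by
      by_contra hcon
      push Not at hcon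
      have hbot : Ω = ⊥ := (Subgroup.eq_bot_iff_forall Ω).mpr hcon
      rw [hbot, Subgroup.card_bot] at hr2
      have := hr.two_le
      nlinarith
    have hfbp : fb ^ r = 1 := (hΩmem fb).mp hfb
    have hord : orderOf fb = r := orderOf_eq_prime hfbp hfb1
    obtain ⟨gb, hgb, hgb1⟩ : ∃ x ∈ Ω, x ∉ Subgroup.zpowers fb := by
      by_contra hcon
      push Not at hcon
      have hle : Ω ≤ Subgroup.zpowers fb := hcon
      have h1 := Subgroup.card_le_of_le hle
      rw [Nat.card_zpowers, hord] at h1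
      have := hr.two_le
      nlinarith
    have hgbp : gb ^ r = 1 := (hΩmem gb).mp hgb
    obtain ⟨f, rfl⟩ := QuotientGroup.mk_surjective fb
    obtain ⟨g, rfl⟩ := QuotientGroup.mk_surjective gb
    refine ⟨f, f.2, g, g.2, ?_, ?_, ?_⟩
    · have := (hmk (f ^ r)).mp (by rw [QuotientGroup.mk_pow]; exact hfbp)
      simpa using this
    · have := (hmk (g ^ r)).mp (by rw [QuotientGroup.mk_pow]; exact hgbp)
      simpa using this
    · intro i j hi hj hij
      have h1 : (QuotientGroup.mk f : ↥A ⧸ B') ^ i * (QuotientGroup.mk g : ↥A ⧸ B') ^ j = 1 := by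
        rw [← QuotientGroup.mk_pow, ← QuotientGroup.mk_pow, ← QuotientGroup.mk_mul, hmk]
        simpa using hij
      have hj0 : j = 0 := by
        by_contra hj0
        apply hgb1
        have hcop : Nat.Coprime j r := by
          rw [Nat.coprime_comm, Nat.Prime.coprime_iff_not_dvd hr]
          exact Nat.not_dvd_of_pos_of_lt (Nat.pos_of_ne_zero hj0) hj
        apply mem_of_pow_mem_coprime hcop
        · have : (QuotientGroup.mk g : ↥A ⧸ B') ^ j = ((QuotientGroup.mk f : ↥A ⧸ B') ^ i)⁻¹ :=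
            eq_inv_of_mul_eq_one_right h1
          rw [this]
          exact Subgroup.inv_mem _ (Subgroup.pow_mem _ (Subgroup.mem_zpowers _) _)
        · rw [hgbp]; exact Subgroup.one_mem _
      subst hj0
      rw [pow_zero, mul_one] at h1
      have h2 : orderOf (QuotientGroup.mk f : ↥A ⧸ B') ∣ i := orderOf_dvd_of_pow_eq_one h1
      rw [hord] at h2
      exact ⟨Nat.eq_zero_of_dvd_of_lt h2 hi, rfl⟩

section thompson

variable [Finite G] {p q : ℕ} [hp : Fact p.Prime] [hq : Fact q.Prime]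

/-- Common data for Thompson's lemma: `Q` a normal self-centralizing `p`-subgroup, `A` an abelian
`p`-subgroup containing every `p`-element of its centralizer. -/
structure TData (p : ℕ) (Q A : Subgroup G) : Prop where
  Qn : Q.Normal
  Qp : IsPGroup p Q
  CQ : Subgroup.centralizer (Q : Set G) ≤ Q
  Ap : IsPGroup p A
  Ac : ∀ x ∈ A, ∀ y ∈ A, x * y = y * x
  full : ∀ z ∈ Subgroup.centralizer (A : Set G), (∃ k : ℕ, z ^ p ^ k = 1) → z ∈ A

theorem TData.mem_normalizer {Q A : Subgroup G} (h : TData p Q A) (g : G) :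
    g ∈ Subgroup.normalizer (Q : Set G) := by
  haveI := h.Qn
  rw [Subgroup.normalizer_eq_top]; exact Subgroup.mem_top g

theorem orderOf_coprime_of_isPGroup (hqp : q ≠ p) {Y : Subgroup G} (hYq : IsPGroup q Y) {y : G}
    (hy : y ∈ Y) : (orderOf y).Coprime p := by
  obtain ⟨k, hk⟩ := hYq ⟨y, hy⟩
  have hk' : y ^ q ^ k = 1 := by simpa using congrArg Subtype.val hk
  have h1 : orderOf y ∣ q ^ k := orderOf_dvd_of_pow_eq_one hk'
  exact Nat.Coprime.coprime_dvd_left h1
    (Nat.Coprime.pow_left k ((Nat.coprime_primes hq.out hp.out).mpr hqp))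

/-- `A ∩ Q` is centralized by every `A`-invariant `p'`-subgroup. -/
theorem TData.commute_inf {Q A : Subgroup G} (h : TData p Q A) (hqp : q ≠ p) {Y : Subgroup G}
    (hYq : IsPGroup q Y) (hAY : A ≤ Subgroup.normalizer (Y : Set G)) {z : G} (hzA : z ∈ A)
    (hzQ : z ∈ Q) {y : G} (hy : y ∈ Y) : y * z = z * y := by
  haveI := h.Qn
  set c := z * y * z⁻¹ * y⁻¹ with hc
  have hcY : c ∈ Y := Y.mul_mem (conj_mem_of_mem_normalizer (hAY hzA) hy) (Y.inv_mem hy)
  have hcQ : c ∈ Q := by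
    have e : c = z * (y * z⁻¹ * y⁻¹) := by rw [hc]; group
    rw [e]
    exact Q.mul_mem hzQ (h.Qn.conj_mem _ (Q.inv_mem hzQ) y)
  have h1 := Cfsg.Agent.Helper49.eq_one_of_mem_pGroup_of_coprime h.Qp hcQ
    (orderOf_coprime_of_isPGroup hqp hYq hcY)
  calc y * z = (z * y * z⁻¹ * y⁻¹)⁻¹ * (z * y) := by group
    _ = z * y := by rw [← hc, h1]; group

theorem TData.mem_of_centralizes {Q A : Subgroup G} (h : TData p Q A) {u : G} (hu : u ∈ Q)
    (hcomm : ∀ b ∈ A, b * u = u * b) : u ∈ A := by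
  apply h.full u
  · rw [Subgroup.mem_centralizer_iff]; exact hcomm
  · obtain ⟨k, hk⟩ := h.Qp ⟨u, hu⟩
    exact ⟨k, by simpa using congrArg Subtype.val hk⟩

/-- An element of an `A`-invariant `p'`-subgroup centralizing `Q` is trivial. -/
theorem TData.eq_one_of_centralizes_Q {Q A : Subgroup G} (h : TData p Q A) (hqp : q ≠ p)
    {Y : Subgroup G} (hYq : IsPGroup q Y) {y : G} (hy : y ∈ Y) (hyQ : ∀ u ∈ Q, y * u = u * y) :
    y = 1 := by
  have h1 : y ∈ Q := by
    apply h.CQ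
    rw [Subgroup.mem_centralizer_iff]
    intro u hu
    exact (hyQ u hu).symm
  exact Cfsg.Agent.Helper49.eq_one_of_mem_pGroup_of_coprime h.Qp h1
    (orderOf_coprime_of_isPGroup hqp hYq hy)

/-- An element of an `A`-invariant `p'`-subgroup centralizing `A` is trivial. -/
theorem TData.eq_one_of_centralizes_A {Q A : Subgroup G} (h : TData p Q A) (hqp : q ≠ p)
    {Y : Subgroup G} (hYq : IsPGroup q Y) (hAY : A ≤ Subgroup.normalizer (Y : Set G)) {y : G}
    (hy : y ∈ Y) (hyA : ∀ b ∈ A, y * b = b * y) : y = 1 := by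
  apply h.eq_one_of_centralizes_Q hqp hYq hy
  apply thompson_PxQ h.Qp h.Ap (fun b _ => h.mem_normalizer b) (h.mem_normalizer y)
    (orderOf_coprime_of_isPGroup hqp hYq hy) hyA
  intro u hu hcomm
  exact h.commute_inf hqp hYq hAY (h.mem_of_centralizes hu hcomm) hu hy

/-- Thompson's lemma for `p = 2` under the class two hypothesis. -/
theorem TData.eq_bot_two {Q A : Subgroup G} (h : TData p Q A) (hqp : q ≠ p)
    (h2 : ∀ x ∈ Q, ∀ a ∈ A, ∀ b ∈ A, (x⁻¹ * a * x * a⁻¹) * b = b * (x⁻¹ * a * x * a⁻¹))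
    {Y : Subgroup G} (hYq : IsPGroup q Y) (hAY : A ≤ Subgroup.normalizer (Y : Set G)) : Y = ⊥ := by
  haveI := h.Qn
  rw [Subgroup.eq_bot_iff_forall]
  intro y hy
  apply h.eq_one_of_centralizes_A hqp hYq hAY hy
  intro a ha
  set c := y * a * y⁻¹ * a⁻¹ with hc
  have hcY : c ∈ Y := by
    have e : c = y * (a * y⁻¹ * a⁻¹) := by rw [hc]; group
    rw [e]
    exact Y.mul_mem hy (conj_mem_of_mem_normalizer (hAY ha) (Y.inv_mem hy))
  -- the commutators `[x, a]` lie in `A ∩ Q`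
  have hcomm_mem : ∀ x ∈ Q, ∀ a' ∈ A, x⁻¹ * a' * x * a'⁻¹ ∈ A ∧ x⁻¹ * a' * x * a'⁻¹ ∈ Q := by
    intro x hx a' ha'
    have hQ : x⁻¹ * a' * x * a'⁻¹ ∈ Q := by
      have e : x⁻¹ * a' * x * a'⁻¹ = x⁻¹ * (a' * x * a'⁻¹) := by group
      rw [e]
      exact Q.mul_mem (Q.inv_mem hx) (h.Qn.conj_mem _ hx a')
    exact ⟨h.mem_of_centralizes hQ (fun b hb => (h2 x hx a' ha' b hb).symm), hQ⟩
  have hc1 : c = 1 := by
    apply h.eq_one_of_centralizes_Q hqp hYq hcY
    intro x hx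
    -- `c x c⁻¹ = x z₂ z₁`
    set z₁ := x⁻¹ * a⁻¹ * x * a⁻¹⁻¹ with hz₁
    set x' := y⁻¹ * x * y with hx'
    have hx'Q : x' ∈ Q := by
      have := h.Qn.conj_mem x hx y⁻¹
      simpa [hx'] using this
    set z₂ := x'⁻¹ * a * x' * a⁻¹ with hz₂
    obtain ⟨hz₁A, hz₁Q⟩ := hcomm_mem x hx a⁻¹ (A.inv_mem ha)
    obtain ⟨hz₂A, hz₂Q⟩ := hcomm_mem x' hx'Q a ha
    have hyz₁ : y * z₁ = z₁ * y := h.commute_inf hqp hYq hAY hz₁A hz₁Q hy
    have hyz₂ : y * z₂ = z₂ * y := h.commute_inf hqp hYq hAY hz₂A hz₂Q hy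
    have haz₁ : a * z₁ = z₁ * a := h.Ac a ha z₁ hz₁A
    have e1 : a⁻¹ * x * a = x * z₁ := by rw [hz₁]; group
    have e2 : y⁻¹ * (x * z₁) * y = x' * z₁ := by
      calc y⁻¹ * (x * z₁) * y = y⁻¹ * x * (z₁ * y) := by group
        _ = y⁻¹ * x * (y * z₁) := by rw [hyz₁]
        _ = x' * z₁ := by rw [hx']; group
    have e3 : a * (x' * z₁) * a⁻¹ = x' * z₂ * z₁ := by
      calc a * (x' * z₁) * a⁻¹ = a * x' * (z₁ * a⁻¹) := by group
        _ = a * x' * (a⁻¹ * z₁) := by
          have : z₁ * a⁻¹ = a⁻¹ * z₁ := by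
            calc z₁ * a⁻¹ = a⁻¹ * (a * z₁) * a⁻¹ := by group
              _ = a⁻¹ * (z₁ * a) * a⁻¹ := by rw [haz₁]
              _ = a⁻¹ * z₁ := by group
          rw [this]
        _ = x' * z₂ * z₁ := by rw [hz₂]; group
    have e4 : y * (x' * z₂ * z₁) * y⁻¹ = x * (z₂ * z₁) := by
      calc y * (x' * z₂ * z₁) * y⁻¹ = y * x' * (z₂ * (z₁ * y⁻¹)) := by group
        _ = y * x' * (z₂ * (y⁻¹ * z₁)) := by
          have : z₁ * y⁻¹ = y⁻¹ * z₁ := by
            calc z₁ * y⁻¹ = y⁻¹ * (y * z₁) * y⁻¹ := by group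
              _ = y⁻¹ * (z₁ * y) * y⁻¹ := by rw [hyz₁]
              _ = y⁻¹ * z₁ := by group
          rw [this]
        _ = y * x' * ((z₂ * y⁻¹) * z₁) := by group
        _ = y * x' * ((y⁻¹ * z₂) * z₁) := by
          have : z₂ * y⁻¹ = y⁻¹ * z₂ := by
            calc z₂ * y⁻¹ = y⁻¹ * (y * z₂) * y⁻¹ := by group
              _ = y⁻¹ * (z₂ * y) * y⁻¹ := by rw [hyz₂]
              _ = y⁻¹ * z₂ := by group
          rw [this]
        _ = x * (z₂ * z₁) := by rw [hx']; group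
    have hcx : c * x * c⁻¹ = x * (z₂ * z₁) := by
      calc c * x * c⁻¹ = y * (a * (y⁻¹ * (a⁻¹ * x * a) * y) * a⁻¹) * y⁻¹ := by rw [hc]; group
        _ = x * (z₂ * z₁) := by rw [e1, e2, e3, e4]
    have hzA : z₂ * z₁ ∈ A := A.mul_mem hz₂A hz₁A
    have hzQ : z₂ * z₁ ∈ Q := Q.mul_mem hz₂Q hz₁Q
    have hcz : Commute c (z₂ * z₁) := h.commute_inf hqp hYq hAY hzA hzQ hcY
    have hzp : ∃ k : ℕ, (z₂ * z₁) ^ p ^ k = 1 := by
      obtain ⟨k, hk⟩ := h.Qp ⟨_, hzQ⟩
      exact ⟨k, by simpa using congrArg Subtype.val hk⟩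
    have h3 := Cfsg.Agent.Helper49.eq_one_of_conj_eq_mul (p := p) hcx hcz hzp
      (orderOf_coprime_of_isPGroup hqp hYq hcY)
    rw [h3, mul_one] at hcx
    calc c * x = c * x * c⁻¹ * c := by group
      _ = x * c := by rw [hcx]
  calc y * a = (y * a * y⁻¹ * a⁻¹) * (a * y) := by group
    _ = a * y := by rw [← hc, hc1, one_mul]

theorem mem_normalizer_of_centralizes {B : Subgroup G} {g : G} (h : ∀ b ∈ B, g * b = b * g) :
    g ∈ Subgroup.normalizer (B : Set G) := by
  apply Subgroup.mem_normalizer_fintype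
  intro b hb
  have e : g * b * g⁻¹ = b := by rw [h b hb]; group
  rw [e]; exact hb

/-- Thompson's lemma for odd `p` and abelian `Y`. -/
theorem TData.eq_bot_odd_abelian {Q A : Subgroup G} (h : TData p Q A) (hqp : q ≠ p) (hp2 : p ≠ 2)
    {Y : Subgroup G} (hYq : IsPGroup q Y) (hAY : A ≤ Subgroup.normalizer (Y : Set G))
    (hYc : ∀ x ∈ Y, ∀ y ∈ Y, x * y = y * x) : Y = ⊥ := by
  classical
  haveI := h.Qn
  by_contra hYne
  -- choose `B ≤ A` maximal with `C_Y(B) ≠ 1`
  set 𝓑 : Set (Subgroup G) := {B | B ≤ A ∧ Y ⊓ Subgroup.centralizer (B : Set G) ≠ ⊥} with h𝓑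
  have hfin : 𝓑.Finite := Set.toFinite _
  have hbotmem : (⊥ : Subgroup G) ∈ 𝓑 := by
    refine ⟨bot_le, ?_⟩
    have : Subgroup.centralizer (((⊥ : Subgroup G) : Subgroup G) : Set G) = ⊤ := by
      rw [Subgroup.coe_bot]; exact Subgroup.centralizer_eq_top_iff_subset.mpr (by simp)
    rw [this, inf_top_eq]; exact hYne
  obtain ⟨B, -, hBmax⟩ := hfin.exists_le_maximal hbotmem
  obtain ⟨hBA, hY₁ne⟩ := hBmax.prop
  set Y₁ : Subgroup G := Y ⊓ Subgroup.centralizer (B : Set G) with hY₁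
  have hY₁Y : Y₁ ≤ Y := inf_le_left
  have hY₁q : IsPGroup q Y₁ := hYq.to_le hY₁Y
  have hY₁B : ∀ y ∈ Y₁, ∀ b ∈ B, y * b = b * y := by
    intro y hy b hb
    have := (Subgroup.mem_inf.mp hy).2
    rw [Subgroup.mem_centralizer_iff] at this
    exact (this b hb).symm
  have hAB : ∀ x ∈ A, ∀ b ∈ B, x * b = b * x := fun x hx b hb => h.Ac x hx b (hBA hb)
  have hAY₁ : A ≤ Subgroup.normalizer (Y₁ : Set G) := fun x hx =>
    mem_normalizer_inf_centralizer (hAY hx) (mem_normalizer_of_centralizes (hAB x hx))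
  -- elements of `A` outside `B` act without fixed points on `Y₁`
  have hfpfA : ∀ x ∈ A, x ∉ B → ∀ y ∈ Y₁, x * y = y * x → y = 1 := by
    intro x hx hxB y hy hxy
    by_contra hy1
    apply hxB
    have hmem : B ⊔ Subgroup.zpowers x ∈ 𝓑 := by
      refine ⟨sup_le hBA (Subgroup.zpowers_le.mpr hx), ?_⟩
      intro hbot
      apply hy1
      have hle : B ⊔ Subgroup.zpowers x ≤ Subgroup.centralizer ({y} : Set G) := by
        apply sup_le
        · intro b hb
          rw [Subgroup.mem_centralizer_singleton_iff]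
          exact (hY₁B y hy b hb).symm
        · rw [Subgroup.zpowers_le, Subgroup.mem_centralizer_singleton_iff]
          exact hxy
      have hyin : y ∈ Y ⊓ Subgroup.centralizer ((B ⊔ Subgroup.zpowers x : Subgroup G) : Set G) := by
        refine Subgroup.mem_inf.mpr ⟨hY₁Y hy, ?_⟩
        rw [Subgroup.mem_centralizer_iff]
        intro w hw
        exact Subgroup.mem_centralizer_singleton_iff.mp (hle hw)
      rw [hbot, Subgroup.mem_bot] at hyin
      exact hyin
    have := hBmax.le_of_ge hmem le_sup_left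
    exact this (Subgroup.mem_sup_right (Subgroup.mem_zpowers x))
  have hY₁cop : (Nat.card Y₁).Coprime p := by
    obtain ⟨k, hk⟩ := hY₁q.exists_card_eq
    rw [hk]
    exact Nat.Coprime.pow_left k ((Nat.coprime_primes hq.out hp.out).mpr hqp)
  apply hY₁ne
  rw [Subgroup.eq_bot_iff_forall]
  rcases cyclic_or_pair A B hBA h.Ac h.Ap with ⟨a₀, ha₀, hgen⟩ | ⟨f, hf, g, hg, hfp, hgp, hfg⟩
  · -- cyclic case: the Frobenius action lemma
    have hex : ∃ n : ℕ, 0 < n ∧ a₀ ^ n ∈ B :=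
      ⟨orderOf a₀, orderOf_pos a₀, by rw [pow_orderOf_eq_one]; exact B.one_mem⟩
    set n := Nat.find hex with hn
    obtain ⟨hn0, hnB⟩ := Nat.find_spec hex
    have hmin : ∀ i, 0 < i → i < n → a₀ ^ i ∉ B := fun i hi hin hiB =>
      Nat.find_min hex hin ⟨hi, hiB⟩
    set U : Subgroup G := Q ⊓ Subgroup.centralizer (B : Set G) with hU
    have hUmem : ∀ u, u ∈ U ↔ u ∈ Q ∧ ∀ b ∈ B, b * u = u * b := by
      intro u
      rw [hU, Subgroup.mem_inf, Subgroup.mem_centralizer_iff]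
      exact Iff.rfl
    have hFA : FAHyp p Y₁ a₀ n U := by
      refine ⟨h.Qp.to_le inf_le_left, ?_, ?_, ?_, ?_⟩
      · intro y hy
        exact mem_normalizer_inf_centralizer (h.mem_normalizer y)
          (mem_normalizer_of_centralizes (hY₁B y hy))
      · exact mem_normalizer_inf_centralizer (h.mem_normalizer a₀)
          (mem_normalizer_of_centralizes (hAB a₀ ha₀))
      · intro u hu
        exact ((hUmem u).mp hu).2 _ hnB
      · intro u hu hau y hy
        obtain ⟨huQ, huB⟩ := (hUmem u).mp hu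
        have hpow : ∀ k : ℕ, a₀ ^ k * u = u * a₀ ^ k := by
          intro k
          exact (Commute.pow_left (show Commute a₀ u from hau) k).eq
        have huA : u ∈ A := by
          apply h.mem_of_centralizes huQ
          intro x hx
          obtain ⟨k, hk⟩ := hgen x hx
          have h1 := huB _ hk
          calc x * u = (x * (a₀ ^ k)⁻¹) * (a₀ ^ k * u) := by group
            _ = (x * (a₀ ^ k)⁻¹) * (u * a₀ ^ k) := by rw [hpow k]
            _ = ((x * (a₀ ^ k)⁻¹) * u) * a₀ ^ k := by group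
            _ = (u * (x * (a₀ ^ k)⁻¹)) * a₀ ^ k := by rw [h1]
            _ = u * x := by group
        exact h.commute_inf hqp hYq hAY huA huQ (hY₁Y hy)
    have hfpf : ∀ i, 0 < i → i < n → ∀ y ∈ Y₁, a₀ ^ i * y = y * a₀ ^ i → y = 1 := by
      intro i hi hin y hy hcomm
      exact hfpfA _ (A.pow_mem ha₀ i) (hmin i hi hin) y hy hcomm
    have key := frobenius_action hp2 Y₁ a₀ n hn0 hY₁cop (hAY₁ ha₀) hfpf U hFA
    intro y hy
    apply h.eq_one_of_centralizes_Q hqp hYq (hY₁Y hy)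
    apply thompson_PxQ h.Qp (h.Ap.to_le hBA) (fun b _ => h.mem_normalizer b) (h.mem_normalizer y)
      (orderOf_coprime_of_isPGroup hqp hYq (hY₁Y hy)) (hY₁B y hy)
    intro u hu hcomm
    exact key y hy u ((hUmem u).mpr ⟨hu, hcomm⟩)
  · -- non-cyclic case: the norm argument for `Z_p × Z_p`
    have hnf : ∀ n ∈ Y₁, f * n * f⁻¹ ∈ Y₁ := fun n hn => conj_mem_of_mem_normalizer (hAY₁ hf) hn
    have hng : ∀ n ∈ Y₁, g * n * g⁻¹ ∈ Y₁ := fun n hn => conj_mem_of_mem_normalizer (hAY₁ hg) hn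
    have hcomm₁ : ∀ a b : ↥Y₁, a * b = b * a := fun a b =>
      Subtype.ext (hYc a (hY₁Y a.2) b (hY₁Y b.2))
    have hconj_fix : ∀ (e : G), e ∈ B → ∀ y ∈ Y₁, e * y * e⁻¹ = y := by
      intro e he y hy
      rw [← hY₁B y hy e he]; group
    have key := Cfsg.Agent.Helper71.pow_eq_one_of_fpf_pair_grp hcomm₁ p hp.out.pos
      (Cfsg.Agent.Helper71.conjHom Y₁ g hng) (Cfsg.Agent.Helper71.conjHom Y₁ f hnf) ?_ ?_ ?_ ?_ ?_
    · intro y hy
      have h1 := congrArg Subtype.val (key ⟨y, hy⟩)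
      have h1' : y ^ p = 1 := by simpa using h1
      obtain ⟨k, hk⟩ := hY₁q ⟨y, hy⟩
      have hk' : y ^ q ^ k = 1 := by simpa using congrArg Subtype.val hk
      have hd1 : orderOf y ∣ p := orderOf_dvd_of_pow_eq_one h1'
      have hd2 : orderOf y ∣ q ^ k := orderOf_dvd_of_pow_eq_one hk'
      have hcop : Nat.Coprime p (q ^ k) :=
        Nat.Coprime.pow_right k ((Nat.coprime_primes hp.out hq.out).mpr (Ne.symm hqp))
      exact orderOf_eq_one_iff.mp (Nat.eq_one_of_dvd_coprimes hcop hd1 hd2)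
    · intro a
      apply Subtype.ext
      show g * (f * (a : G) * f⁻¹) * g⁻¹ = f * (g * (a : G) * g⁻¹) * f⁻¹
      have hgf : g * f = f * g := h.Ac g hg f hf
      calc g * (f * (a : G) * f⁻¹) * g⁻¹ = (g * f) * a * (g * f)⁻¹ := by group
        _ = (f * g) * a * (f * g)⁻¹ := by rw [hgf]
        _ = f * (g * (a : G) * g⁻¹) * f⁻¹ := by group
    · intro a
      apply Subtype.ext
      rw [Cfsg.Agent.Helper71.conjHom_iterate]
      exact hconj_fix _ hgp a a.2
    · intro a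
      apply Subtype.ext
      rw [Cfsg.Agent.Helper71.conjHom_iterate]
      exact hconj_fix _ hfp a a.2
    · intro k hk0 hkp a ha
      have h1 := congrArg Subtype.val ha
      rw [Cfsg.Agent.Helper71.conjHom_iterate] at h1
      have h2 : g ^ k * (a : G) = a * g ^ k := by
        calc g ^ k * (a : G) = (g ^ k * a * (g ^ k)⁻¹) * g ^ k := by group
          _ = a * g ^ k := by rw [h1]
      have hnB : g ^ k ∉ B := by
        intro hB
        have := hfg 0 k hp.out.pos hkp (by simpa using hB)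
        omega
      exact Subtype.ext (hfpfA _ (A.pow_mem hg k) hnB a a.2 h2)
    · intro i hi a ha
      have h1 := congrArg Subtype.val ha
      rw [Cfsg.Agent.Helper71.conjHom_iterate] at h1
      have h0 : ((Cfsg.Agent.Helper71.conjHom Y₁ f hnf a : ↥Y₁) : G) = f * a * f⁻¹ := rfl
      rw [h0] at h1
      have h2 : (g ^ i * f) * (a : G) = a * (g ^ i * f) := by
        calc (g ^ i * f) * (a : G) = (g ^ i * (f * a * f⁻¹) * (g ^ i)⁻¹) * (g ^ i * f) := by group
          _ = a * (g ^ i * f) := by rw [h1]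
      have hmemA : g ^ i * f ∈ A := A.mul_mem (A.pow_mem hg i) hf
      have hnB : g ^ i * f ∉ B := by
        intro hB
        have hcomm' : g ^ i * f = f ^ 1 * g ^ i := by
          rw [pow_one]; exact h.Ac _ (A.pow_mem hg i) f hf
        rw [hcomm'] at hB
        have := hfg 1 i hp.out.one_lt hi hB
        omega
      exact Subtype.ext (hfpfA _ hmemA hnB a a.2 h2)

/-- **Thompson's lemma**: in a group with a normal self-centralizing `p`-subgroup `Q`, an abelian
`p`-subgroup `A` containing every `p`-element of its centralizer normalizes no nontrivial `q`-subgroup,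
`q ≠ p` (for `p = 2` under a class two hypothesis on `Q A`). -/
theorem TData.eq_bot {Q A : Subgroup G} (h : TData p Q A) (hqp : q ≠ p)
    (h2 : p = 2 → ∀ x ∈ Q, ∀ a ∈ A, ∀ b ∈ A, (x⁻¹ * a * x * a⁻¹) * b = b * (x⁻¹ * a * x * a⁻¹))
    {Y : Subgroup G} (hYq : IsPGroup q Y) (hAY : A ≤ Subgroup.normalizer (Y : Set G)) : Y = ⊥ := by
  by_cases hp2 : p = 2
  · exact h.eq_bot_two hqp (h2 hp2) hYq hAY
  · by_contra hYne
    -- the centre of `Y`
    set Y₀ : Subgroup G := Y ⊓ Subgroup.centralizer (Y : Set G) with hY₀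
    have hY₀Y : Y₀ ≤ Y := inf_le_left
    have hAY₀ : A ≤ Subgroup.normalizer (Y₀ : Set G) := fun x hx =>
      mem_normalizer_inf_centralizer (hAY hx) (hAY hx)
    have hY₀c : ∀ x ∈ Y₀, ∀ y ∈ Y₀, x * y = y * x := by
      intro x hx y hy
      have := (Subgroup.mem_inf.mp hy).2
      rw [Subgroup.mem_centralizer_iff] at this
      exact this x (hY₀Y hx)
    have hY₀bot := h.eq_bot_odd_abelian hqp hp2 (hYq.to_le hY₀Y) hAY₀ hY₀c
    haveI : Nontrivial ↥Y := (Subgroup.nontrivial_iff_ne_bot Y).mpr hYne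
    haveI : Nontrivial (Subgroup.center ↥Y) := hYq.center_nontrivial
    obtain ⟨z, hz⟩ := exists_ne (1 : Subgroup.center ↥Y)
    have hzmem : ((z : ↥Y) : G) ∈ Y₀ := by
      refine Subgroup.mem_inf.mpr ⟨(z : ↥Y).2, ?_⟩
      rw [Subgroup.mem_centralizer_iff]
      intro y hy
      have := Subgroup.mem_center_iff.mp z.2 ⟨y, hy⟩
      exact congrArg Subtype.val this
    rw [hY₀bot, Subgroup.mem_bot] at hzmem
    apply hz
    apply Subtype.ext
    apply Subtype.ext
    exact hzmem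

end thompson

end Cfsg.Agent.Helper54.TA
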